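import Cfsg.Agent.Lib.Recognition.ThreeEight.Alt

/-!
Finite facts on the centralizer of `b = (0 1)(2 3)(4 5)(6 7)` in `A₈` and on the elementary
abelian group of order sixteen inside it.
-/

set_option autoImplicit false
set_option maxRecDepth 10000
set_option synthInstance.maxSize 2000
set_option synthInstance.maxHeartbeats 400000

namespace CfsgLib.ThreeEight.Alt

open Equiv

theorem comm_three : ∀ π : Perm (Fin 4), π * (swap 0 1 * swap 1 2) = swap 0 1 * swap 1 2 * π →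
    ∃ i : Fin 3, π = (swap 0 1 * swap 1 2) ^ i.val := by
  decide +kernel

theorem dP_eq : dP = wr (swap 0 1 * swap 1 2) 0 := by decide +kernel

theorem cent_db_aux : ∀ i : Fin 3, ∀ a b c e : Fin 2,
    wr ((swap 0 1 * swap 1 2) ^ i.val) ![a, b, c, e] * dP =
      dP * wr ((swap 0 1 * swap 1 2) ^ i.val) ![a, b, c, e] →
    Perm.sign (wr ((swap 0 1 * swap 1 2) ^ i.val) ![a, b, c, e]) = 1 →
    wr ((swap 0 1 * swap 1 2) ^ i.val) ![a, b, c, e] = dP ^ i.val ∨
      wr ((swap 0 1 * swap 1 2) ^ i.val) ![a, b, c, e] = dP ^ i.val * bP := by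
  decide +kernel

/-- The even elements centralizing `b` and `d`. -/
theorem cent_db {x : Perm (Fin 8)} (hb : x * bP = bP * x) (hd : x * dP = dP * x)
    (hs : Perm.sign x = 1) : ∃ i : Fin 3, x = dP ^ i.val ∨ x = dP ^ i.val * bP := by
  obtain ⟨π, ε, rfl⟩ := cent_b hb
  have hd' := hd
  rw [dP_eq, wr_mul, wr_mul] at hd'
  obtain ⟨i, rfl⟩ := comm_three π (wr_fst hd')
  have e : ε = ![ε 0, ε 1, ε 2, ε 3] := funext fun k => by fin_cases k <;> rfl
  rw [e] at hd hs ⊢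
  exact ⟨i, cent_db_aux i _ _ _ _ hd hs⟩

/-- The four-group of `S₄`. -/
def vA (a b : Fin 2) : Perm (Fin 4) :=
  (swap 0 1 * swap 2 3) ^ a.val * (swap 0 2 * swap 1 3) ^ b.val

theorem vA_add : ∀ a b c e : Fin 2, vA a b * vA c e = vA (a + c) (b + e) := by decide +kernel

theorem vA_inj : ∀ a b c e : Fin 2, vA a b = vA c e → a = c ∧ b = e := by decide +kernel

/-- The elementary abelian group of order sixteen. -/
def e16 (x : (Fin 2 × Fin 2) × (Fin 2 × Fin 2)) : Perm (Fin 8) :=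
  p44 (vA x.1.1 x.1.2) (vA x.2.1 x.2.2)

theorem e16_add (x y : (Fin 2 × Fin 2) × (Fin 2 × Fin 2)) : e16 x * e16 y = e16 (x + y) := by
  rw [e16, e16, e16, p44_mul, vA_add, vA_add]
  rfl

theorem e16_injective : Function.Injective e16 := fun x y h => by
  obtain ⟨h1, h2⟩ := p44_injective h
  obtain ⟨a, b⟩ := vA_inj _ _ _ _ h1
  obtain ⟨c, e⟩ := vA_inj _ _ _ _ h2
  exact Prod.ext (Prod.ext a b) (Prod.ext c e)

theorem e16_zero : e16 ((0, 0), (0, 0)) = 1 := by decide +kernel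

theorem e16_facts : ∀ a b c e : Fin 2,
    Perm.sign (e16 ((a, b), (c, e))) = 1 ∧ e16 ((a, b), (c, e)) * bP = bP * e16 ((a, b), (c, e)) := by
  decide +kernel

/-- `(0 4)(1 5)(2 6)(3 7)`. -/
def sP : Perm (Fin 8) := swap 0 4 * swap 1 5 * (swap 2 6 * swap 3 7)

theorem sP_facts : Perm.sign sP = 1 ∧ sP * sP = 1 ∧ sP * bP = bP * sP ∧
    (∀ a b c e : Fin 2, e16 ((a, b), (c, e)) ≠ sP) ∧
    (∀ a b c e : Fin 2, sP * e16 ((a, b), (c, e)) * sP = e16 ((c, e), (a, b))) := by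
  refine ⟨?_, ?_, ?_, ?_, ?_⟩ <;> decide +kernel

theorem zP_norm : ∀ a b c e : Fin 2, ∃ a' b' : Fin 2,
    (swap 0 1 * swap 1 2 : Perm (Fin 8)) * e16 ((a, b), (c, e)) *
      (swap 0 1 * swap 1 2 : Perm (Fin 8))⁻¹ = e16 ((a', b'), (c, e)) := by
  decide +kernel

theorem sP'_norm : ∀ a b c e : Fin 2, ∃ c' e' : Fin 2,
    (swap 5 6 * swap 6 7 : Perm (Fin 8)) * e16 ((a, b), (c, e)) *
      (swap 5 6 * swap 6 7 : Perm (Fin 8))⁻¹ = e16 ((a, b), (c', e')) := by
  decide +kernel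

theorem tb_eq : tP * bP = aP ∧ aP ∈ flips ∧ aP' ∈ flips ∧ aP * bP ∈ flips ∧ bP = e16 ((1, 0), (1, 0)) ∧
    tP = e16 ((0, 0), (1, 0)) ∧ jP * aP' * (jP * aP') = 1 := by
  refine ⟨by decide +kernel, by simp [flips], by simp [flips], by simp [flips],
    by decide +kernel, by decide +kernel, by decide +kernel⟩

/-- In `A₅` no four-group normalized by an element of order three is also normalized by an
involution inverting that element. -/
theorem alt5_flip : ∀ a : alternatingGroup (Fin 5), a * a = 1 → a ≠ 1 →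
    ∀ d : alternatingGroup (Fin 5), d ^ 3 = 1 → d ≠ 1 → a * (d * a * d⁻¹) = d * a * d⁻¹ * a →
      d * (d * a * d⁻¹) * d⁻¹ = a * (d * a * d⁻¹) →
    ∀ j : alternatingGroup (Fin 5), j * j = 1 → j * d * j = d ^ 2 →
      j * a * j⁻¹ = a * (d * a * d⁻¹) → False := by
  decide +kernel

/-- In `S₃` no four-group is normalized by an element of order three. -/
theorem s3_flip : ∀ a d : Perm (Fin 3), a * a = 1 → d ^ 3 = 1 → d ≠ 1 →
    a * (d * a * d⁻¹) = d * a * d⁻¹ * a → d * (d * a * d⁻¹) * d⁻¹ = a * (d * a * d⁻¹) → a = 1 := by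
  decide +kernel

end CfsgLib.ThreeEight.Alt
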