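import Cfsg.Agent.Lib.Recognition.ThreeEight.CentT
import Cfsg.Agent.Lib.Recognition.ThreeEight.AltB
import Cfsg.Agent.Lib.PSL2.Basic
import Cfsg.Agent.Lib.Solvable.NilpotentSubgroups
import Cfsg.Agent.S3331

/-!
The centralizer of the involution `b`: modulo `b` it has a self-centralizing subgroup of order
three, so it is an extension of a nilpotent 3'-group by `S₃`.
-/

set_option autoImplicit false
set_option linter.style.haveILetI false
set_option linter.unusedSectionVars false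
set_option maxRecDepth 10000
set_option synthInstance.maxSize 2000
set_option synthInstance.maxHeartbeats 400000

namespace CfsgLib.ThreeEight

open Subgroup Equiv Alt

/-- An element of order three and an involution inverting it give six elements. -/
theorem six_map_injective {Q : Type*} [Group Q] {d j : Q} (hd : d ^ 3 = 1) (hd1 : d ≠ 1)
    (hj : j * j = 1) (hjd : j * d * j = d ^ 2) :
    Function.Injective fun x : Fin 3 × Fin 2 => d ^ x.1.val * j ^ x.2.val := by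
  have hne : ∀ m : ℕ, j ≠ d ^ m := fun m e => hd1 (by
    have h : j * d * j = d := by
      rw [e, ((Commute.refl d).pow_left m).eq, mul_assoc, ← e, hj, mul_one]
    rw [hjd, pow_two] at h
    exact mul_eq_left.1 h)
  have ho : orderOf d = 3 := orderOf_eq_prime hd hd1
  have hpow : ∀ p q : ℕ, p < 3 → q < 3 → d ^ p = d ^ q → p = q := fun p q hp hq h =>
    pow_injOn_Iio_orderOf (by simpa [ho] using hp) (by simpa [ho] using hq) h
  have hcross : ∀ p q : ℕ, p < 3 → d ^ p * j = d ^ q → False := by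
    intro p q hp h
    apply hne (3 - p + q)
    rw [pow_add, ← h, ← mul_assoc, ← pow_add, Nat.sub_add_cancel hp.le, hd, one_mul]
  rintro ⟨p, a⟩ ⟨q, b⟩ h
  simp only at h
  fin_cases a <;> fin_cases b <;> simp only [pow_zero, pow_one, mul_one] at h
  · rw [Fin.ext (hpow _ _ p.2 q.2 h)]
  · exact (hcross _ _ q.2 h.symm).elim
  · exact (hcross _ _ p.2 h).elim
  · rw [Fin.ext (hpow _ _ p.2 q.2 (mul_right_cancel h))]

/-- The centralizer of `b` in `A₈`. -/
def CB : Subgroup (Perm (Fin 8)) := alternatingGroup (Fin 8) ⊓ centralizer {bP}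

theorem mem_CB {y : Perm (Fin 8)} : y ∈ CB ↔ Perm.sign y = 1 ∧ y * bP = bP * y := by
  rw [CB, mem_inf, Perm.mem_alternatingGroup, mem_centralizer_singleton_iff]

theorem cb_sub : aP ∈ CB ∧ aP' ∈ CB ∧ dP ∈ CB ∧ jP ∈ CB ∧ bP ∈ CB := by
  obtain ⟨-, -, -, sb, sa, sa', sd, sj, -⟩ := basic_facts
  obtain ⟨fl, -, -, -, -, -, -, -, -, -, -, -, -, db, jb, -⟩ := flips_facts
  obtain ⟨-, afl, a'fl, -⟩ := tb_eq
  exact ⟨mem_CB.2 ⟨sa, (fl _ afl).1⟩, mem_CB.2 ⟨sa', (fl _ a'fl).1⟩, mem_CB.2 ⟨sd, db⟩,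
    mem_CB.2 ⟨sj, jb⟩, mem_CB.2 ⟨sb, rfl⟩⟩

/-- `(0 1)(2 3)` in the centralizer of `b`. -/
def cA : CB := ⟨aP, cb_sub.1⟩
/-- `(2 3)(4 5)` in the centralizer of `b`. -/
def cA' : CB := ⟨aP', cb_sub.2.1⟩
/-- `(0 2 4)(1 3 5)` in the centralizer of `b`. -/
def cD : CB := ⟨dP, cb_sub.2.2.1⟩
/-- `(2 4)(3 5)` in the centralizer of `b`. -/
def cJ : CB := ⟨jP, cb_sub.2.2.2.1⟩

theorem CB_rels {Q : Type*} [Group Q] (f : CB →* Q) :
    f cA * f cA = 1 ∧ f cD ^ 3 = 1 ∧ f cJ * f cJ = 1 ∧ f cJ * f cD * f cJ = f cD ^ 2 ∧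
    f cD * f cA * (f cD)⁻¹ = f cA' ∧ f cA * f cA' = f cA' * f cA ∧
    f cD * f cA' * (f cD)⁻¹ = f cA * f cA' ∧ f cJ * f cA * (f cJ)⁻¹ = f cA * f cA' := by
  obtain ⟨fl, -, -, dad, -, -, aa', da'd, jaj, d3, -, jj, jdj, -, -, -⟩ := flips_facts
  have q1 : cA * cA = 1 := Subtype.ext (fl aP tb_eq.2.1).2.2.2
  have q2 : cD ^ 3 = 1 := Subtype.ext d3
  have q3 : cJ * cJ = 1 := Subtype.ext jj
  have q4 : cJ * cD * cJ = cD ^ 2 := Subtype.ext jdj
  have q5 : cD * cA * cD⁻¹ = cA' := Subtype.ext dad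
  have q6 : cA * cA' = cA' * cA := Subtype.ext aa'
  have q7 : cD * cA' * cD⁻¹ = cA * cA' := Subtype.ext da'd
  have q8 : cJ * cA * cJ⁻¹ = cA * cA' := Subtype.ext jaj
  simp only [← map_mul, ← map_inv, ← map_pow]
  rw [q1, q2, q3, q4, q5, q7, q8]
  exact ⟨map_one f, map_one f, map_one f, rfl, rfl, congrArg f q6, rfl, rfl⟩

variable {G : Type*} [Group G]

namespace Emb

variable [Finite G] (E : Emb G)

/-- The centralizer of `b`. -/
def Cb : Subgroup G := centralizer {E.φ bP}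

theorem mem_Cb {g : G} : g ∈ E.Cb ↔ g * E.φ bP = E.φ bP * g := mem_centralizer_singleton_iff

/-- The part of the centralizer of `b` inside the image. -/
def ψ : CB →* E.Cb where
  toFun y := ⟨E.φ y, (E.mem_Cb).2 ((E.φ_comm (mem_CB.1 y.2).1 basic_facts.2.2.2.1).2 (mem_CB.1 y.2).2)⟩
  map_one' := Subtype.ext E.φ_one
  map_mul' x y := Subtype.ext (E.φ_mul (mem_CB.1 x.2).1 (mem_CB.1 y.2).1).symm

theorem coe_ψ (y : CB) : (E.ψ y : G) = E.φ y := rfl

theorem bP_comm_tP : bP * tP = tP * bP := by decide +kernel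

/-- Elements centralizing `t` and `b`. -/
theorem H_decomp_b {g : G} (hgt : g * E.φ tP = E.φ tP * g) (hgb : g * E.φ bP = E.φ bP * g) :
    ∃ o ∈ E.OT, o * E.φ bP = E.φ bP * o ∧
      ∃ k ∈ E.K, k * E.φ tP = E.φ tP * k ∧ k * E.φ bP = E.φ bP * k ∧ g = o * k := by
  obtain ⟨o, ho, k, hk, hkt, e⟩ := E.H_decomp hgt
  have hbt : E.φ bP * E.φ tP = E.φ tP * E.φ bP :=
    (E.φ_comm basic_facts.2.2.2.1 basic_facts.1).2 bP_comm_tP
  set b := E.φ bP
  have hbo : b * o * b⁻¹ ∈ E.OT := E.OT_conj hbt ho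
  have h1 : (b * o * b⁻¹) * (b * k * b⁻¹) = o * k := by
    calc (b * o * b⁻¹) * (b * k * b⁻¹) = b * (o * k) * b⁻¹ := by group
      _ = o * k := by rw [← e, ← hgb, mul_inv_cancel_right]
  have h2 : o⁻¹ * (b * o * b⁻¹) = k * (b * k * b⁻¹)⁻¹ := by
    rw [eq_mul_inv_iff_mul_eq, mul_assoc, h1, inv_mul_cancel_left]
  have hbk : b * k * b⁻¹ ∈ E.K := mul_mem (mul_mem (E.φ_mem bP) hk) (inv_mem (E.φ_mem bP))
  have h3 : o⁻¹ * (b * o * b⁻¹) = 1 :=
    E.OT_inf_K (mul_mem (inv_mem ho) hbo) (h2 ▸ mul_mem hk (inv_mem hbk))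
  have ho' : o * b = b * o := (mul_inv_eq_iff_eq_mul.1 (inv_mul_eq_one.1 h3).symm).symm
  refine ⟨o, ho, ho', k, hk, hkt, ?_, e⟩
  rw [e] at hgb
  have : o * (k * b) = o * (b * k) := by
    rw [← mul_assoc, hgb, ← mul_assoc, ← mul_assoc, ho']
  exact mul_left_cancel this

/-- The elements of the centralizer of `b` centralizing `d` lie in `⟨d, b⟩`. -/
theorem cent_d {g : G} (hgb : g * E.φ bP = E.φ bP * g) (hgd : g * E.φ dP = E.φ dP * g) :
    ∃ i : Fin 3, g = E.φ dP ^ i.val ∨ g = E.φ dP ^ i.val * E.φ bP := by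
  obtain ⟨y, sy, rfl⟩ := E.exists_of_mem (E.centralizer_dP hgd)
  have sb := basic_facts.2.2.2.1
  have sd := basic_facts.2.2.2.2.2.2.1
  obtain ⟨i, e | e⟩ := cent_db ((E.φ_comm sy sb).1 hgb) ((E.φ_comm sy sd).1 hgd) sy
  · exact ⟨i, Or.inl (by rw [e, E.φ_pow sd])⟩
  · refine ⟨i, Or.inr ?_⟩
    rw [e, E.φ_pow sd, E.φ_mul (by rw [map_pow, sd, one_pow]) sb]

/-- An involution conjugate to `t` in a normal 3'-subgroup of the centralizer of `b`. -/
theorem flip_of_mem (Nb : Subgroup G) (hn : ∀ g ∈ E.Cb, ∀ x ∈ Nb, g * x * g⁻¹ ∈ Nb)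
    (h3 : ¬ 3 ∣ Nat.card Nb) (ha' : E.φ aP' ∈ Nb) {x : G} (hx : x ∈ Nb) (hxK : x ∈ E.K)
    (hxb : x * E.φ bP = E.φ bP * x) (hxt : IsConj (E.φ tP) x) :
    ∃ f ∈ flips, x = E.φ f := by
  obtain ⟨y, sy, rfl⟩ := E.exists_of_mem hxK
  obtain ⟨-, -, -, sb, -, sa', sd, sj, -⟩ := basic_facts
  obtain ⟨fl, -, -, -, -, -, -, -, -, d3, d1, jj, jdj, db, jb, -⟩ := flips_facts
  obtain ⟨hm, h2, -⟩ := E.moves_of_isConj sy hxt
  rcases cent_b_cases ((E.φ_comm sy sb).1 hxb) sy h2 hm with h | ⟨k, hkb, hks, hk⟩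
  · exact ⟨y, h, rfl⟩
  exfalso
  have hjN : E.φ jP ∈ Nb := by
    have hkx := hn _ (E.mem_Cb.2 ((E.φ_comm hks sb).2 hkb)) _ hx
    rw [E.φ_conj hks sy] at hkx
    rcases hk with e | e <;> rw [e] at hkx
    · exact hkx
    · rw [← E.φ_mul sj sa'] at hkx
      exact (mul_mem_cancel_right ha').1 hkx
  have hdC : E.φ dP ∈ E.Cb := E.mem_Cb.2 ((E.φ_comm sd sb).2 db)
  have hjinv : (E.φ jP)⁻¹ = E.φ jP := inv_eq_of_mul_eq_one_right (by
    rw [E.φ_mul sj sj, jj, φ_one])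
  have hdN : E.φ dP ∈ Nb := by
    have h1 := mul_mem hjN (hn _ hdC _ hjN)
    have e : E.φ jP * (E.φ dP * E.φ jP * (E.φ dP)⁻¹) = E.φ dP := by
      calc E.φ jP * (E.φ dP * E.φ jP * (E.φ dP)⁻¹)
          = E.φ jP * E.φ dP * E.φ jP * (E.φ dP)⁻¹ := by group
        _ = E.φ dP ^ 2 * (E.φ dP)⁻¹ := by
          rw [E.φ_mul sj sd, E.φ_mul (by rw [map_mul, sj, sd, one_mul]) sj, jdj, E.φ_pow sd]
        _ = E.φ dP := by rw [pow_two, mul_inv_cancel_right]
    rwa [e] at h1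
  apply h3
  have ho : orderOf (E.φ dP) = 3 := orderOf_eq_prime (by rw [E.φ_pow sd, d3, φ_one])
    fun e => d1 (E.φ_inj sd (map_one _) (e.trans E.φ_one.symm))
  exact ho ▸ Nb.orderOf_dvd_natCard hdN

/-- No extension of a 2-group by `A₅`: the alternative that leads to a contradiction. -/
theorem not_alt5_case (Nb : Subgroup G) (hle : Nb ≤ E.Cb)
    (hn : ∀ g ∈ E.Cb, ∀ x ∈ Nb, g * x * g⁻¹ ∈ Nb)
    (h3 : ¬ 3 ∣ Nat.card Nb) (h4 : ∀ x ∈ Nb, x ^ 4 = 1) (hb : E.φ bP ∈ Nb)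
    (ha : E.φ aP ∈ Nb) (ha' : E.φ aP' ∈ Nb)
    (hcomm : ∀ x ∈ Nb, ∀ y ∈ Nb, x * y * x⁻¹ = y ∨ x * y * x⁻¹ = y * E.φ bP)
    (π : E.Cb →* alternatingGroup (Fin 5)) (hπ : Function.Surjective π)
    (hker : ∀ g : E.Cb, π g = 1 ↔ (g : G) ∈ Nb) : False := by
  haveI : Fact (Nat.Prime 5) := ⟨by norm_num⟩
  haveI : IsSimpleGroup (alternatingGroup (Fin 5)) := alternatingGroup.isSimpleGroup (by simp)
  obtain ⟨st, -, -, sb, sa, sa', sd, -, -⟩ := basic_facts
  obtain ⟨fl, tfl, flt, dad, a'a, a'ab, aa', -, -, -, -, -, -, db, -, -⟩ := flips_facts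
  obtain ⟨tb, afl, a'fl, abfl, -⟩ := tb_eq
  have hflN : ∀ f ∈ flips, E.φ f ∈ Nb := by
    intro f hf
    have saa' : Perm.sign (aP * aP') = 1 := by rw [map_mul, sa, sa', one_mul]
    simp only [flips, List.mem_cons, List.not_mem_nil, or_false] at hf
    rcases hf with rfl | rfl | rfl | rfl | rfl | rfl
    · exact ha
    · exact ha'
    · rw [← E.φ_mul sa sa']; exact mul_mem ha ha'
    · rw [← E.φ_mul sa sb]; exact mul_mem ha hb
    · rw [← E.φ_mul sa' sb]; exact mul_mem ha' hb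
    · rw [← E.φ_mul saa' sb, ← E.φ_mul sa sa']; exact mul_mem (mul_mem ha ha') hb
  have hk48 : ∀ k ∈ E.K, k * E.φ bP = E.φ bP * k → k ^ 48 = 1 := by
    intro k hk hkb
    obtain ⟨y, sy, rfl⟩ := E.exists_of_mem hk
    rw [E.φ_pow sy, cent_b_pow ((E.φ_comm sy sb).1 hkb), φ_one]
  -- `o` in `O(C(t)) ∩ C(b)` with trivial image
  have hsmall : ∀ o ∈ E.OT, o ∈ Nb → o = 1 := fun o ho hoN =>
    eq_one_of_coprime_six (E.OT_coprime ho) (h4 o hoN) fun m hm h6 =>
      eq_one_of_dvd_48 m (hm.trans (by norm_num)) h6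
  have hNK : Nb ≤ E.K := by
    intro g hg
    have hgb : g * E.φ bP = E.φ bP * g := E.mem_Cb.1 (hle hg)
    obtain ⟨k, hkb, hks, hk⟩ : ∃ k : Perm (Fin 8), k * bP = bP * k ∧ Perm.sign k = 1 ∧
        g * E.φ tP * g⁻¹ = E.φ (k * tP * k⁻¹) := by
      rcases hcomm g hg _ (hflN _ tfl) with e | e
      · exact ⟨1, by simp, map_one _, by simpa using e⟩
      · obtain ⟨k, hkb, hks, hk⟩ := flips_conj _ afl
        exact ⟨k, hkb, hks, by rw [e, E.φ_mul st sb, tb, hk]⟩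
    have hkb' : Commute (E.φ k) (E.φ bP) := (E.φ_comm hks sb).2 hkb
    have hkC : E.φ k ∈ E.Cb := E.mem_Cb.2 hkb'.eq
    set g' := (E.φ k)⁻¹ * g with hg'
    have hg't : g' * E.φ tP = E.φ tP * g' := by
      rw [← mul_inv_eq_iff_eq_mul, hg', mul_inv_rev, inv_inv,
        show (E.φ k)⁻¹ * g * E.φ tP * (g⁻¹ * E.φ k) = (E.φ k)⁻¹ * (g * E.φ tP * g⁻¹) * E.φ k by
          group, hk, ← E.φ_conj hks st]
      group
    have hg'b : g' * E.φ bP = E.φ bP * g' :=
      (hkb'.inv_left.mul_left (show Commute g (E.φ bP) from hgb)).eq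
    obtain ⟨o, ho, hob, m, hm, hmt, hmb, e⟩ := E.H_decomp_b hg't hg'b
    have hgK : g = E.φ k * o * m := by rw [mul_assoc, ← e, hg', mul_inv_cancel_left]
    suffices o = 1 by rw [hgK, this, mul_one]; exact mul_mem (E.φ_mem k) hm
    refine hsmall o ho ((hker ⟨o, E.mem_Cb.2 hob⟩).1 ?_)
    have e2 : π ⟨o, E.mem_Cb.2 hob⟩ = (π ⟨m * E.φ k, mul_mem (E.mem_Cb.2 hmb) hkC⟩)⁻¹ := by
      have h1 : π ⟨g, hle hg⟩ = 1 := (hker _).2 hg
      have eg : (⟨g, hle hg⟩ : E.Cb) = ⟨E.φ k, hkC⟩ * ⟨o, E.mem_Cb.2 hob⟩ * ⟨m, E.mem_Cb.2 hmb⟩ :=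
        Subtype.ext hgK
      rw [eg, map_mul, map_mul] at h1
      rw [show (⟨m * E.φ k, mul_mem (E.mem_Cb.2 hmb) hkC⟩ : E.Cb) =
        ⟨m, E.mem_Cb.2 hmb⟩ * ⟨E.φ k, hkC⟩ from rfl, map_mul, mul_inv_rev]
      rw [eq_inv_mul_iff_mul_eq, eq_inv_iff_mul_eq_one]
      exact h1
    refine eq_one_of_coprime_six (n := 48) (Nat.Coprime.coprime_dvd_left
      ((orderOf_map_dvd π _).trans (by rw [orderOf_mk])) (E.OT_coprime ho)) ?_ eq_one_of_dvd_48
    rw [e2, inv_pow, ← map_pow, inv_eq_one]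
    refine (congrArg π (Subtype.ext ?_)).trans (map_one π)
    exact hk48 _ (mul_mem hm (E.φ_mem k)) (E.mem_Cb.1 (mul_mem (E.mem_Cb.2 hmb) hkC))
  have hflconj : ∀ g ∈ E.Cb, ∀ f ∈ flips, ∃ f' ∈ flips, g * E.φ f * g⁻¹ = E.φ f' := by
    intro g hg f hf
    have hm := hn g hg _ (hflN f hf)
    obtain ⟨k, -, hks, hk⟩ := flips_conj f hf
    refine E.flip_of_mem Nb hn h3 ha' hm (hNK hm) (E.mem_Cb.1 (hle hm)) ?_
    refine (isConj_iff.2 ⟨g * E.φ k, ?_⟩)
    rw [show g * E.φ k * E.φ tP * (g * E.φ k)⁻¹ = g * (E.φ k * E.φ tP * (E.φ k)⁻¹) * g⁻¹ by group,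
      E.φ_conj hks st, hk]
  -- the common centralizer of the flips
  let U : Subgroup E.Cb := (centralizer (E.φ '' {f | f ∈ flips})).subgroupOf E.Cb
  have hU : ∀ g : E.Cb, g ∈ U ↔ ∀ f ∈ flips, (g : G) * E.φ f = E.φ f * g := by
    intro g
    simp only [U, mem_subgroupOf, mem_centralizer_iff, Set.forall_mem_image]
    exact ⟨fun h f hf => (h hf).symm, fun h f hf => (h f hf).symm⟩
  haveI hUn : U.Normal := ⟨fun u hu g => (hU _).2 fun f hf => by
    obtain ⟨f', hf', e⟩ := hflconj (g : G)⁻¹ (inv_mem g.2) f hf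
    rw [inv_inv] at e
    have h := (hU u).1 hu f' hf'
    rw [← e] at h
    calc ((g * u * g⁻¹ : E.Cb) : G) * E.φ f
        = g * (u * ((g : G)⁻¹ * E.φ f * g)) * (g : G)⁻¹ := by simp [mul_assoc]
      _ = _ := by rw [h]; simp [mul_assoc]⟩
  have hUN : ∀ g ∈ U, (g : G) ∈ Nb := by
    haveI : (U.map π).Normal := hUn.map π hπ
    rcases IsSimpleGroup.eq_bot_or_eq_top_of_normal (U.map π) inferInstance with h | h
    · intro g hg
      have : π g ∈ U.map π := mem_map_of_mem π hg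
      rw [h, mem_bot] at this
      exact (hker g).1 this
    · exfalso
      set dC : E.Cb := ⟨E.φ dP, E.mem_Cb.2 ((E.φ_comm sd sb).2 db)⟩
      obtain ⟨u, hu, e⟩ : π dC ∈ U.map π := by rw [h]; trivial
      have hnN : ((u⁻¹ * dC : E.Cb) : G) ∈ Nb :=
        (hker _).1 (by rw [map_mul, map_inv, e, inv_mul_cancel])
      have hconj : E.φ dP * E.φ aP * (E.φ dP)⁻¹ = E.φ aP' := by rw [E.φ_conj sd sa, dad]
      have e' : E.φ aP' = (u : G) * (((u : G)⁻¹ * E.φ dP) * E.φ aP * ((u : G)⁻¹ * E.φ dP)⁻¹) *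
          (u : G)⁻¹ := by rw [← hconj]; group
      rcases hcomm _ hnN _ ha with f | f
      · replace f : (u : G)⁻¹ * E.φ dP * E.φ aP * ((u : G)⁻¹ * E.φ dP)⁻¹ = E.φ aP := f
        rw [f, (hU u).1 hu _ afl, mul_inv_cancel_right] at e'
        exact a'a (E.φ_inj sa' sa e')
      · replace f : (u : G)⁻¹ * E.φ dP * E.φ aP * ((u : G)⁻¹ * E.φ dP)⁻¹ = E.φ aP * E.φ bP := f
        rw [f, E.φ_mul sa sb, (hU u).1 hu _ abfl, mul_inv_cancel_right] at e'
        exact a'ab (E.φ_inj sa' (by rw [map_mul, sa, sb, one_mul]) e')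
  -- the whole centralizer lies in the image
  have hCK : E.Cb ≤ E.K := by
    intro g hg
    obtain ⟨f, hf, e⟩ := hflconj g hg _ tfl
    obtain ⟨k, hkb, hks, hk⟩ := flips_conj f hf
    have hkb' : Commute (E.φ k) (E.φ bP) := (E.φ_comm hks sb).2 hkb
    set g' := (E.φ k)⁻¹ * g with hg'
    have hg't : g' * E.φ tP = E.φ tP * g' := by
      rw [← mul_inv_eq_iff_eq_mul, hg', mul_inv_rev, inv_inv,
        show (E.φ k)⁻¹ * g * E.φ tP * (g⁻¹ * E.φ k) = (E.φ k)⁻¹ * (g * E.φ tP * g⁻¹) * E.φ k by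
          group, e, ← hk, ← E.φ_conj hks st]
      group
    have hg'b : g' * E.φ bP = E.φ bP * g' :=
      (hkb'.inv_left.mul_left (show Commute g (E.φ bP) from E.mem_Cb.1 hg)).eq
    obtain ⟨o, ho, hob, m, hm, -, -, e2⟩ := E.H_decomp_b hg't hg'b
    have hoU : (⟨o, E.mem_Cb.2 hob⟩ : E.Cb) ∈ U := by
      refine (hU _).2 fun f' hf' => ?_
      show o * E.φ f' = E.φ f' * o
      have hf't : E.φ f' * E.φ tP = E.φ tP * E.φ f' :=
        (E.φ_comm (fl f' hf').2.1 st).2 (flt f' hf')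
      have hK : o * E.φ f' * o⁻¹ * (E.φ f')⁻¹ ∈ E.K :=
        mul_mem (hNK (hn o (E.mem_Cb.2 hob) _ (hflN f' hf'))) (inv_mem (E.φ_mem f'))
      have hO : o * E.φ f' * o⁻¹ * (E.φ f')⁻¹ ∈ E.OT := by
        rw [show o * E.φ f' * o⁻¹ * (E.φ f')⁻¹ = o * (E.φ f' * o⁻¹ * (E.φ f')⁻¹) by group]
        exact mul_mem ho (E.OT_conj hf't (inv_mem ho))
      have h1 := E.OT_inf_K hO hK
      rw [mul_inv_eq_one, mul_inv_eq_iff_eq_mul] at h1
      exact h1
    have h1 : o = 1 := hsmall o ho (hUN _ hoU)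
    rw [h1, one_mul, hg'] at e2
    have := mul_mem (E.φ_mem k) hm
    rwa [← e2, mul_inv_cancel_left] at this
  obtain ⟨q, hq⟩ := exists_prime_orderOf_dvd_card' (G := alternatingGroup (Fin 5)) 5 (by
    have h2 := two_mul_nat_card_alternatingGroup (α := Fin 5)
    rw [Nat.card_perm, Nat.card_fin, show (5 : ℕ).factorial = 120 from rfl] at h2
    omega)
  obtain ⟨g, rfl⟩ := hπ q
  have : π g ^ 48 = 1 := by
    rw [← map_pow]
    refine (congrArg π (Subtype.ext ?_)).trans (map_one π)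
    exact hk48 _ (hCK g.2) (E.mem_Cb.1 g.2)
  rw [← orderOf_dvd_iff_pow_eq_one, hq] at this
  omega

set_option maxHeartbeats 800000 in
/-- The centralizer of `b` is a nilpotent 3'-group extended by `⟨d, j⟩`. -/
theorem exists_nilpotent_b :
    ∃ Nb : Subgroup G, Nb ≤ E.Cb ∧ (∀ g ∈ E.Cb, ∀ x ∈ Nb, g * x * g⁻¹ ∈ Nb) ∧
      ¬ 3 ∣ Nat.card Nb ∧ Group.IsNilpotent Nb ∧ E.φ aP' ∈ Nb ∧ E.φ tP ∈ Nb ∧
      (∀ g ∈ E.Cb, g ^ 6 ∈ Nb) ∧
      (∀ g ∈ E.Cb, ∃ k ∈ E.K, k ∈ E.Cb ∧ g * k ∈ Nb) := by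
  classical
  haveI : Fact (Nat.Prime 2) := ⟨Nat.prime_two⟩
  haveI : Fact (Nat.Prime 3) := ⟨Nat.prime_three⟩
  obtain ⟨st, -, -, sb, sa, sa', sd, sj, -⟩ := basic_facts
  obtain ⟨fl, tfl, -, dad, -, -, aa', da'd, jaj, d3, d1, jj, jdj, db, jb, -⟩ := flips_facts
  obtain ⟨tb, afl, a'fl, -⟩ := tb_eq
  obtain ⟨-, -, -, -, -, -, b2, b1, -⟩ := invol_facts
  set B : CB := ⟨bP, mem_CB.2 ⟨sb, rfl⟩⟩
  have ho2 : orderOf (E.ψ B) = 2 := by
    refine orderOf_eq_prime ?_ ?_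
    · rw [← map_pow, pow_two, show B * B = 1 from Subtype.ext b2, map_one]
    · intro e
      exact b1 (E.φ_inj sb (map_one _) ((congrArg Subtype.val e).trans E.φ_one.symm))
  set Zb : Subgroup E.Cb := zpowers (E.ψ B)
  have hcen : ∀ x : E.Cb, x * E.ψ B = E.ψ B * x := fun x => Subtype.ext (E.mem_Cb.1 x.2)
  haveI : Zb.Normal := ⟨fun n hn g => by
    obtain ⟨i, rfl⟩ := hn
    rw [((show Commute g (E.ψ B) from hcen g).zpow_right i).eq, mul_inv_cancel_right]
    exact zpow_mem_zpowers _ _⟩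
  have hZ : ∀ {x : E.Cb}, x ∈ Zb → x = 1 ∨ x = E.ψ B := by
    intro x hx
    obtain ⟨i, rfl⟩ := hx
    have h2 : E.ψ B ^ (2 : ℤ) = 1 := by
      rw [show (2 : ℤ) = ((2 : ℕ) : ℤ) from rfl, zpow_natCast, ← ho2, pow_orderOf_eq_one]
    show E.ψ B ^ i = 1 ∨ E.ψ B ^ i = E.ψ B
    rw [zpow_eq_zpow_emod i h2]
    rcases (show i % 2 = 0 ∨ i % 2 = 1 by omega) with e | e <;> rw [e]
    · exact Or.inl (zpow_zero _)
    · exact Or.inr (zpow_one _)
  set q : E.Cb →* E.Cb ⧸ Zb := QuotientGroup.mk' Zb with hq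
  have hqZ : ∀ {x y : E.Cb}, q x = q y → y = x ∨ y = x * E.ψ B := by
    intro x y e
    rcases hZ (QuotientGroup.eq.1 e) with f | f
    · exact Or.inl (inv_mul_eq_one.1 f).symm
    · exact Or.inr (by rw [← f, mul_inv_cancel_left])
  -- a self-centralizing subgroup of order three
  set X : Subgroup (E.Cb ⧸ Zb) := zpowers (q (E.ψ cD))
  have hd3 : q (E.ψ cD) ^ 3 = 1 := by
    rw [← map_pow, ← map_pow, show cD ^ 3 = 1 from Subtype.ext d3, map_one, map_one]
  have hdne : q (E.ψ cD) ≠ 1 := by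
    intro e
    rcases hZ ((QuotientGroup.eq_one_iff _).1 e) with f | f
    · exact d1 (E.φ_inj sd (map_one _) ((congrArg Subtype.val f).trans E.φ_one.symm))
    · have hbd : dP = bP := E.φ_inj sd sb (congrArg Subtype.val f)
      exact absurd hbd (by decide +kernel)
  have hX : Nat.card X = 3 := by rw [Nat.card_zpowers, orderOf_eq_prime hd3 hdne]
  have hCX : centralizer (X : Set (E.Cb ⧸ Zb)) = X := by
    apply le_antisymm
    · intro x hx
      obtain ⟨x, rfl⟩ := QuotientGroup.mk'_surjective Zb x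
      have hc := mem_centralizer_iff.1 hx _ (mem_zpowers (q (E.ψ cD)))
      rw [← hq, ← map_mul, ← map_mul] at hc
      have hcd : x * E.ψ cD = E.ψ cD * x := by
        rcases hqZ hc with e | e
        · exact e
        · exfalso
          have h3 : E.ψ cD ^ 3 = 1 := by
            rw [← map_pow, show cD ^ 3 = 1 from Subtype.ext d3, map_one]
          have e' : x * E.ψ cD * x⁻¹ = E.ψ cD * E.ψ B := by
            rw [e, mul_assoc (E.ψ cD) x, hcen x, ← mul_assoc, mul_inv_cancel_right]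
          have := congrArg (· ^ 3) e'
          simp only [conj_pow, h3, mul_one, mul_inv_cancel,
            (show Commute (E.ψ cD) (E.ψ B) from hcen _).mul_pow, one_mul] at this
          rw [show E.ψ B ^ 3 = E.ψ B by rw [pow_succ, ← ho2, pow_orderOf_eq_one, one_mul]] at this
          rw [← this, orderOf_one] at ho2
          omega
      obtain ⟨i, e | e⟩ := E.cent_d (E.mem_Cb.1 x.2) (congrArg Subtype.val hcd)
      · rw [show x = E.ψ cD ^ i.val from Subtype.ext (e.trans (by rw [SubgroupClass.coe_pow]; rfl)),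
          ← hq, map_pow]
        exact pow_mem (mem_zpowers _) _
      · rw [show x = E.ψ cD ^ i.val * E.ψ B from Subtype.ext (e.trans (by
            rw [Subgroup.coe_mul, SubgroupClass.coe_pow]; rfl)),
          ← hq, map_mul, map_pow,
          show q (E.ψ B) = 1 from (QuotientGroup.eq_one_iff _).2 (mem_zpowers _), mul_one]
        exact pow_mem (mem_zpowers _) _
    · rw [SetLike.le_def]
      intro x hx
      refine mem_centralizer_iff.2 fun y hy => ?_
      obtain ⟨i, rfl⟩ := hx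
      obtain ⟨j, rfl⟩ := hy
      exact ((Commute.refl _).zpow_zpow j i).eq
  rcases Cfsg.Agent.S3331.result X hX hCX with
    ⟨N, hN, hnil, hcop, hQ⟩ | ⟨N, hN, hNc, hN2, ⟨e⟩⟩ | ⟨⟨e⟩⟩
  · -- an extension by a group of order at most six
    haveI := hN
    set ρ : E.Cb →* (E.Cb ⧸ Zb) ⧸ N := (QuotientGroup.mk' N).comp q
    have hρ : Function.Surjective ρ :=
      (QuotientGroup.mk'_surjective N).comp (QuotientGroup.mk'_surjective Zb)
    have hker : ρ.ker = N.comap q := by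
      rw [← MonoidHom.comap_ker, QuotientGroup.ker_mk']
    have hcardker : Nat.card ρ.ker = 2 * Nat.card N := by
      rw [hker, hq, CfsgLib.PCore.card_comap_mk', Nat.card_zpowers, ho2]
    have h3N : ¬ 3 ∣ Nat.card ρ.ker := by
      rw [hcardker]
      intro h
      rcases Nat.prime_three.dvd_mul.1 h with h | h
      · omega
      · exact (Nat.prime_three.coprime_iff_not_dvd.1 hcop.symm) h
    haveI hnil' : Group.IsNilpotent ρ.ker := by
      haveI := hnil
      refine Subgroup.isNilpotent_of_ker_le_center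
        (((q.comp ρ.ker.subtype).codRestrict N fun x => (hker ▸ x.2 : (x : E.Cb) ∈ N.comap q))) ?_
      intro x hx
      rw [mem_center_iff]
      intro y
      have hxZ : (x : E.Cb) ∈ Zb := (QuotientGroup.eq_one_iff _).1 (congrArg Subtype.val hx)
      rcases hZ hxZ with f | f
      · rw [show x = 1 from Subtype.ext f, one_mul, mul_one]
      · exact Subtype.ext (by rw [Subgroup.coe_mul, Subgroup.coe_mul, f]; exact hcen _)
    set f : CB →* (E.Cb ⧸ Zb) ⧸ N := ρ.comp E.ψ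
    obtain ⟨r1, r2, r3, r4, r5, r6, r7, -⟩ := CB_rels (ρ.comp E.ψ)
    have hfd : f cD ≠ 1 := by
      intro h
      apply h3N
      have ho : orderOf (E.ψ cD) = 3 := by
        refine orderOf_eq_prime ?_ fun h' => ?_
        · rw [← map_pow, show cD ^ 3 = 1 from Subtype.ext d3, map_one]
        · exact hdne (by rw [h', map_one])
      exact ho ▸ ρ.ker.orderOf_dvd_natCard (MonoidHom.mem_ker.2 h)
    have hinj := six_map_injective r2 hfd r3 r4
    have hle6 : Nat.card ((E.Cb ⧸ Zb) ⧸ N) ≤ 6 := by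
      rcases hQ with h | ⟨⟨e⟩⟩
      · omega
      · rw [Nat.card_congr e.toEquiv, Nat.card_perm, Nat.card_fin]
        exact le_of_eq rfl
    have hbij : Function.Bijective fun x : Fin 3 × Fin 2 => f cD ^ x.1.val * f cJ ^ x.2.val :=
      (Nat.bijective_iff_injective_and_card _).2 ⟨hinj, le_antisymm
        (Nat.card_le_card_of_injective _ hinj) (by simpa using hle6)⟩
    have h6 : Nat.card ((E.Cb ⧸ Zb) ⧸ N) = 6 := by
      rw [← Nat.card_eq_of_bijective _ hbij]; simp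
    have hfa : f cA = 1 := by
      rcases hQ with h | ⟨⟨e⟩⟩
      · omega
      · apply e.injective
        rw [map_one]
        refine s3_flip (e (f cA)) (e (f cD)) ?_ ?_ ?_ ?_ ?_
        · rw [← map_mul, r1, map_one]
        · rw [← map_pow, r2, map_one]
        · rwa [Ne, EmbeddingLike.map_eq_one_iff]
        · simpa only [map_mul, map_inv] using congrArg e (show f cA * (f cD * f cA * (f cD)⁻¹) = f cD * f cA * (f cD)⁻¹ * f cA by
            rw [show f cD * f cA * (f cD)⁻¹ = f cA' from r5]; exact r6)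
        · simpa only [map_mul, map_inv] using congrArg e (show f cD * (f cD * f cA * (f cD)⁻¹) * (f cD)⁻¹ =
              f cA * (f cD * f cA * (f cD)⁻¹) by
            rw [show f cD * f cA * (f cD)⁻¹ = f cA' from r5]; exact r7)
    have hfa' : f cA' = 1 := by rw [← r5, hfa, mul_one, mul_inv_cancel]
    refine ⟨ρ.ker.map E.Cb.subtype, map_subtype_le _, ?_, ?_, ?_, ?_, ?_, ?_, ?_⟩
    · rintro g hg _ ⟨x, hx, rfl⟩
      exact ⟨_, (inferInstance : ρ.ker.Normal).conj_mem x hx ⟨g, hg⟩, rfl⟩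
    · rwa [card_map_of_injective (subtype_injective _)]
    · exact Group.nilpotent_of_mulEquiv
        (ρ.ker.equivMapOfInjective E.Cb.subtype (subtype_injective _))
    · exact ⟨_, MonoidHom.mem_ker.2 hfa', rfl⟩
    · refine ⟨E.ψ (cA * B), MonoidHom.mem_ker.2 ?_, ?_⟩
      · rw [map_mul, map_mul, show ρ (E.ψ cA) = 1 from hfa, one_mul]
        show (QuotientGroup.mk' N) (q (E.ψ B)) = 1
        rw [show q (E.ψ B) = 1 from (QuotientGroup.eq_one_iff _).2 (mem_zpowers _), map_one]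
      · show E.φ (aP * bP) = E.φ tP
        rw [← tb, mul_assoc, b2, mul_one]
    · intro g hg
      refine ⟨⟨g, hg⟩ ^ 6, MonoidHom.mem_ker.2 ?_, by simp⟩
      rw [map_pow, ← h6, pow_card_eq_one']
    · intro g hg
      obtain ⟨⟨i, u⟩, hiu⟩ := hbij.2 (ρ ⟨g, hg⟩)⁻¹
      refine ⟨E.φ ((cD ^ i.val * cJ ^ u.val : CB) : Perm (Fin 8)), E.φ_mem _,
        (E.ψ (cD ^ i.val * cJ ^ u.val)).2, ⟨g, hg⟩ * E.ψ (cD ^ i.val * cJ ^ u.val),
        MonoidHom.mem_ker.2 ?_, rfl⟩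
      rw [map_mul, show ρ (E.ψ (cD ^ i.val * cJ ^ u.val)) = f cD ^ i.val * f cJ ^ u.val by
        rw [← map_pow, ← map_pow, ← map_mul]; rfl,
        show f cD ^ i.val * f cJ ^ u.val = _ from hiu, mul_inv_cancel]
  · -- an extension by `A₅`
    exfalso
    haveI := hN
    set ρ : E.Cb →* alternatingGroup (Fin 5) :=
      e.toMonoidHom.comp ((QuotientGroup.mk' N).comp q)
    have hρ : Function.Surjective ρ :=
      e.surjective.comp ((QuotientGroup.mk'_surjective N).comp (QuotientGroup.mk'_surjective Zb))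
    have hmem : ∀ x : E.Cb, ρ x = 1 ↔ q x ∈ N := fun x => by
      rw [← QuotientGroup.eq_one_iff]
      exact EmbeddingLike.map_eq_one_iff (f := e)
    have h4 : ∀ x : E.Cb, ρ x = 1 → x ^ 4 = 1 := by
      intro x hx
      have h2 : q (x ^ 2) = 1 := by rw [map_pow]; exact hN2 _ ((hmem x).1 hx)
      rw [show 4 = 2 * 2 from rfl, pow_mul]
      rcases hZ ((QuotientGroup.eq_one_iff _).1 h2) with f | f <;> rw [f]
      · exact one_pow 2
      · rw [← ho2, pow_orderOf_eq_one]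
    obtain ⟨r1, r2, r3, r4, r5, r6, r7, r8⟩ := CB_rels (ρ.comp E.ψ)
    set f : CB →* alternatingGroup (Fin 5) := ρ.comp E.ψ
    have hfd : f cD ≠ 1 := by
      intro h
      have h' := h4 _ h
      have h3' : E.ψ cD ^ 3 = 1 := by rw [← map_pow, show cD ^ 3 = 1 from Subtype.ext d3, map_one]
      rw [show 4 = 3 + 1 from rfl, pow_succ, h3', one_mul] at h'
      exact hdne (by rw [h', map_one])
    have hfa : f cA = 1 := by
      by_contra h
      exact alt5_flip (f cA) r1 h (f cD) r2 hfd (by rw [r5]; exact r6) (by rw [r5]; exact r7)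
        (f cJ) r3 r4 (by rw [r5]; exact r8)
    have hfa' : f cA' = 1 := by rw [← r5, hfa, mul_one, mul_inv_cancel]
    have hρB : ρ (E.ψ B) = 1 := (hmem _).2 (by
      rw [show q (E.ψ B) = 1 from (QuotientGroup.eq_one_iff _).2 (mem_zpowers _)]
      exact one_mem N)
    refine E.not_alt5_case (ρ.ker.map E.Cb.subtype) (map_subtype_le _) ?_ ?_ ?_ ⟨_, hρB, rfl⟩
      ⟨_, hfa, rfl⟩ ⟨_, hfa', rfl⟩ ?_ ρ hρ ?_
    · rintro g hg _ ⟨x, hx, rfl⟩
      exact ⟨_, (inferInstance : ρ.ker.Normal).conj_mem x hx ⟨g, hg⟩, rfl⟩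
    · rw [card_map_of_injective (subtype_injective _)]
      intro h
      obtain ⟨x, hx⟩ := exists_prime_orderOf_dvd_card' (G := ρ.ker) 3 h
      have h4' : orderOf (x : E.Cb) ∣ 4 := orderOf_dvd_of_pow_eq_one (h4 _ x.2)
      rw [orderOf_coe, hx] at h4'
      omega
    · rintro _ ⟨x, hx, rfl⟩
      rw [← map_pow, h4 x hx, map_one]
    · rintro _ ⟨x, hx, rfl⟩ _ ⟨y, hy, rfl⟩
      have hc : q (x * y * x⁻¹) = q y := by
        have := congrArg Subtype.val (hNc.is_comm.comm (⟨q x, (hmem x).1 hx⟩ : N) ⟨q y, (hmem y).1 hy⟩)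
        simp only [Subgroup.coe_mul] at this
        rw [map_mul, map_mul, map_inv, this, mul_inv_cancel_right]
      rcases hqZ hc.symm with f | f
      · exact Or.inl (congrArg Subtype.val f)
      · exact Or.inr (congrArg Subtype.val f)
    · intro g
      refine ⟨fun h => ⟨g, h, rfl⟩, ?_⟩
      rintro ⟨x, hx, e'⟩
      rwa [← Subtype.ext e']
  · -- not `PSL(2, 7)`
    exfalso
    haveI : Fact (Nat.Prime 7) := ⟨by norm_num⟩
    have h168 : Nat.card (Matrix.ProjectiveSpecialLinearGroup (Fin 2) (ZMod 7)) = 168 := by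
      have h := CfsgLib.PSL2.card_psl (F := ZMod 7)
      rw [ZMod.card] at h
      norm_num [← Nat.card_eq_fintype_card] at h
      simp only [Nat.card_eq_fintype_card] at h ⊢
      omega
    have h336 : Nat.card E.Cb = 336 := by
      rw [card_eq_card_quotient_mul_card_subgroup Zb, Nat.card_congr e.toEquiv, h168,
        Nat.card_zpowers, ho2]
    -- a subgroup of order at least 32
    have he16 : ∀ x, e16 x ∈ CB := fun x =>
      mem_CB.2 (e16_facts x.1.1 x.1.2 x.2.1 x.2.2)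
    let S16 : Subgroup CB :=
      { carrier := Set.range fun x => (⟨e16 x, he16 x⟩ : CB)
        one_mem' := ⟨((0, 0), (0, 0)), Subtype.ext e16_zero⟩
        mul_mem' := by
          rintro _ _ ⟨x, rfl⟩ ⟨y, rfl⟩
          exact ⟨x + y, Subtype.ext (e16_add x y).symm⟩
        inv_mem' := by
          rintro _ ⟨x, rfl⟩
          refine ⟨x, eq_inv_of_mul_eq_one_left (Subtype.ext ?_)⟩
          have h2 : ∀ x : (Fin 2 × Fin 2) × (Fin 2 × Fin 2), x + x = ((0, 0), (0, 0)) := by decide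
          exact (e16_add x x).trans (by rw [h2 x, e16_zero]; rfl) }
    have h16 : Nat.card S16 = 16 := by
      show Nat.card (Set.range fun x => (⟨e16 x, he16 x⟩ : CB)) = 16
      rw [Nat.card_range_of_injective fun x y h => e16_injective (congrArg Subtype.val h)]
      simp
    obtain ⟨ss, s2, scb, sne, snorm⟩ := sP_facts
    set s : CB := ⟨sP, mem_CB.2 ⟨ss, scb⟩⟩
    have hsinv : s⁻¹ = s := inv_eq_of_mul_eq_one_right (Subtype.ext s2)
    have hsn : zpowers s ≤ normalizer (S16 : Set CB) := by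
      rw [zpowers_le]
      have step : ∀ x ∈ S16, s * x * s⁻¹ ∈ S16 := by
        rintro _ ⟨⟨⟨a, b⟩, ⟨c, d⟩⟩, rfl⟩
        refine ⟨((c, d), (a, b)), Subtype.ext ?_⟩
        rw [hsinv]
        exact (snorm a b c d).symm
      refine mem_normalizer_iff.2 fun x => ⟨step x, fun h => ?_⟩
      have h' := step _ h
      rw [hsinv] at h'
      rwa [show s * (s * x * s) * s = s * s * x * (s * s) by group,
        show s * s = 1 from Subtype.ext s2, one_mul, mul_one] at h'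
    have hp16 : IsPGroup 2 S16 := IsPGroup.of_card (n := 4) (by rw [h16]; rfl)
    have hps : IsPGroup 2 (zpowers s) := by
      refine IsPGroup.of_card (n := 1) ?_
      rw [Nat.card_zpowers, pow_one]
      refine orderOf_eq_prime (by rw [pow_two]; exact Subtype.ext s2) fun h => ?_
      exact sne 0 0 0 0 (e16_zero.trans (congrArg Subtype.val h).symm)
    have hS : IsPGroup 2 (zpowers s ⊔ S16 : Subgroup CB) :=
      hps.to_sup_of_normal_right' hp16 hsn
    obtain ⟨n, hn⟩ := IsPGroup.iff_card.1 hS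
    have hgt : 16 < 2 ^ n := by
      rw [← hn]
      by_contra hle
      have heq : S16 = zpowers s ⊔ S16 :=
        eq_of_le_of_card_ge le_sup_right (by rw [h16]; omega)
      obtain ⟨⟨⟨a, b⟩, ⟨c, d⟩⟩, hx⟩ : s ∈ S16 := heq ▸ mem_sup_left (mem_zpowers s)
      exact sne a b c d (congrArg Subtype.val hx)
    have h5 : 5 ≤ n := by
      by_contra h
      have := Nat.pow_le_pow_right (show 0 < 2 by norm_num) (show n ≤ 4 by omega)
      omega
    have hinjψ : Function.Injective E.ψ := fun x y h =>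
      Subtype.ext (E.φ_inj (mem_CB.1 x.2).1 (mem_CB.1 y.2).1 (congrArg Subtype.val h))
    have h32 : 2 ^ n ∣ 336 := by
      rw [← h336, ← hn, ← card_map_of_injective (K := (zpowers s ⊔ S16 : Subgroup CB)) hinjψ]
      exact card_subgroup_dvd_card _
    have := (pow_dvd_pow 2 h5).trans h32
    norm_num at this

end Emb

end CfsgLib.ThreeEight
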