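import Mathlib

/-!
Finite facts on involutions of the alternating group of degree eight and their centralizers.
-/

set_option autoImplicit false
set_option maxRecDepth 10000
set_option synthInstance.maxSize 2000
set_option synthInstance.maxHeartbeats 400000

namespace CfsgLib.ThreeEight.Alt

open Equiv

/-- `(4 5)(6 7)`. -/
def tP : Perm (Fin 8) := swap 4 5 * swap 6 7
/-- `(4 6)(5 7)`. -/
def vP : Perm (Fin 8) := swap 4 6 * swap 5 7
/-- `(0 1)(4 5)`. -/
def cP : Perm (Fin 8) := swap 0 1 * swap 4 5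
/-- `(0 1)(2 3)(4 5)(6 7)`. -/
def bP : Perm (Fin 8) := swap 0 1 * swap 2 3 * (swap 4 5 * swap 6 7)
/-- `(0 1)(2 3)`. -/
def aP : Perm (Fin 8) := swap 0 1 * swap 2 3
/-- `(2 3)(4 5)`. -/
def aP' : Perm (Fin 8) := swap 2 3 * swap 4 5
/-- `(0 2 4)(1 3 5)`. -/
def dP : Perm (Fin 8) := swap 0 2 * swap 2 4 * (swap 1 3 * swap 3 5)
/-- `(2 4)(3 5)`. -/
def jP : Perm (Fin 8) := swap 2 4 * swap 3 5
/-- `(0 5)(1 6)(2 7)(3 4)`. -/
def yP : Perm (Fin 8) := swap 0 5 * swap 1 6 * swap 2 7 * swap 3 4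

/-- The flips in the centralizer of `b`. -/
def flips : List (Perm (Fin 8)) := [aP, aP', aP * aP', aP * bP, aP' * bP, aP * aP' * bP]

/-- Number of points moved. -/
abbrev moves (x : Perm (Fin 8)) : ℕ := x.support.card

theorem cycleType_invol {x : Perm (Fin 8)} (h2 : x * x = 1) (h1 : x ≠ 1) :
    ∃ k, x.cycleType = Multiset.replicate k 2 ∧ moves x = k * 2 := by
  have ho : orderOf x = 2 := orderOf_eq_prime (by rw [pow_two, h2]) h1
  obtain ⟨n, hn⟩ := Perm.cycleType_prime_order (σ := x) (by rw [ho]; exact Nat.prime_two)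
  rw [ho] at hn
  refine ⟨n + 1, hn, ?_⟩
  rw [moves, ← Perm.sum_cycleType, hn, Multiset.sum_replicate, smul_eq_mul]

/-- An involution of `A₈` moves four or eight points. -/
theorem moves_cases {x : Perm (Fin 8)} (hs : Perm.sign x = 1) (h2 : x * x = 1) (h1 : x ≠ 1) :
    moves x = 4 ∨ moves x = 8 := by
  obtain ⟨k, hk, hm⟩ := cycleType_invol h2 h1
  have hs' := hs
  rw [Perm.sign_of_cycleType, hk, Multiset.sum_replicate, Multiset.card_replicate, smul_eq_mul]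
    at hs'
  have hle : moves x ≤ 8 := (Finset.card_le_univ _).trans (by simp)
  rw [hm] at hle ⊢
  have hk0 : k ≠ 0 := by
    rintro rfl
    exact h1 (Perm.support_eq_empty_iff.1 (Finset.card_eq_zero.1 (by simpa using hm)))
  have h4 : k ≤ 4 := by omega
  interval_cases k
  · exact absurd rfl hk0
  · exact absurd hs' (by decide)
  · exact Or.inl rfl
  · exact absurd hs' (by decide)
  · exact Or.inr rfl

/-- Involutions of `A₈` moving equally many points are conjugate in `A₈`. -/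
theorem isConj_of_moves {x y : Perm (Fin 8)} (hx2 : x * x = 1) (hx1 : x ≠ 1) (hy2 : y * y = 1)
    (hy1 : y ≠ 1) (h : moves x = moves y) :
    ∃ c : Perm (Fin 8), Perm.sign c = 1 ∧ c * x * c⁻¹ = y := by
  obtain ⟨k, hk, hm⟩ := cycleType_invol hx2 hx1
  obtain ⟨l, hl, hn⟩ := cycleType_invol hy2 hy1
  have hkl : k = l := by omega
  subst hkl
  obtain ⟨c, hc⟩ := isConj_iff.1 ((Perm.isConj_iff_cycleType_eq).2 (hk.trans hl.symm))
  rcases Int.units_eq_one_or (Perm.sign c) with hs | hs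
  · exact ⟨c, hs, hc⟩
  · obtain ⟨p, hp⟩ : ∃ p, x p ≠ p := by
      by_contra hcon
      push Not at hcon
      exact hx1 (Equiv.ext hcon)
    refine ⟨c * swap p (x p), by rw [map_mul, hs, Perm.sign_swap (Ne.symm hp)]; rfl, ?_⟩
    have hxx : x (x p) = p := by rw [← Perm.mul_apply, hx2, Perm.one_apply]
    have hcomm : swap p (x p) * x * (swap p (x p))⁻¹ = x := by
      rw [mul_inv_eq_iff_eq_mul]
      have h' := Equiv.mul_swap_eq_swap_mul x p (x p)
      rw [hxx, Equiv.swap_comm (x p) p] at h'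
      exact h'.symm
    calc c * swap p (x p) * x * (c * swap p (x p))⁻¹
        = c * (swap p (x p) * x * (swap p (x p))⁻¹) * c⁻¹ := by group
      _ = y := by rw [hcomm, hc]

/-- A pair of permutations of the two halves. -/
def p44 (a c : Perm (Fin 4)) : Perm (Fin 8) :=
  (finSumFinEquiv : Fin 4 ⊕ Fin 4 ≃ Fin 8).permCongr (Equiv.sumCongr a c)

/-- A permutation of the four pairs with flips. -/
def wr (π : Perm (Fin 4)) (ε : Fin 4 → Fin 2) : Perm (Fin 8) :=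
  (finProdFinEquiv : Fin 4 × Fin 2 ≃ Fin 8).permCongr
    (Equiv.prodShear π fun i => Equiv.addRight (ε i))

theorem cent_t {x : Perm (Fin 8)} (h : x * tP = tP * x) :
    ∃ a c, x = p44 a c ∧ c * (swap 0 1 * swap 2 3) = swap 0 1 * swap 2 3 * c := by
  set e : Fin 4 ⊕ Fin 4 ≃ Fin 8 := finSumFinEquiv
  have hfix : ∀ i : Fin 8, tP i = i ↔ i.val < 4 := by decide +kernel
  have hmaps : Set.MapsTo (e.symm.permCongr x) (Set.range Sum.inl) (Set.range Sum.inl) := by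
    rintro _ ⟨a, rfl⟩
    have hi : tP (x (e (Sum.inl a))) = x (e (Sum.inl a)) := by
      rw [← Perm.mul_apply, ← h, Perm.mul_apply, (hfix _).2]
      show (finSumFinEquiv (Sum.inl a : Fin 4 ⊕ Fin 4)).val < 4
      simp only [finSumFinEquiv_apply_left, Fin.val_castAdd]
      exact a.2
    refine ⟨⟨_, (hfix _).1 hi⟩, ?_⟩
    apply e.injective
    simp only [Equiv.permCongr_apply, Equiv.symm_symm, Equiv.apply_symm_apply]
    exact Fin.ext rfl
  obtain ⟨⟨a, c⟩, hac⟩ := Perm.mem_sumCongrHom_range_of_perm_mapsTo_inl hmaps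
  have hx : x = p44 a c := by
    rw [p44, show Equiv.sumCongr a c = e.symm.permCongr x from hac]
    refine Equiv.ext fun i => ?_
    simp [e]
  refine ⟨a, c, hx, Equiv.ext fun i => ?_⟩
  have ht : ∀ i, tP (finSumFinEquiv (Sum.inr i : Fin 4 ⊕ Fin 4)) =
      finSumFinEquiv (Sum.inr ((swap 0 1 * swap 2 3 : Perm (Fin 4)) i) : Fin 4 ⊕ Fin 4) := by
    decide +kernel
  have := congrArg (fun z : Perm (Fin 8) => z (finSumFinEquiv (Sum.inr i : Fin 4 ⊕ Fin 4))) h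
  simp only [Perm.mul_apply, ht] at this
  rw [hx] at this
  simp only [p44, Equiv.permCongr_apply, Equiv.symm_apply_apply, Equiv.sumCongr_apply,
    Sum.map_inr, ht, EmbeddingLike.apply_eq_iff_eq, Sum.inr.injEq] at this
  simpa [Perm.mul_apply] using this

theorem cent_b {x : Perm (Fin 8)} (h : x * bP = bP * x) : ∃ π ε, x = wr π ε := by
  set e : Fin 4 × Fin 2 ≃ Fin 8 := finProdFinEquiv
  have hb : ∀ i s, bP (finProdFinEquiv ((i, s) : Fin 4 × Fin 2)) =
      finProdFinEquiv ((i, s + 1) : Fin 4 × Fin 2) := by decide +kernel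
  set p : Fin 4 → Fin 4 × Fin 2 := fun i => e.symm (x (e (i, 0))) with hp
  have h0 : ∀ i, x (e (i, 0)) = e (p i) := fun i => (e.apply_symm_apply _).symm
  have h1 : ∀ i, x (e (i, 1)) = e ((p i).1, (p i).2 + 1) := by
    intro i
    rw [show (1 : Fin 2) = 0 + 1 from rfl, ← hb i 0, ← Perm.mul_apply, h, Perm.mul_apply, h0]
    exact hb _ _
  have hinj : Function.Injective fun i => (p i).1 := by
    intro i j hij
    simp only at hij
    by_cases hs : (p i).2 = (p j).2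
    · have := x.injective (((h0 i).trans (congrArg e (Prod.ext hij hs))).trans (h0 j).symm)
      exact congrArg Prod.fst (e.injective this)
    · have hs' : ∀ a b : Fin 2, a ≠ b → a = b + 1 := by decide
      have := x.injective (((h0 i).trans (congrArg e
        (show p i = ((p j).1, (p j).2 + 1) from Prod.ext hij (hs' _ _ hs)))).trans (h1 j).symm)
      exact congrArg Prod.fst (e.injective this)
  refine ⟨Equiv.ofBijective _ (Finite.injective_iff_bijective.1 hinj), fun i => (p i).2,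
    Equiv.ext fun k => ?_⟩
  obtain ⟨⟨i, s⟩, rfl⟩ := e.surjective k
  simp only [wr, e, Equiv.permCongr_apply, Equiv.symm_apply_apply, Equiv.prodShear_apply,
    Equiv.coe_addRight, Equiv.ofBijective_apply]
  fin_cases s
  · refine (h0 i).trans (congrArg e (Prod.ext rfl ?_))
    show (p i).2 = 0 + (p i).2
    rw [zero_add]
  · refine (h1 i).trans (congrArg e (Prod.ext rfl ?_))
    show (p i).2 + 1 = 1 + (p i).2
    rw [add_comm]

theorem p44_mul (a c a' c' : Perm (Fin 4)) : p44 a c * p44 a' c' = p44 (a * a') (c * c') := by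
  refine Equiv.ext fun i => ?_
  obtain ⟨j, rfl⟩ := (finSumFinEquiv : Fin 4 ⊕ Fin 4 ≃ Fin 8).surjective i
  rcases j with j | j <;> simp [p44, Equiv.permCongr_apply]

theorem p44_one : p44 1 1 = 1 := by
  refine Equiv.ext fun i => ?_
  simp [p44, Equiv.permCongr_apply]

theorem p44_injective {a c a' c' : Perm (Fin 4)} (h : p44 a c = p44 a' c') : a = a' ∧ c = c' := by
  have h' := (finSumFinEquiv : Fin 4 ⊕ Fin 4 ≃ Fin 8).permCongr.injective h
  exact ⟨Equiv.ext fun i => Sum.inl.inj (DFunLike.congr_fun h' (Sum.inl i)),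
    Equiv.ext fun i => Sum.inr.inj (DFunLike.congr_fun h' (Sum.inr i))⟩

theorem p44_npow (a c : Perm (Fin 4)) : ∀ n : ℕ, p44 a c ^ n = p44 (a ^ n) (c ^ n)
  | 0 => by rw [pow_zero, pow_zero, pow_zero, p44_one]
  | n + 1 => by rw [pow_succ, p44_npow a c n, p44_mul, ← pow_succ, ← pow_succ]

theorem cent_t_pow {x : Perm (Fin 8)} (h : x * tP = tP * x) : x ^ 24 = 1 := by
  obtain ⟨a, c, rfl, -⟩ := cent_t h
  have h24 : ∀ a : Perm (Fin 4), a ^ 24 = 1 := fun a => by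
    have := pow_card_eq_one (x := a)
    rwa [Fintype.card_perm, Fintype.card_fin] at this
  rw [p44_npow, h24, h24, p44_one]

/-- The involutions and the identity of `S₄`. -/
def inv4 : List (Perm (Fin 4)) :=
  [1, swap 0 1, swap 0 2, swap 0 3, swap 1 2, swap 1 3, swap 2 3, swap 0 1 * swap 2 3,
    swap 0 2 * swap 1 3, swap 0 3 * swap 1 2]

/-- The elements of order at most two commuting with `(0 1)(2 3)`. -/
def inv4' : List (Perm (Fin 4)) :=
  [1, swap 0 1, swap 2 3, swap 0 1 * swap 2 3, swap 0 2 * swap 1 3, swap 0 3 * swap 1 2]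

theorem mem_inv4 : ∀ a : Perm (Fin 4), a * a = 1 → a ∈ inv4 := by decide +kernel

theorem mem_inv4' : ∀ a : Perm (Fin 4), a * a = 1 →
    a * (swap 0 1 * swap 2 3) = swap 0 1 * swap 2 3 * a → a ∈ inv4' := by decide +kernel

/-- Conjugators in the centralizer of `t`. -/
def conjs : List (Perm (Fin 4)) :=
  [1, swap 0 1 * swap 1 2, swap 1 2 * swap 0 1, swap 0 1 * swap 1 3, swap 1 3 * swap 0 1,
    swap 0 2 * swap 2 3, swap 2 3 * swap 0 2, swap 1 2 * swap 2 3, swap 2 3 * swap 1 2,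
    swap 0 1 * swap 2 3, swap 0 2 * swap 1 3, swap 0 3 * swap 1 2]

theorem p44_four : ∀ a ∈ inv4, ∀ c ∈ inv4',
    Perm.sign (p44 a c) = 1 → moves (p44 a c) = 4 →
    moves (p44 a c * tP) = 4 →
    (p44 a c * vP = vP * p44 a c ∨ p44 a c * vP = tP * vP * p44 a c) →
    p44 a c = vP ∨ p44 a c = tP * vP ∨ ∃ a' ∈ conjs,
      ∃ c' ∈ ([1, swap 0 2 * swap 1 3] : List (Perm (Fin 4))),
        p44 a' c' * p44 a c * (p44 a' c')⁻¹ = cP := by
  decide +kernel

theorem conjs_facts : ∀ a' ∈ conjs, ∀ c' ∈ ([1, swap 0 2 * swap 1 3] : List (Perm (Fin 4))),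
    p44 a' c' * tP = tP * p44 a' c' ∧ Perm.sign (p44 a' c') = 1 := by
  decide +kernel

/-- Involutions of type `2²` in the centralizer of `t` normalizing `V`. -/
theorem cent_t_cases {x : Perm (Fin 8)} (h : x * tP = tP * x) (hs : Perm.sign x = 1)
    (h2 : x * x = 1) (hm : moves x = 4) (hm' : moves (x * tP) = 4)
    (hv : x * vP = vP * x ∨ x * vP = tP * vP * x) :
    x = vP ∨ x = tP * vP ∨ ∃ k : Perm (Fin 8), k * tP = tP * k ∧ Perm.sign k = 1 ∧
      k * x * k⁻¹ = cP := by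
  obtain ⟨a, c, rfl, hc⟩ := cent_t h
  obtain ⟨ha2, hc2⟩ := p44_injective (show p44 (a * a) (c * c) = p44 1 1 by
    rw [← p44_mul, h2, p44_one])
  rcases p44_four a (mem_inv4 a ha2) c (mem_inv4' c hc2 hc) hs hm hm' hv with
    e | e | ⟨a', ha', c', hc', e⟩
  · exact Or.inl e
  · exact Or.inr (Or.inl e)
  · exact Or.inr (Or.inr ⟨_, (conjs_facts a' ha' c' hc').1, (conjs_facts a' ha' c' hc').2, e⟩)

theorem p44_cv : ∀ a : Perm (Fin 4),
    ∀ c ∈ ([swap 0 1 * swap 2 3, swap 0 2 * swap 1 3, swap 0 3 * swap 1 2] : List (Perm (Fin 4))),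
    moves (p44 a c) = 4 → p44 a c = tP ∨ p44 a c = vP ∨ p44 a c = tP * vP := by
  decide +kernel

theorem vP_eq : vP = p44 1 (swap 0 2 * swap 1 3) := by decide +kernel

theorem cent_v4 : ∀ c : Perm (Fin 4), c * (swap 0 1 * swap 2 3) = swap 0 1 * swap 2 3 * c →
    c * (swap 0 2 * swap 1 3) = swap 0 2 * swap 1 3 * c → c = 1 ∨
    c ∈ ([swap 0 1 * swap 2 3, swap 0 2 * swap 1 3, swap 0 3 * swap 1 2] : List (Perm (Fin 4))) := by
  decide +kernel

theorem p44_fst : ∀ a : Perm (Fin 4), p44 a 1 4 = 4 := by decide +kernel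

/-- Two commuting involutions of type `2²` of `C(V)` outside `V` do not multiply to `t`. -/
theorem cent_four_prod {p q : Perm (Fin 8)} (hpt : p * tP = tP * p) (hpv : p * vP = vP * p)
    (hpm : moves p = 4) (hqt : q * tP = tP * q) (hqv : q * vP = vP * q)
    (hqm : moves q = 4) (hpq : p * q = tP) :
    (p = tP ∨ p = vP ∨ p = tP * vP) ∨ (q = tP ∨ q = vP ∨ q = tP * vP) := by
  obtain ⟨a, c, rfl, hc⟩ := cent_t hpt
  obtain ⟨a', c', rfl, hc'⟩ := cent_t hqt
  rw [vP_eq, p44_mul, p44_mul] at hpv hqv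
  rcases cent_v4 c hc (p44_injective hpv).2 with rfl | hcl
  swap
  · exact Or.inl (p44_cv a c hcl hpm)
  rcases cent_v4 c' hc' (p44_injective hqv).2 with rfl | hcl
  swap
  · exact Or.inr (p44_cv a' c' hcl hqm)
  exfalso
  have := congrArg (fun z : Perm (Fin 8) => z 4) hpq
  simp only [Perm.mul_apply, p44_fst] at this
  exact absurd this (by decide)

theorem wr_mul (π π' : Perm (Fin 4)) (ε ε' : Fin 4 → Fin 2) :
    wr π ε * wr π' ε' = wr (π * π') (fun i => ε' i + ε (π' i)) := by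
  refine Equiv.ext fun k => ?_
  obtain ⟨⟨i, s⟩, rfl⟩ := (finProdFinEquiv : Fin 4 × Fin 2 ≃ Fin 8).surjective k
  simp [wr, Equiv.permCongr_apply, add_assoc]

theorem wr_one : wr 1 0 = 1 := by
  refine Equiv.ext fun k => ?_
  obtain ⟨⟨i, s⟩, rfl⟩ := (finProdFinEquiv : Fin 4 × Fin 2 ≃ Fin 8).surjective k
  simp [wr, Equiv.permCongr_apply]

theorem wr_fst {π π' : Perm (Fin 4)} {ε ε' : Fin 4 → Fin 2} (h : wr π ε = wr π' ε') : π = π' := by
  have h' := (finProdFinEquiv : Fin 4 × Fin 2 ≃ Fin 8).permCongr.injective h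
  exact Equiv.ext fun i => congrArg Prod.fst (DFunLike.congr_fun h' (i, 0))

theorem wr_npow (π : Perm (Fin 4)) (ε : Fin 4 → Fin 2) :
    ∀ n : ℕ, ∃ ε', wr π ε ^ n = wr (π ^ n) ε'
  | 0 => ⟨0, by rw [pow_zero, pow_zero, wr_one]⟩
  | n + 1 => by
    obtain ⟨ε', h⟩ := wr_npow π ε n
    exact ⟨_, by rw [pow_succ, h, wr_mul, ← pow_succ]⟩

theorem cent_b_pow {x : Perm (Fin 8)} (h : x * bP = bP * x) : x ^ 48 = 1 := by
  obtain ⟨π, ε, rfl⟩ := cent_b h
  obtain ⟨ε', h'⟩ := wr_npow π ε 24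
  have h24 : π ^ 24 = 1 := by
    have := pow_card_eq_one (x := π)
    rwa [Fintype.card_perm, Fintype.card_fin] at this
  have h2 : ∀ a : Fin 2, a + a = 0 := by decide
  rw [show 48 = 24 * 2 from rfl, pow_mul, h', h24, pow_two, wr_mul, mul_one]
  simp only [Perm.one_apply, h2]
  exact wr_one

theorem bP_eq : bP = wr 1 (fun _ => 1) := by decide +kernel

theorem wr_zero_comm (π : Perm (Fin 4)) : wr π 0 * bP = bP * wr π 0 := by
  rw [bP_eq, wr_mul, wr_mul]
  simp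

theorem sign_wr_swap : ∀ x y : Fin 4, x ≠ y → Perm.sign (wr (swap x y) 0) = 1 := by decide +kernel

theorem sign_wr_zero (π : Perm (Fin 4)) : Perm.sign (wr π 0) = 1 := by
  induction π using Perm.swap_induction_on with
  | one => rw [wr_one, map_one]
  | swap_mul f x y hxy ih =>
    have e : wr (swap x y * f) 0 = wr (swap x y) 0 * wr f 0 := by
      rw [wr_mul]
      congr 1
    rw [e, map_mul, ih, sign_wr_swap x y hxy, one_mul]

theorem wr_zero (π : Perm (Fin 4)) : Perm.sign (wr π 0) = 1 ∧ wr π 0 * bP = bP * wr π 0 :=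
  ⟨sign_wr_zero π, wr_zero_comm π⟩

theorem wr_flip_aux : ∀ a b c d : Fin 2, moves (wr 1 ![a, b, c, d]) = 4 →
    wr 1 ![a, b, c, d] ∈ flips := by
  decide +kernel

theorem wr_flip (ε : Fin 4 → Fin 2) (h : moves (wr 1 ε) = 4) : wr 1 ε ∈ flips := by
  have e : ε = ![ε 0, ε 1, ε 2, ε 3] := funext fun i => by fin_cases i <;> rfl
  rw [e] at h ⊢
  exact wr_flip_aux _ _ _ _ h

theorem invol4 : ∀ π : Perm (Fin 4), π * π = 1 → π ≠ 1 → ∃ π' : Perm (Fin 4),
    π' * π * π'⁻¹ = swap 1 2 ∨ π' * π * π'⁻¹ = swap 0 1 * swap 2 3 := by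
  decide +kernel

theorem wr_two : ∀ π ∈ ([swap 1 2, swap 0 1 * swap 2 3] : List (Perm (Fin 4))),
    ∀ a b c d : Fin 2, wr π ![a, b, c, d] * wr π ![a, b, c, d] = 1 →
      Perm.sign (wr π ![a, b, c, d]) = 1 → moves (wr π ![a, b, c, d]) = 4 →
      wr π ![a, b, c, d] = jP ∨ wr π ![a, b, c, d] = jP * aP' := by
  decide +kernel

theorem wr_pairs (π : Perm (Fin 4)) (ε : Fin 4 → Fin 2) (hπ : π ≠ 1)
    (hs : Perm.sign (wr π ε) = 1) (h2 : wr π ε * wr π ε = 1) (hm : moves (wr π ε) = 4) :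
    ∃ π', wr π' 0 * wr π ε * (wr π' 0)⁻¹ = jP ∨ wr π' 0 * wr π ε * (wr π' 0)⁻¹ = jP * aP' := by
  have hππ : π * π = 1 := by
    rw [wr_mul, ← wr_one] at h2
    exact wr_fst h2
  obtain ⟨π', h'⟩ := invol4 π hππ hπ
  refine ⟨π', ?_⟩
  set k := wr π' 0
  have hkinv : k⁻¹ = wr π'⁻¹ 0 := inv_eq_of_mul_eq_one_right (by
    rw [wr_mul, mul_inv_cancel]
    simp only [Pi.zero_apply, add_zero]
    exact wr_one)
  obtain ⟨δ, hδ⟩ : ∃ δ : Fin 4 → Fin 2, k * wr π ε * k⁻¹ = wr (π' * π * π'⁻¹) δ :=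
    ⟨_, by rw [hkinv, wr_mul, wr_mul]⟩
  have h2' : k * wr π ε * k⁻¹ * (k * wr π ε * k⁻¹) = 1 := by
    rw [show k * wr π ε * k⁻¹ * (k * wr π ε * k⁻¹) = k * (wr π ε * wr π ε) * k⁻¹ by group, h2]
    group
  have hs' : Perm.sign (k * wr π ε * k⁻¹) = 1 := by
    rw [map_mul, map_mul, map_inv, hs, mul_one, mul_inv_cancel]
  have hm' : moves (k * wr π ε * k⁻¹) = 4 := by
    rw [moves, Perm.card_support_conj]; exact hm
  have e : δ = ![δ 0, δ 1, δ 2, δ 3] := funext fun i => by fin_cases i <;> rfl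
  rw [hδ] at h2' hs' hm' ⊢
  rw [e] at h2' hs' hm' ⊢
  exact wr_two _ (by simpa using h') _ _ _ _ h2' hs' hm'

/-- Involutions of type `2²` in the centralizer of `b`. -/
theorem cent_b_cases {x : Perm (Fin 8)} (h : x * bP = bP * x) (hs : Perm.sign x = 1)
    (h2 : x * x = 1) (hm : moves x = 4) :
    x ∈ flips ∨ ∃ k : Perm (Fin 8), k * bP = bP * k ∧ Perm.sign k = 1 ∧
      (k * x * k⁻¹ = jP ∨ k * x * k⁻¹ = jP * aP') := by
  obtain ⟨π, ε, rfl⟩ := cent_b h
  by_cases hπ : π = 1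
  · subst hπ; exact Or.inl (wr_flip ε hm)
  · obtain ⟨π', h'⟩ := wr_pairs π ε hπ hs h2 hm
    exact Or.inr ⟨_, (wr_zero π').2, (wr_zero π').1, h'⟩

theorem flips_conj_aux : ∀ f ∈ flips,
    ∃ π ∈ ([swap 0 2 * swap 1 3, swap 1 2 * swap 2 3 * swap 1 2, swap 0 2, swap 0 3, swap 1 2, swap 1 3, 1] :
      List (Perm (Fin 4))), wr π 0 * tP * (wr π 0)⁻¹ = f := by
  simp only [flips, List.forall_mem_cons]
  refine ⟨?_, ?_, ?_, ?_, ?_, ?_, List.forall_mem_nil _⟩ <;> decide +kernel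

/-- The flips are conjugate under the centralizer of `b`. -/
theorem flips_conj : ∀ f ∈ flips, ∃ k : Perm (Fin 8), k * bP = bP * k ∧ Perm.sign k = 1 ∧
    k * tP * k⁻¹ = f := fun f hf =>
  let ⟨π, _, hπ⟩ := flips_conj_aux f hf
  ⟨_, (wr_zero π).2, (wr_zero π).1, hπ⟩

theorem flips_facts :
    (∀ f ∈ flips, f * bP = bP * f ∧ Perm.sign f = 1 ∧ moves f = 4 ∧ f * f = 1) ∧
    tP ∈ flips ∧
    (∀ f ∈ flips, f * tP = tP * f) ∧
    dP * aP * dP⁻¹ = aP' ∧ aP' ≠ aP ∧ aP' ≠ aP * bP ∧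
    aP * aP' = aP' * aP ∧ dP * aP' * dP⁻¹ = aP * aP' ∧ jP * aP * jP⁻¹ = aP * aP' ∧
    dP ^ 3 = 1 ∧ dP ≠ 1 ∧ jP * jP = 1 ∧ jP * dP * jP = dP ^ 2 ∧
    dP * bP = bP * dP ∧ jP * bP = bP * jP ∧ aP * dP * aP⁻¹ * dP⁻¹ = aP * aP' := by
  simp only [flips, List.forall_mem_cons]
  refine ⟨⟨?_, ?_, ?_, ?_, ?_, ?_, List.forall_mem_nil _⟩, ?_,
    ⟨?_, ?_, ?_, ?_, ?_, ?_, List.forall_mem_nil _⟩,
    ?_, ?_, ?_, ?_, ?_, ?_, ?_, ?_, ?_, ?_, ?_, ?_, ?_⟩ <;> decide +kernel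

theorem basic_facts :
    Perm.sign tP = 1 ∧ Perm.sign vP = 1 ∧ Perm.sign cP = 1 ∧ Perm.sign bP = 1 ∧
    Perm.sign aP = 1 ∧ Perm.sign aP' = 1 ∧ Perm.sign dP = 1 ∧ Perm.sign jP = 1 ∧
    Perm.sign yP = 1 ∧ moves tP = 4 ∧ moves vP = 4 ∧ moves cP = 4 ∧ moves bP = 8 ∧ moves yP = 8 ∧
    moves (tP * vP) = 4 ∧ moves (tP * cP) = 4 := by
  refine ⟨?_, ?_, ?_, ?_, ?_, ?_, ?_, ?_, ?_, ?_, ?_, ?_, ?_, ?_, ?_, ?_⟩ <;> decide +kernel

end CfsgLib.ThreeEight.Alt
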