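import Cfsg.Agent.Lib.Recognition.ThreeEight.Model

/-!
Further finite facts on the model, kept apart to bound the memory of each module.
-/

set_option autoImplicit false
set_option maxRecDepth 10000
set_option synthInstance.maxSize 2000
set_option synthInstance.maxHeartbeats 400000

namespace CfsgLib.ThreeEight

open Equiv

/-- The centralizer of `T` in `L35` has at most 24 elements. -/
theorem card_centralizer_eT :
    (Finset.univ.filter fun l : P35 =>
      Perm.sign l.1 * Perm.sign l.2 = 1 ∧ l * eT = eT * l).card = 24 := by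
  decide +kernel

/-- A five-element and its `S`-conjugate generate a group with an involution. -/
theorem five_gen : ∀ l : P35, l ∈ L35 → l ^ 5 = 1 → l ≠ 1 →
    ∃ i j : Fin 5, (l ^ i.val * (eS * l * (eS : P35)⁻¹) ^ j.val) ^ 2 = 1 ∧
      l ^ i.val * (eS * l * (eS : P35)⁻¹) ^ j.val ≠ 1 := by
  simp only [mem_L35]
  decide +kernel

/-- Involutions centralizing `Z` whose `S`-conjugates generate a group without elements of
order three. -/
theorem vee_choice : ∀ l : P35, l ∈ L35 → l * l = 1 → l ≠ 1 → l * eZ = eZ * l →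
    (∀ m ∈ ([l * (eS * l * (eS : P35)⁻¹), l * (eS * l * (eS : P35)⁻¹) * l,
        (eS * l * (eS : P35)⁻¹) * l,
        l * (eS * l * (eS : P35)⁻¹) * ((eS : P35)⁻¹ * l * eS),
        l * ((eS : P35)⁻¹ * l * eS) * (eS * l * (eS : P35)⁻¹),
        (l * (eS * l * (eS : P35)⁻¹)) * (l * ((eS : P35)⁻¹ * l * eS))] : List P35), m ^ 3 = 1 → m = 1) →
      ∃ k : Fin 3, (eS : P35) ^ k.val * l * ((eS : P35) ^ k.val)⁻¹ =
          (1, swap 2 3 * swap 4 0) ∨
        (eS : P35) ^ k.val * l * ((eS : P35) ^ k.val)⁻¹ = (1, swap 2 3 * swap 4 1) := by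
  simp only [mem_L35]
  decide +kernel

end CfsgLib.ThreeEight
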