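import Cfsg.Agent.Lib.Recognition.ThreeEight.Frame
import Cfsg.Agent.Lib.Recognition.ThreeEight.Local

/-!
Centralizers of the 3-elements and the classes of involutions seen by the frame.
-/

set_option autoImplicit false
set_option linter.style.haveILetI false

namespace CfsgLib.ThreeEight

open Subgroup Equiv

variable {G : Type*} [Group G]

theorem orderOf_conj' (g w : G) : orderOf (g * w * g⁻¹) = orderOf w :=
  orderOf_injective (MulAut.conj g).toMonoidHom (MulAut.conj g).injective w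

theorem card_centralizer_conj (g w : G) :
    Nat.card (centralizer ({g * w * g⁻¹} : Set G)) = Nat.card (centralizer ({w} : Set G)) := by
  have e : centralizer ({g * w * g⁻¹} : Set G) =
      (centralizer ({w} : Set G)).map (MulAut.conj g).toMonoidHom := by
    ext x
    rw [Subgroup.mem_map_equiv, mem_centralizer_singleton_iff, mem_centralizer_singleton_iff,
      MulAut.conj_symm_apply]
    constructor
    · intro h
      calc g⁻¹ * x * g * w = g⁻¹ * (x * (g * w * g⁻¹)) * g := by group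
        _ = w * (g⁻¹ * x * g) := by rw [h]; group
    · intro h
      calc x * (g * w * g⁻¹) = g * (g⁻¹ * x * g * w) * g⁻¹ := by group
        _ = g * w * g⁻¹ * x := by rw [h]; group
  rw [e, Subgroup.card_map_of_injective (MulAut.conj g).injective]

theorem centralizer_inv (w : G) :
    centralizer ({w⁻¹} : Set G) = centralizer ({w} : Set G) := by
  ext x
  rw [mem_centralizer_singleton_iff, mem_centralizer_singleton_iff]
  exact Commute.inv_right_iff

theorem centralizer_eq_of_zpowers {a b : G} (h : zpowers a = zpowers b) :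
    centralizer ({a} : Set G) = centralizer ({b} : Set G) := by
  rw [← centralizer_closure {a}, ← centralizer_closure {b}, ← zpowers_eq_closure,
    ← zpowers_eq_closure, h]

/-- Two elements of order three of a group whose order is not divisible by nine generate conjugate
subgroups. -/
theorem exists_conj_three [Finite G] (H : Subgroup G) (h9 : ¬ 9 ∣ Nat.card H) {a b : G}
    (ha : orderOf a = 3) (hb : orderOf b = 3) (haH : a ∈ H) (hbH : b ∈ H) :
    ∃ c ∈ H, zpowers (c * a * c⁻¹) = zpowers b := by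
  classical
  haveI : Fact (Nat.Prime 3) := ⟨Nat.prime_three⟩
  have hv : (Nat.card H).factorization 3 = 1 := by
    have h3 : 3 ∣ Nat.card H := ha ▸ (orderOf_mk a haH).symm.trans rfl ▸ orderOf_dvd_natCard _
    have h0 : (Nat.card H) ≠ 0 := Nat.card_pos.ne'
    have h1 := (Nat.Prime.pow_dvd_iff_le_factorization Nat.prime_three h0 (k := 1)).1 (by simpa using h3)
    have h2 : ¬ 2 ≤ (Nat.card H).factorization 3 := fun h =>
      h9 ((Nat.Prime.pow_dvd_iff_le_factorization Nat.prime_three h0 (k := 2)).2 h)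
    omega
  have mk : ∀ {w : G} (hw : w ∈ H), orderOf w = 3 →
      ∃ P : Sylow 3 H, (P : Subgroup H) = zpowers (⟨w, hw⟩ : H) := by
    intro w hw hw3
    refine ⟨Sylow.ofCard (zpowers (⟨w, hw⟩ : H)) ?_, rfl⟩
    rw [hv, Nat.card_zpowers, Subgroup.orderOf_mk, hw3, pow_one]
  obtain ⟨P, hP⟩ := mk haH ha
  obtain ⟨Q, hQ⟩ := mk hbH hb
  obtain ⟨c, hc⟩ := MulAction.exists_smul_eq H P Q
  refine ⟨c, c.2, ?_⟩
  have h1 := congrArg (fun R : Sylow 3 H => (R : Subgroup H).map H.subtype) hc
  simp only [Sylow.coe_subgroup_smul, hP, hQ] at h1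
  rw [MonoidHom.map_zpowers] at h1
  show zpowers _ = zpowers (H.subtype ⟨b, hbH⟩)
  rw [← h1]
  show zpowers _ = Subgroup.map H.subtype ((zpowers _).map (MulAut.conj c).toMonoidHom)
  rw [MonoidHom.map_zpowers, MonoidHom.map_zpowers]
  rfl

namespace Frame

variable (F : Frame G)

/-- The centralizer of `Z` is the image of the centralizer in the model. -/
theorem exists_of_commute {g : G} (h : g * F.i₁ eZ = F.i₁ eZ * g) :
    ∃ l : L35, F.i₁ l = g ∧ (l : P35) * eZ = eZ * l := by
  have hg : g ∈ F.i₁.range := by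
    rw [F.range_eq]
    exact mem_normalizer_zpowers (Or.inl (by rw [h]; group))
  obtain ⟨l, rfl⟩ := hg
  refine ⟨l, rfl, ?_⟩
  rw [← map_mul, ← map_mul] at h
  simpa using congrArg Subtype.val (F.inj h)

theorem card_centralizer_Z [Finite G] : Nat.card (centralizer ({F.i₁ eZ} : Set G)) = 180 := by
  let T : Finset P35 := Finset.univ.filter fun l : P35 =>
    Perm.sign l.1 * Perm.sign l.2 = 1 ∧ l * eZ = eZ * l
  have hT : ∀ {l : P35}, l ∈ T → l ∈ L35 ∧ l * eZ = eZ * l := fun h => (Finset.mem_filter.1 h).2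
  have hb : Function.Bijective fun l : T =>
      (⟨F.i₁ ⟨l.1, (hT l.2).1⟩, mem_centralizer_singleton_iff.2 (by
        rw [← map_mul, ← map_mul]
        exact congrArg F.i₁ (Subtype.ext (by simpa using (hT l.2).2)))⟩ :
          centralizer ({F.i₁ eZ} : Set G)) := by
    refine ⟨fun a b e => Subtype.ext ?_, fun g => ?_⟩
    · have h := F.inj (congrArg Subtype.val e)
      exact congrArg (fun x : L35 => (x : P35)) h
    · obtain ⟨l, hl, hc⟩ := F.exists_of_commute (mem_centralizer_singleton_iff.1 g.2)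
      exact ⟨⟨l, Finset.mem_filter.2 ⟨Finset.mem_univ _, l.2, hc⟩⟩, Subtype.ext (by simpa using hl)⟩
  rw [← Nat.card_eq_of_bijective _ hb, Nat.card_eq_fintype_card, Fintype.card_coe]
  exact card_centralizer_eZ

theorem nine_mem (x : Fin 3 × Fin 3) : F.i₁ (nineL x) ∈ F.D := (F.memD _).2 ⟨x, rfl⟩

theorem le_centralizer {d : G} (hd : d ∈ F.D) : F.D ≤ centralizer ({d} : Set G) := fun g hg => by
  rw [← F.cent_D] at hg
  exact mem_centralizer_singleton_iff.2 (mem_centralizer_iff.1 hg d hd).symm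

theorem pow_three {d : G} (hd : d ∈ F.D) : d ^ 3 = 1 := by
  obtain ⟨x, rfl⟩ := (F.memD d).1 hd
  have h : nineL x ^ 3 = 1 := by
    rw [nineL, (show Commute (eZ ^ x.1.val) (eS ^ x.2.val) from
      (show Commute eZ eS from eZ_eS).pow_pow _ _).mul_pow, ← pow_mul, ← pow_mul, mul_comm,
      pow_mul, eZ_pow, one_pow, one_mul, mul_comm, pow_mul, eS_pow, one_pow]
  rw [← map_pow, h, map_one]

/-- No involution centralizes a Sylow 3-subgroup. -/
theorem not_nine_dvd [Finite G] (F : Frame G) {t : G} (ht : orderOf t = 2) :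
    ¬ 9 ∣ Nat.card (centralizer ({t} : Set G)) := by
  intro h9
  haveI : Fact (Nat.Prime 3) := ⟨Nat.prime_three⟩
  obtain ⟨P, hP⟩ := F.sylow
  obtain ⟨Q, hQ⟩ := Sylow.exists_subgroup_card_pow_prime 3
    (show 3 ^ 2 ∣ Nat.card (centralizer ({t} : Set G)) from h9)
  set Q' := Q.map (centralizer ({t} : Set G)).subtype
  have hQ' : Nat.card Q' = 9 := by
    rw [Subgroup.card_map_of_injective (Subgroup.subtype_injective _), hQ]; rfl
  obtain ⟨R, hR⟩ := (IsPGroup.of_card (p := 3) (n := 2) (G := Q') hQ').exists_le_sylow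
  have hR9 : (R : Subgroup G) = Q' := by
    refine (Subgroup.eq_of_le_of_card_ge hR (le_of_eq ?_)).symm
    rw [hQ', ← F.card_D, ← hP, P.card_eq_multiplicity, R.card_eq_multiplicity]
  obtain ⟨g, hg⟩ := MulAction.exists_smul_eq G R P
  have hmem : g * t * g⁻¹ ∈ centralizer (F.D : Set G) := by
    rw [mem_centralizer_iff]
    intro d hd
    rw [← hP, ← hg, SetLike.mem_coe, Sylow.coe_subgroup_smul] at hd
    obtain ⟨r, hr, rfl⟩ := hd
    rw [hR9] at hr
    obtain ⟨⟨r, hrt⟩, -, rfl⟩ := hr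
    rw [mem_centralizer_singleton_iff] at hrt
    show g * r * g⁻¹ * (g * t * g⁻¹) = g * t * g⁻¹ * (g * r * g⁻¹)
    calc g * r * g⁻¹ * (g * t * g⁻¹) = g * (r * t) * g⁻¹ := by group
      _ = _ := by rw [hrt]; group
  rw [F.cent_D] at hmem
  have h3 : orderOf (g * t * g⁻¹) ∣ 3 := orderOf_dvd_of_pow_eq_one (F.pow_three hmem)
  rw [orderOf_conj', ht] at h3
  omega

end Frame

namespace Frames

variable (E : Frames G)

theorem exists_of_commute_S {g : G} (h : g * E.i₁ eS = E.i₁ eS * g) :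
    ∃ l : L35, E.i₂ l = g ∧ (l : P35) * eZ = eZ * l := by
  have hg : g ∈ E.i₂.range := by
    rw [E.range₂]
    exact mem_normalizer_zpowers (Or.inl (by rw [h]; group))
  obtain ⟨l, rfl⟩ := hg
  refine ⟨l, rfl, ?_⟩
  rw [← E.agree_Z, ← map_mul, ← map_mul] at h
  simpa using congrArg Subtype.val (E.inj₂ h)

theorem isConj_i₂ (w : L35) (hw : twist w = w) : IsConj (E.i₁ w) (E.i₂ w) := by
  obtain ⟨h, hh⟩ := E.conj₂
  refine isConj_iff.2 ⟨h, ?_⟩
  rcases hh w with e | e
  · rw [hw] at e; exact e.symm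
  · exact e.symm

theorem card_centralizer_S [Finite G] : Nat.card (centralizer ({E.i₁ eS} : Set G)) = 180 := by
  obtain ⟨c, hc⟩ := isConj_iff.1 (E.isConj_i₂ eZ twist_fix.1)
  rw [← E.agree_Z, ← hc, card_centralizer_conj]
  exact E.card_centralizer_Z

/-- The elements of `D` off the two lines have centralizers of order 18. -/
theorem card_centralizer_off [Finite G] {a b : Fin 3} (ha : a ≠ 0) (hb : b ≠ 0) :
    Nat.card (centralizer ({E.i₁ (nineL (a, b))} : Set G)) = 18 := by
  obtain ⟨d, hd, h18⟩ := E.exists18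
  obtain ⟨⟨p, q⟩, rfl⟩ := (E.memD d).1 hd
  have hline : ∀ p : Fin 3, Nat.card (centralizer ({E.i₁ (eZ ^ p.val)} : Set G)) ≠ 18 ∧
      Nat.card (centralizer ({E.i₁ (eS ^ p.val)} : Set G)) ≠ 18 := by
    have h1 : Nat.card (centralizer ({(1 : G)} : Set G)) ≠ 18 := by
      intro h
      have hle : centralizer ({E.i₁ eZ} : Set G) ≤ centralizer ({(1 : G)} : Set G) := fun x _ =>
        mem_centralizer_singleton_iff.2 (by simp)
      have := Subgroup.card_le_of_le hle
      rw [E.card_centralizer_Z, h] at this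
      omega
    have h2 : ∀ w : L35, w ^ 3 = 1 →
        centralizer ({E.i₁ (w ^ 2)} : Set G) = centralizer ({E.i₁ w} : Set G) := fun w hw => by
      rw [show w ^ 2 = w⁻¹ from eq_inv_of_mul_eq_one_left (by rw [← pow_succ, hw]), map_inv,
        centralizer_inv]
    intro p
    fin_cases p
    · simp [h1]
    · simp [E.card_centralizer_Z, E.card_centralizer_S]
    · show Nat.card (centralizer ({E.i₁ (eZ ^ 2)} : Set G)) ≠ 18 ∧
        Nat.card (centralizer ({E.i₁ (eS ^ 2)} : Set G)) ≠ 18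
      rw [h2 _ eZ_pow, h2 _ eS_pow, E.card_centralizer_Z, E.card_centralizer_S]
      omega
  have hp : p ≠ 0 := by rintro rfl; exact (hline q).2 (by simpa [nineL] using h18)
  have hq : q ≠ 0 := by rintro rfl; exact (hline p).1 (by simpa [nineL] using h18)
  have key : ∀ p q a b : Fin 3, p ≠ 0 → q ≠ 0 → a ≠ 0 → b ≠ 0 →
      nineL (a, b) = nineL (p, q) ∨ nineL (a, b) = (nineL (p, q))⁻¹ ∨
      nineL (a, b) = eD₁ * nineL (p, q) * eD₁⁻¹ ∨ nineL (a, b) = eD₁ * (nineL (p, q))⁻¹ * eD₁⁻¹ := by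
    decide +kernel
  rcases key p q a b hp hq ha hb with e | e | e | e <;> rw [e]
  · exact h18
  · rw [map_inv, centralizer_inv, h18]
  · rw [map_mul, map_mul, map_inv, card_centralizer_conj, h18]
  · rw [map_mul, map_mul, map_inv, map_inv, card_centralizer_conj, centralizer_inv, h18]

theorem isConj_T {l : L35} (h2 : l * l = 1) (h1 : l ≠ 1) : IsConj (E.i₁ eT) (E.i₁ l) := by
  obtain ⟨m₀, hm₀, e₀⟩ := eD₂_conj
  have hD₂ : IsConj (E.i₁ eT) (E.i₁ eD₂) := by
    refine (isConj_iff.2 ⟨E.i₁ ⟨m₀, hm₀⟩, ?_⟩).symm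
    rw [← map_inv, ← map_mul, ← map_mul]
    exact congrArg E.i₁ (Subtype.ext (by simpa using e₀))
  have hD₁ : IsConj (E.i₁ eT) (E.i₁ eD₁) := by
    rw [← E.agree_D₂]
    exact hD₂.trans (E.isConj_i₂ eD₂ twist_fix.2.2.2)
  obtain ⟨m, hm, e | e⟩ := invol_conj l.2 (by simpa using congrArg Subtype.val h2)
    (fun e => h1 (Subtype.ext e))
  · refine (isConj_iff.2 ⟨E.i₁ ⟨m, hm⟩, ?_⟩).symm
    rw [← map_inv, ← map_mul, ← map_mul]
    exact congrArg E.i₁ (Subtype.ext (by simpa using e))
  · refine hD₁.trans (isConj_iff.2 ⟨E.i₁ ⟨m, hm⟩, ?_⟩).symm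
    rw [← map_inv, ← map_mul, ← map_mul]
    exact congrArg E.i₁ (Subtype.ext (by simpa using e))

theorem orderOf_T : orderOf (E.i₁ eT) = 2 := by
  rw [orderOf_injective E.i₁ E.inj, ← Subgroup.orderOf_coe]
  exact orderOf_eq_prime four_facts.1 (by decide)

theorem orderOf_Z : orderOf (E.i₁ eZ) = 3 := by
  rw [orderOf_injective E.i₁ E.inj]
  exact orderOf_eq_prime eZ_pow eZ_ne_one

theorem T_comm_Z : E.i₁ eZ * E.i₁ eT = E.i₁ eT * E.i₁ eZ := by
  rw [← map_mul, ← map_mul]
  exact congrArg E.i₁ (Subtype.ext (by simpa using four_facts.2.2.2.2.2.2.2.1.symm))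

/-- An involution centralizing an element off the lines is not conjugate to `T`. -/
theorem not_isConj_T [Finite G] {a b : Fin 3} (ha : a ≠ 0) (hb : b ≠ 0) {i : G}
    (hc : i * E.i₁ (nineL (a, b)) = E.i₁ (nineL (a, b)) * i) : ¬ IsConj (E.i₁ eT) i := by
  intro hconj
  obtain ⟨g, hg⟩ := isConj_iff.1 hconj
  set d := E.i₁ (nineL (a, b))
  have hd3 : orderOf d = 3 := by
    refine orderOf_eq_prime (E.pow_three (E.nine_mem _)) fun e => ?_
    have := nineL_injective (E.inj (e.trans (by simp [nineL] : (1 : G) = E.i₁ (nineL (0, 0)))))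
    simp only [Prod.mk.injEq] at this
    exact ha this.1
  set d' := g⁻¹ * d * g
  have hd' : orderOf d' = 3 := by
    have e := orderOf_conj' g⁻¹ d
    rw [inv_inv] at e
    rw [e, hd3]
  have hd'T : d' ∈ centralizer ({E.i₁ eT} : Set G) := by
    rw [mem_centralizer_singleton_iff]
    rw [← hg] at hc
    calc g⁻¹ * d * g * E.i₁ eT = g⁻¹ * (d * (g * E.i₁ eT * g⁻¹)) * g := by group
      _ = E.i₁ eT * (g⁻¹ * d * g) := by rw [← hc]; group
  have hZT : E.i₁ eZ ∈ centralizer ({E.i₁ eT} : Set G) :=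
    mem_centralizer_singleton_iff.2 E.T_comm_Z
  obtain ⟨c, -, hcz⟩ := exists_conj_three _ (E.toFrame.not_nine_dvd E.orderOf_T) hd' E.orderOf_Z
    hd'T hZT
  have h1 := centralizer_eq_of_zpowers hcz
  have h2 : Nat.card (centralizer ({c * d' * c⁻¹} : Set G)) = 18 := by
    rw [card_centralizer_conj]
    have e : g⁻¹ * d * g = g⁻¹ * d * g⁻¹⁻¹ := by rw [inv_inv]
    show Nat.card (centralizer ({g⁻¹ * d * g} : Set G)) = 18
    rw [e, card_centralizer_conj]
    exact E.card_centralizer_off ha hb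
  rw [h1, E.card_centralizer_Z] at h2
  omega

end Frames

end CfsgLib.ThreeEight
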