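import Cfsg.Agent.Lib.Recognition.ThreeEight.CentV
import Cfsg.Agent.Lib.Involutions.BrauerSuzuki
import Cfsg.Agent.Lib.PCore.Basic
import Cfsg.Agent.Lib.Involutions.Isolated

/-!
The centralizer of the involution `t`: by the Z*-theorem it is its odd core times the part inside
the image of `A₈`, and the odd core is abelian.
-/

set_option autoImplicit false
set_option linter.style.haveILetI false
set_option linter.unusedSectionVars false
set_option maxRecDepth 10000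
set_option synthInstance.maxSize 2000
set_option synthInstance.maxHeartbeats 400000

namespace CfsgLib.ThreeEight

open Subgroup Equiv Alt

variable {G : Type*} [Group G]

/-- The subgroup generated by the elements of order prime to six centralizing `a`. -/
def core6 (a : G) : Subgroup G := closure {x | Commute x a ∧ (orderOf x).Coprime 6}

theorem coprime_six {n : ℕ} (h2 : ¬ 2 ∣ n) (h3 : ¬ 3 ∣ n) : n.Coprime 6 :=
  (Nat.Coprime.mul_right ((Nat.prime_two.coprime_iff_not_dvd.2 h2).symm)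
    ((Nat.prime_three.coprime_iff_not_dvd.2 h3).symm) : n.Coprime (2 * 3))

theorem eq_one_of_coprime_six {g : G} (hg : (orderOf g).Coprime 6) {n : ℕ} (hn : g ^ n = 1)
    (h : ∀ m : ℕ, m ∣ n → m.Coprime 6 → m = 1) : g = 1 :=
  orderOf_eq_one_iff.1 (h _ (orderOf_dvd_of_pow_eq_one hn) hg)

theorem eq_one_of_dvd_48 (m : ℕ) (h : m ∣ 48) (h6 : m.Coprime 6) : m = 1 := by
  have h' : m ∣ 6 ^ 4 := h.trans (by norm_num)
  exact Nat.eq_one_of_dvd_coprimes (h6.pow_right 4) dvd_rfl h'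

theorem vee_facts :
    Perm.sign (tP * vP) = 1 ∧ Perm.sign (swap 2 3 * swap 6 7 : Perm (Fin 8)) = 1 ∧
    moves (swap 2 3 * swap 6 7 : Perm (Fin 8)) = 4 ∧ (tP * vP) * (tP * vP) = 1 ∧
    aP' * aP' = 1 ∧ aP' ≠ 1 ∧ (swap 2 3 * swap 6 7 : Perm (Fin 8)) * (swap 2 3 * swap 6 7) = 1 ∧
    (swap 2 3 * swap 6 7 : Perm (Fin 8)) ≠ 1 ∧ aP' * (swap 2 3 * swap 6 7) = tP ∧
    (aP' * tP = tP * aP' ∧ aP' * cP = cP * aP') ∧
    ((swap 2 3 * swap 6 7 : Perm (Fin 8)) * tP = tP * (swap 2 3 * swap 6 7) ∧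
      (swap 2 3 * swap 6 7 : Perm (Fin 8)) * cP = cP * (swap 2 3 * swap 6 7)) ∧
    (aP' ≠ tP ∧ aP' ≠ cP ∧ aP' ≠ tP * cP) ∧
    ((swap 2 3 * swap 6 7 : Perm (Fin 8)) ≠ tP ∧ (swap 2 3 * swap 6 7 : Perm (Fin 8)) ≠ cP ∧
      (swap 2 3 * swap 6 7 : Perm (Fin 8)) ≠ tP * cP) ∧
    tP * vP = vP * tP ∧ aP * tP = tP * aP ∧
    (aP * j₀ eZ * aP⁻¹ * (j₀ eZ)⁻¹) ^ 3 ≠ 1 ∧ vP ≠ tP ∧ tP * vP ≠ tP ∧
    Perm.sign (tP * cP) = 1 := by
  refine ⟨?_, ?_, ?_, ?_, ?_, ?_, ?_, ?_, ?_, ?_, ?_, ?_, ?_, ?_, ?_, ?_, ?_, ?_, ?_⟩ <;>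
    decide +kernel

namespace Emb

variable [Finite G] (E : Emb G)

/-- A conjugate of `v` under `C(t)` commuting with it modulo `t` is `v` or `t v`. -/
theorem vee_isolated {h : G} (hh : h * E.φ tP = E.φ tP * h)
    (hx : h * E.φ vP * h⁻¹ * E.φ vP = E.φ vP * (h * E.φ vP * h⁻¹) ∨
      h * E.φ vP * h⁻¹ * E.φ vP = E.φ (tP * vP) * (h * E.φ vP * h⁻¹)) :
    h * E.φ vP * h⁻¹ = E.φ vP ∨ h * E.φ vP * h⁻¹ = E.φ (tP * vP) := by
  obtain ⟨st, sv, sc, -, -, sa', -, -, -, mt, mv, mc, -, -, mtv, mtc⟩ := basic_facts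
  obtain ⟨t2, t1, v2, v1, c2, c1, -, -, -⟩ := invol_facts
  obtain ⟨stv, sq, mq, tv2, p2, p1, q2, q1, hpq, hp, hq, hp', hq', htv, -, -, -, -, stc⟩ := vee_facts
  set x := h * E.φ vP * h⁻¹ with hxdef
  have hth : h * E.φ tP * h⁻¹ = E.φ tP := by rw [hh, mul_inv_cancel_right]
  have hxt : Commute x (E.φ tP) := by
    rw [← hth]
    exact (show Commute (E.φ vP) (E.φ tP) from (E.φ_comm sv st).2 htv.symm).map
      (MulAut.conj h).toMonoidHom
  have hxT : x * E.i₁ eT * x⁻¹ = E.i₁ (fourL (1, 0)) := by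
    rw [show fourL (1, 0) = eT by simp [fourL], T_eq, hxt.eq, mul_inv_cancel_right]
  have hxK : x ∈ E.K := by
    rcases hx with e | e
    · refine E.normalizer_V_le (v := (1, 0)) (w := (0, 1)) hxT ?_
      rw [show fourL (0, 1) = eV by simp [fourL], V_eq, e, mul_inv_cancel_right]
    · refine E.normalizer_V_le (v := (1, 0)) (w := (1, 1)) hxT ?_
      rw [show fourL (1, 1) = eT * eV by simp [fourL], map_mul, T_eq, V_eq, e, E.φ_mul st sv,
        mul_inv_cancel_right]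
  obtain ⟨y, sy, hy⟩ := E.exists_of_mem hxK
  have hv' : IsConj (E.φ tP) (E.φ vP) := by
    obtain ⟨k, -, e⟩ := E.isConj_of_moves st sv t2 t1 v2 v1 (mt.trans mv.symm)
    exact isConj_iff.2 ⟨k, e⟩
  obtain ⟨hmy, hy2, -⟩ := E.moves_of_isConj sy (hy ▸ hv'.trans (isConj_iff.2 ⟨h, hxdef.symm⟩))
  have hyt : y * tP = tP * y := (E.φ_comm sy st).1 (hy ▸ hxt.eq)
  have hmyt : moves (y * tP) = 4 := by
    refine (E.moves_of_isConj (by rw [map_mul, sy, st, one_mul]) ?_).1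
    have htv' : IsConj (E.φ tP) (E.φ (tP * vP)) := by
      have htv1 : tP * vP ≠ 1 := fun e => by
        have h4 := mtv
        rw [e] at h4
        simp [moves] at h4
      obtain ⟨k, -, e⟩ := E.isConj_of_moves st stv t2 t1 tv2 htv1 (mt.trans mtv.symm)
      exact isConj_iff.2 ⟨k, e⟩
    refine htv'.trans (isConj_iff.2 ⟨h, ?_⟩)
    rw [← E.φ_mul sy st, ← hy, hxdef, htv, ← E.φ_mul sv st]
    calc h * (E.φ vP * E.φ tP) * h⁻¹ = h * E.φ vP * h⁻¹ * (h * E.φ tP * h⁻¹) := by group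
      _ = _ := by rw [hth]
  have hyv : y * vP = vP * y ∨ y * vP = tP * vP * y := by
    rcases hx with e | e
    · exact Or.inl ((E.φ_comm sy sv).1 (hy ▸ e))
    · refine Or.inr (E.φ_inj (by rw [map_mul, sy, sv, one_mul])
        (by rw [map_mul, stv, sy, one_mul]) ?_)
      rw [← E.φ_mul sy sv, ← E.φ_mul stv sy, ← hy]
      exact e
  rcases cent_t_cases hyt sy hy2 hmy hmyt hyv with e | e | ⟨k, hkt, hks, hk⟩
  · exact Or.inl (hy.trans (congrArg E.φ e))
  · exact Or.inr (hy.trans (congrArg E.φ e))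
  exfalso
  set g := E.φ k * h with hgdef
  have hgt : g * E.φ tP * g⁻¹ = E.φ tP := by
    calc g * E.φ tP * g⁻¹ = E.φ k * (h * E.φ tP * h⁻¹) * (E.φ k)⁻¹ := by rw [hgdef]; group
      _ = E.φ tP := by rw [hth, E.φ_conj hks st, hkt, mul_inv_cancel_right]
  have hgv : g * E.φ vP * g⁻¹ = E.φ cP := by
    calc g * E.φ vP * g⁻¹ = E.φ k * (h * E.φ vP * h⁻¹) * (E.φ k)⁻¹ := by rw [hgdef]; group
      _ = E.φ cP := by rw [← hxdef, hy, E.φ_conj hks sy, hk]
  have key : ∀ p : Perm (Fin 8), Perm.sign p = 1 → moves p = 4 → p * p = 1 → p ≠ 1 →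
      p * tP = tP * p → p * cP = cP * p →
      ∃ p' : Perm (Fin 8), Perm.sign p' = 1 ∧ g * E.φ p' * g⁻¹ = E.φ p ∧ p' * tP = tP * p' ∧
        p' * vP = vP * p' ∧ moves p' = 4 := by
    intro p sp mp p2 p1 hpt hpc
    have c1' : Commute (g⁻¹ * E.φ p * g) (E.φ tP) := by
      have := (show Commute (E.φ p) (g * E.φ tP * g⁻¹) from hgt.symm ▸ (E.φ_comm sp st).2 hpt).map
        (MulAut.conj g⁻¹).toMonoidHom
      simpa [mul_assoc] using this
    have c2' : Commute (g⁻¹ * E.φ p * g) (E.φ vP) := by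
      have := (show Commute (E.φ p) (g * E.φ vP * g⁻¹) from hgv.symm ▸ (E.φ_comm sp sc).2 hpc).map
        (MulAut.conj g⁻¹).toMonoidHom
      simpa [mul_assoc] using this
    have hcv : g⁻¹ * E.φ p * g ∈ E.CV := by
      refine Frames.mem_CV.2 ⟨?_, ?_⟩
      · rw [T_eq]; exact c1'.eq
      · rw [V_eq]; exact c2'.eq
    obtain ⟨p', sp', e⟩ := E.exists_of_mem (E.CV_le hcv)
    refine ⟨p', sp', by rw [← e]; group, (E.φ_comm sp' st).1 (e ▸ c1'.eq),
      (E.φ_comm sp' sv).1 (e ▸ c2'.eq), (E.moves_of_isConj sp' ?_).1⟩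
    obtain ⟨j, -, ej⟩ := E.isConj_of_moves st sp t2 t1 p2 p1 (mt.trans mp.symm)
    exact (isConj_iff.2 ⟨j, ej⟩).trans (isConj_iff.2 ⟨g⁻¹, by rw [← e, inv_inv]⟩)
  obtain ⟨p', sp', ep, pt, pv, pm⟩ := key _ sa' (Alt.flips_facts.1 aP' (by simp [flips])).2.2.1
    p2 p1 hp.1 hp.2
  obtain ⟨q', sq', eq', qt, qv, qm⟩ := key _ sq mq q2 q1 hq.1 hq.2
  have hpq' : p' * q' = tP := by
    refine E.φ_inj (by rw [map_mul, sp', sq', one_mul]) st ?_
    rw [← E.φ_mul sp' sq', ← mul_right_inj g, ← mul_left_inj g⁻¹, hgt,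
      show g * (E.φ p' * E.φ q') * g⁻¹ = g * E.φ p' * g⁻¹ * (g * E.φ q' * g⁻¹) by group, ep, eq',
      E.φ_mul sa' sq, hpq]
  have hout : ∀ p r : Perm (Fin 8), Perm.sign p = 1 → g * E.φ r * g⁻¹ = E.φ p →
      (r = tP ∨ r = vP ∨ r = tP * vP) → p = tP ∨ p = cP ∨ p = tP * cP := by
    intro p r sp e hr
    rcases hr with rfl | rfl | rfl
    · exact Or.inl (E.φ_inj sp st (e.symm.trans hgt))
    · exact Or.inr (Or.inl (E.φ_inj sp sc (e.symm.trans hgv)))
    · refine Or.inr (Or.inr (E.φ_inj sp stc (e.symm.trans ?_)))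
      rw [← E.φ_mul st sv, show g * (E.φ tP * E.φ vP) * g⁻¹ =
        g * E.φ tP * g⁻¹ * (g * E.φ vP * g⁻¹) by group, hgt, hgv, E.φ_mul st sc]
  rcases cent_four_prod pt pv pm qt qv qm hpq' with e | e
  · rcases hout _ _ sa' ep e with f | f | f
    exacts [hp'.1 f, hp'.2.1 f, hp'.2.2 f]
  · rcases hout _ _ sq eq' e with f | f | f
    exacts [hq'.1 f, hq'.2.1 f, hq'.2.2 f]

/-- The odd core of `C(t)`. -/
def OT : Subgroup G :=
  (Cfsg.pPrimeCore 2 (centralizer ({E.φ tP} : Set G))).map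
    (centralizer ({E.φ tP} : Set G)).subtype

theorem OT_le : E.OT ≤ centralizer ({E.φ tP} : Set G) := map_subtype_le _

theorem OT_conj {h : G} (hh : h * E.φ tP = E.φ tP * h) {x : G} (hx : x ∈ E.OT) :
    h * x * h⁻¹ ∈ E.OT := by
  obtain ⟨⟨x, hx'⟩, hxO, rfl⟩ := hx
  exact ⟨_, (inferInstance : (Cfsg.pPrimeCore 2 (centralizer ({E.φ tP} : Set G))).Normal).conj_mem _ hxO
    ⟨h, mem_centralizer_singleton_iff.2 hh⟩, rfl⟩

theorem OT_odd : ¬ 2 ∣ Nat.card E.OT := by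
  haveI : Fact (Nat.Prime 2) := ⟨Nat.prime_two⟩
  rw [OT, card_map_of_injective (subtype_injective _)]
  exact CfsgLib.PCore.not_dvd_card_pPrimeCore

/-- `C(t)` is its odd core times its part in the image. -/
theorem H_decomp {h : G} (hh : h * E.φ tP = E.φ tP * h) :
    ∃ o ∈ E.OT, ∃ k ∈ E.K, k * E.φ tP = E.φ tP * k ∧ h = o * k := by
  haveI : Fact (Nat.Prime 2) := ⟨Nat.prime_two⟩
  obtain ⟨st, sv, -⟩ := basic_facts
  obtain ⟨t2, t1, v2, v1, -⟩ := invol_facts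
  obtain ⟨stv, -, -, -, -, -, -, -, -, -, -, -, -, htv, -, -, hvt, -⟩ := vee_facts
  set H := centralizer ({E.φ tP} : Set G) with hH
  have mem_H : ∀ {g : G}, g ∈ H ↔ g * E.φ tP = E.φ tP * g := mem_centralizer_singleton_iff
  have ho : orderOf (E.φ tP) = 2 := orderOf_eq_prime
    (by rw [pow_two, E.φ_mul st st, t2, φ_one])
    (fun e => t1 (E.φ_inj st (map_one _) (e.trans E.φ_one.symm)))
  set t : H := ⟨E.φ tP, mem_H.2 rfl⟩
  have hot : orderOf t = 2 := by rw [orderOf_mk, ho]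
  have htcen : ∀ x : H, x * t = t * x := fun x => Subtype.ext (mem_H.1 x.2)
  set Z : Subgroup H := zpowers t
  haveI : Z.Normal := ⟨fun n hn g => by
    obtain ⟨i, rfl⟩ := hn
    have hc : Commute g (t ^ i) := (show Commute g t from htcen g).zpow_right i
    rw [hc.eq, mul_inv_cancel_right]
    exact zpow_mem_zpowers _ _⟩
  have hZ : ∀ {x : H}, x ∈ Z → x = 1 ∨ x = t := by
    intro x hx
    obtain ⟨i, rfl⟩ := hx
    have h2 : t ^ (2 : ℤ) = 1 := by
      rw [show (2 : ℤ) = ((2 : ℕ) : ℤ) from rfl, zpow_natCast, ← hot, pow_orderOf_eq_one]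
    show t ^ i = 1 ∨ t ^ i = t
    rw [zpow_eq_zpow_emod i h2]
    rcases (show i % 2 = 0 ∨ i % 2 = 1 by omega) with e | e <;> rw [e]
    · exact Or.inl (zpow_zero t)
    · exact Or.inr (zpow_one t)
  set v : H := ⟨E.φ vP, mem_H.2 ((E.φ_comm sv st).2 htv.symm)⟩
  have hvv : v * v = 1 := Subtype.ext (by
    show E.φ vP * E.φ vP = 1
    rw [E.φ_mul sv sv, v2, φ_one])
  set u : H ⧸ Z := (v : H ⧸ Z) with hu
  have hu1 : u ≠ 1 := by
    intro e
    rcases hZ ((QuotientGroup.eq_one_iff v).1 e) with e | e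
    · exact v1 (E.φ_inj sv (map_one _) ((congrArg Subtype.val e).trans E.φ_one.symm))
    · exact hvt (E.φ_inj sv st (congrArg Subtype.val e))
  have huu : u * u = 1 := by rw [hu, ← QuotientGroup.mk_mul, hvv, QuotientGroup.mk_one]
  have hmod : ∀ {a b : H}, ((a : H ⧸ Z)) = (b : H ⧸ Z) → b = a ∨ b = t * a := by
    intro a b e
    rcases hZ (QuotientGroup.eq.1 e) with e | e
    · exact Or.inl (inv_mul_eq_one.1 e).symm
    · right; rw [← htcen a, ← e, mul_inv_cancel_left]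
  have htv' : ((t * v : H) : G) = E.φ (tP * vP) := E.φ_mul st sv
  have hiso : Cfsg.IsIsolatedInvolution u := by
    refine ⟨orderOf_eq_prime (by rw [pow_two, huu]) hu1, fun q hq => ?_⟩
    obtain ⟨⟨g, hg⟩, rfl⟩ := QuotientGroup.mk_surjective q
    set x : H := ⟨g, hg⟩ * v * (⟨g, hg⟩ : H)⁻¹ with hxd
    have hq' : ((v * x : H) : H ⧸ Z) = ((x * v : H) : H ⧸ Z) := by
      simp only [hxd, QuotientGroup.mk_mul, QuotientGroup.mk_inv, ← hu]
      exact hq.eq
    have hcases : g * E.φ vP * g⁻¹ = E.φ vP ∨ g * E.φ vP * g⁻¹ = E.φ (tP * vP) := by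
      refine E.vee_isolated (mem_H.1 hg) ?_
      rcases hmod hq' with e | e
      · exact Or.inl (congrArg Subtype.val e)
      · right
        have h2 := congrArg Subtype.val (e.trans (mul_assoc t v x).symm)
        rw [← htv']
        exact h2
    show ((x : H) : H ⧸ Z) = (v : H ⧸ Z)
    rcases hcases with e | e
    · exact congrArg _ (Subtype.ext e)
    · rw [show x = t * v from Subtype.ext (e.trans htv'.symm), QuotientGroup.mk_mul,
        show ((t : H) : H ⧸ Z) = 1 from (QuotientGroup.eq_one_iff t).2 (mem_zpowers t), one_mul]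
  have hz := CfsgLib.Involutions.zstar (H ⧸ Z) u hiso
  set N := Cfsg.pPrimeCore 2 (H ⧸ Z)
  haveI : N.Normal := inferInstance
  set h' : H := ⟨h, mem_H.2 hh⟩
  obtain ⟨q, hqu, hqN⟩ := CfsgLib.Involutions.Isolated.quotient_centralizer hiso N
    (g := (h' : H ⧸ Z)) (by
      have := hz (h' : H ⧸ Z)
      rwa [inv_eq_of_mul_eq_one_right huu] at this)
  obtain ⟨c, rfl⟩ := QuotientGroup.mk_surjective q
  -- `c` lies in the image
  have hcK : (c : G) ∈ E.K := by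
    have hcT : (c : G) * E.i₁ eT * (c : G)⁻¹ = E.i₁ (fourL (1, 0)) := by
      rw [show fourL (1, 0) = eT by simp [fourL], T_eq, mem_H.1 c.2, mul_inv_cancel_right]
    have hq' : ((v * c : H) : H ⧸ Z) = ((c * v : H) : H ⧸ Z) := by
      simp only [QuotientGroup.mk_mul]; exact hqu.eq.symm
    rcases hmod hq' with e | e
    · refine E.normalizer_V_le (v := (1, 0)) (w := (0, 1)) hcT ?_
      rw [show fourL (0, 1) = eV by simp [fourL], V_eq, show (c : G) * E.φ vP = E.φ vP * c from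
        congrArg Subtype.val e, mul_inv_cancel_right]
    · refine E.normalizer_V_le (v := (1, 0)) (w := (1, 1)) hcT ?_
      have e' : (c : G) * E.φ vP = E.φ (tP * vP) * c := by
        rw [← htv']
        exact congrArg Subtype.val (e.trans (mul_assoc t v c).symm)
      rw [show fourL (1, 1) = eT * eV by simp [fourL], map_mul, T_eq, V_eq, e', E.φ_mul st sv,
        mul_inv_cancel_right]
  -- the preimage of the core
  set N₁ : Subgroup H := N.comap (QuotientGroup.mk' Z)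
  have hw : h' * c⁻¹ ∈ N₁ := by
    show ((h' * c⁻¹ : H) : H ⧸ Z) ∈ N
    have e : ((h' * c⁻¹ : H) : H ⧸ Z) =
        (c : H ⧸ Z) * ((h' : H ⧸ Z)⁻¹ * (c : H ⧸ Z))⁻¹ * (c : H ⧸ Z)⁻¹ := by
      rw [QuotientGroup.mk_mul, QuotientGroup.mk_inv]; group
    rw [e]
    exact (inferInstance : N.Normal).conj_mem _ (inv_mem hqN) _
  have hNodd : ¬ 2 ∣ Nat.card N := CfsgLib.PCore.not_dvd_card_pPrimeCore
  have hcardN₁ : Nat.card N₁ = 2 * Nat.card N := by
    rw [CfsgLib.PCore.card_comap_mk', Nat.card_zpowers, hot]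
  set tN : N₁ := ⟨t, by
    show ((t : H) : H ⧸ Z) ∈ N
    rw [(QuotientGroup.eq_one_iff t).2 (mem_zpowers t)]
    exact one_mem _⟩
  have hfac : (Nat.card N₁).factorization 2 = 1 := by
    rw [hcardN₁, Nat.factorization_mul (by norm_num) Nat.card_pos.ne', Finsupp.add_apply,
      Nat.prime_two.factorization_self, Nat.factorization_eq_zero_of_not_dvd hNodd]
  let P : Sylow 2 N₁ := Sylow.ofCard (zpowers tN)
    (by rw [hfac, Nat.card_zpowers, orderOf_mk, hot, pow_one])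
  obtain ⟨Q, M, hM, hc⟩ := CfsgLib.Transfer.hasNormalPComplement_of_normalizer_le P fun g _ => by
    refine mem_centralizer_iff.2 ?_
    rintro _ ⟨i, rfl⟩
    exact ((show Commute g tN from Subtype.ext (htcen g)).zpow_right i).symm.eq
  haveI := hM
  have hM2 : ¬ 2 ∣ Nat.card M := (CfsgLib.Transfer.eq_pResidual_of_isComplement' Q M hc).2
  have hMidx : M.index = 2 := by
    rw [hc.symm.index_eq_card, Q.card_eq_multiplicity, hfac, pow_one]
  have hodd : ∀ x : N₁, x ∈ M ↔ ¬ 2 ∣ orderOf x := by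
    intro x
    refine ⟨fun hx h2 => hM2 (h2.trans (M.orderOf_dvd_natCard hx)), fun hx => ?_⟩
    rw [← QuotientGroup.eq_one_iff, ← orderOf_eq_one_iff]
    rcases (Nat.dvd_prime Nat.prime_two).1
      (show orderOf (x : N₁ ⧸ M) ∣ 2 from hMidx ▸ orderOf_dvd_natCard _) with e | e
    · exact e
    · exact absurd (e ▸ orderOf_map_dvd (QuotientGroup.mk' M) x) hx
  have hMO : ∀ x ∈ M, (((x : N₁) : H) : G) ∈ E.OT := by
    intro x hx
    have hN₁n : N₁.Normal := inferInstance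
    have hMn : (M.map N₁.subtype).Normal := ⟨by
      rintro _ ⟨y, hy, rfl⟩ g
      refine ⟨⟨g * y * g⁻¹, hN₁n.conj_mem _ y.2 g⟩, (hodd _).2 ?_, rfl⟩
      rw [orderOf_mk, orderOf_conj', orderOf_coe]
      exact (hodd y).1 hy⟩
    refine ⟨x, ?_, rfl⟩
    exact CfsgLib.PCore.le_pPrimeCore_of_not_dvd hMn
      (by rwa [card_map_of_injective (subtype_injective _)]) ⟨x, hx, rfl⟩
  have htM : tN ∉ M := fun hm => (hodd tN).1 hm (dvd_of_eq (by rw [orderOf_mk, hot]))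
  set w : N₁ := ⟨h' * c⁻¹, hw⟩
  by_cases hwM : w ∈ M
  · refine ⟨_, hMO w hwM, c, hcK, mem_H.1 c.2, ?_⟩
    show h = h * (c : G)⁻¹ * c
    group
  · have hwt : w * tN ∈ M := (Subgroup.mul_mem_iff_of_index_two hMidx).2 (iff_of_false hwM htM)
    refine ⟨_, hMO _ hwt, E.φ tP * c, mul_mem (E.φ_mem _) hcK, ?_, ?_⟩
    · rw [mul_assoc, mem_H.1 c.2]
    · show h = h * (c : G)⁻¹ * E.φ tP * (E.φ tP * c)
      rw [show h * (c : G)⁻¹ * E.φ tP * (E.φ tP * c) =
        h * (c : G)⁻¹ * (E.φ tP * E.φ tP) * c by group, E.φ_mul st st, t2, φ_one]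
      group

theorem OT_inf_K_three {x : G} (hxO : x ∈ E.OT) (hx : orderOf x = 3) : False := by
  obtain ⟨st, -, -, -, sa, -⟩ := basic_facts
  obtain ⟨-, -, -, -, -, -, -, -, -, -, -, -, -, -, hat, h3, -⟩ := vee_facts
  have hH9 : ¬ 9 ∣ Nat.card (centralizer ({E.φ tP} : Set G)) := by
    rw [← T_eq]; exact E.toFrame.not_nine_dvd E.toFrames.orderOf_T
  have hZH : E.i₁ eZ * E.φ tP = E.φ tP * E.i₁ eZ := by
    rw [← T_eq]; exact E.toFrames.T_comm_Z
  obtain ⟨c, hc, hcz⟩ := exists_conj_three _ hH9 hx E.toFrames.orderOf_Z (E.OT_le hxO)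
    (mem_centralizer_singleton_iff.2 hZH)
  have hZO : E.i₁ eZ ∈ E.OT := by
    have hm : E.i₁ eZ ∈ zpowers (c * x * c⁻¹) := hcz ▸ mem_zpowers _
    exact zpowers_le.2 (E.OT_conj (mem_centralizer_singleton_iff.1 hc) hxO) hm
  set sz := sign_j₀_coe eZ
  have haO : E.φ aP * E.i₁ eZ * (E.φ aP)⁻¹ * (E.i₁ eZ)⁻¹ ∈ E.OT :=
    mul_mem (E.OT_conj ((E.φ_comm sa st).2 hat) hZO) (inv_mem hZO)
  set w : Perm (Fin 8) := aP * j₀ eZ * aP⁻¹ * (j₀ eZ)⁻¹
  have sw : Perm.sign w = 1 := by simp [w, map_mul, sa, sz]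
  rw [i₁_eq, E.φ_conj sa sz, E.φ_inv sz, E.φ_mul (by simp [map_mul, sa, sz])
    (by simp [sz])] at haO
  have hwt : w * tP = tP * w :=
    (E.φ_comm sw st).1 (mem_centralizer_singleton_iff.1 (E.OT_le haO))
  have h24 : E.φ w ^ 24 = 1 := by rw [E.φ_pow sw, cent_t_pow hwt, φ_one]
  have hd : orderOf (E.φ w) ∣ 3 := by
    refine Nat.Coprime.dvd_of_dvd_mul_left (show (orderOf (E.φ w)).Coprime (2 ^ 3) from ?_) ?_
    · exact ((Nat.prime_two.coprime_iff_not_dvd.2 fun h2 =>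
        E.OT_odd (h2.trans (E.OT.orderOf_dvd_natCard haO))).symm).pow_right 3
    · exact orderOf_dvd_of_pow_eq_one h24
  rw [orderOf_dvd_iff_pow_eq_one, E.φ_pow sw] at hd
  exact h3 (E.φ_inj (by rw [map_pow, sw, one_pow]) (map_one _) (hd.trans E.φ_one.symm))

theorem OT_coprime {x : G} (hx : x ∈ E.OT) : (orderOf x).Coprime 6 := by
  refine coprime_six (fun h2 => E.OT_odd (h2.trans (E.OT.orderOf_dvd_natCard hx))) fun h3 => ?_
  exact E.OT_inf_K_three (pow_mem hx (orderOf x / 3))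
    (by rw [orderOf_pow_of_dvd (Nat.div_pos (Nat.le_of_dvd (orderOf_pos x) h3) (by norm_num)).ne'
      (Nat.div_dvd_of_dvd h3), Nat.div_div_self h3 (orderOf_pos x).ne'])

theorem OT_inf_K {x : G} (hx : x ∈ E.OT) (hxK : x ∈ E.K) : x = 1 := by
  obtain ⟨y, sy, rfl⟩ := E.exists_of_mem hxK
  have hyt : y * tP = tP * y :=
    (E.φ_comm sy basic_facts.1).1 (mem_centralizer_singleton_iff.1 (E.OT_le hx))
  refine eq_one_of_coprime_six (E.OT_coprime hx) (n := 48) ?_ eq_one_of_dvd_48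
  rw [E.φ_pow sy, show 48 = 24 * 2 from rfl, pow_mul, cent_t_pow hyt, one_pow, φ_one]

/-- The elements of order prime to six of `C(t)` form the odd core. -/
theorem core6_t : core6 (E.φ tP) = E.OT := by
  refine le_antisymm ((closure_le _).2 ?_) fun x hx => subset_closure
    ⟨mem_centralizer_singleton_iff.1 (E.OT_le hx), E.OT_coprime hx⟩
  rintro x ⟨hxt, hx6⟩
  obtain ⟨o, ho, k, hk, hkt, e⟩ := E.H_decomp hxt.eq
  obtain ⟨y, sy, rfl⟩ := E.exists_of_mem hk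
  have hy24 : y ^ 24 = 1 := cent_t_pow ((E.φ_comm sy basic_facts.1).1 hkt)
  have hind : ∀ n : ℕ, ∃ o' ∈ E.OT, x ^ n = o' * E.φ y ^ n := by
    intro n
    induction n with
    | zero => exact ⟨1, one_mem _, by simp⟩
    | succ n ih =>
      obtain ⟨o', ho', e'⟩ := ih
      refine ⟨o' * (E.φ y ^ n * o * (E.φ y ^ n)⁻¹), mul_mem ho'
        (E.OT_conj ((show Commute (E.φ y) (E.φ tP) from hkt).pow_left n).eq ho), ?_⟩
      rw [pow_succ, e', e, pow_succ]; group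
  obtain ⟨o', ho', e'⟩ := hind 24
  rw [E.φ_pow sy, hy24, φ_one, mul_one] at e'
  have hc : (orderOf x).Coprime 24 :=
    (Nat.Coprime.pow_right 3 hx6).coprime_dvd_right (by norm_num)
  obtain ⟨m, hm⟩ := exists_pow_eq_self_of_coprime hc.symm
  rw [← hm, e']
  exact pow_mem ho' m

theorem OT_comm {x y : G} (hx : x ∈ E.OT) (hy : y ∈ E.OT) : x * y = y * x := by
  obtain ⟨st, sv, -⟩ := basic_facts
  obtain ⟨-, -, v2, -⟩ := invol_facts
  have htv : tP * vP = vP * tP := vee_facts.2.2.2.2.2.2.2.2.2.2.2.2.2.1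
  set v := E.φ vP
  have hv : ∀ z ∈ E.OT, v * z * v⁻¹ ∈ E.OT := fun z hz =>
    E.OT_conj ((E.φ_comm sv st).2 htv.symm) hz
  have hvinv : v⁻¹ = v := inv_eq_of_mul_eq_one_right (by rw [E.φ_mul sv sv, v2, φ_one])
  let σ : E.OT →* E.OT :=
    { toFun := fun z => ⟨v * z * v⁻¹, hv z z.2⟩
      map_one' := Subtype.ext (by simp)
      map_mul' := fun a b => Subtype.ext (by simp [mul_assoc]) }
  have hσ : MonoidHom.FixedPointFree σ := by
    intro z hz
    have hz' : v * z * v⁻¹ = z := congrArg Subtype.val hz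
    refine Subtype.ext (E.OT_inf_K z.2 (E.CV_le (Frames.mem_CV.2 ⟨?_, ?_⟩)))
    · rw [T_eq]; exact mem_centralizer_singleton_iff.1 (E.OT_le z.2)
    · rw [V_eq]; exact (mul_inv_eq_iff_eq_mul.1 hz').symm
  have h2 : Function.Involutive σ := fun z => Subtype.ext (by
    show v * (v * (z : G) * v⁻¹) * v⁻¹ = z
    rw [hvinv, show v * (v * (z : G) * v) * v = v * v * z * (v * v) by group,
      E.φ_mul sv sv, v2, φ_one, one_mul, mul_one])
  exact congrArg Subtype.val (hσ.commute_all_of_involutive h2 ⟨x, hx⟩ ⟨y, hy⟩).eq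

end Emb

end CfsgLib.ThreeEight
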