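import Cfsg.Agent.Lib.Recognition.ThreeEight.Range

/-!
The centralizer and the normalizer of the four-group lie in the image of `A₈`.
-/

set_option autoImplicit false
set_option linter.style.haveILetI false
set_option maxRecDepth 10000
set_option synthInstance.maxSize 2000
set_option synthInstance.maxHeartbeats 400000

namespace CfsgLib.ThreeEight

open Subgroup Equiv Alt

variable {G : Type*} [Group G]

theorem fourL_facts :
    (∀ v : Fin 2 × Fin 2, fourL v = 1 ∨ fourL v = eT ∨ fourL v = eV ∨ fourL v = eT * eV) ∧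
    (∀ v w : Fin 2 × Fin 2, fourL v ≠ 1 → fourL w ≠ 1 → fourL v ≠ fourL w →
      (fourL v = eT ∨ fourL w = eT ∨ fourL v * fourL w = eT) ∧
      (fourL v = eV ∨ fourL w = eV ∨ fourL v * fourL w = eV)) := by
  refine ⟨?_, ?_⟩ <;> decide +kernel

namespace Emb

variable [Finite G] (E : Emb G)

omit [Finite G] in
/-- An element carrying `V` into itself normalizes its centralizer. -/
theorem conj_mem_CV [Finite G] {g : G} {v w : Fin 2 × Fin 2}
    (hT : g * E.i₁ eT * g⁻¹ = E.i₁ (fourL v)) (hV : g * E.i₁ eV * g⁻¹ = E.i₁ (fourL w))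
    {x : G} (hx : x ∈ E.CV) : g * x * g⁻¹ ∈ E.CV := by
  have hne : ∀ {l : L35} {u : Fin 2 × Fin 2}, l ≠ 1 → g * E.i₁ l * g⁻¹ = E.i₁ (fourL u) →
      fourL u ≠ 1 := by
    intro l u hl h e
    rw [e, map_one, mul_inv_eq_one, mul_eq_left] at h
    exact hl (E.inj (h.trans (map_one _).symm))
  have hvw : fourL v ≠ fourL w := by
    intro e
    rw [e, ← hV, mul_left_inj, mul_right_inj] at hT
    have := E.inj hT
    exact absurd this (by decide +kernel)
  obtain ⟨hT', hV'⟩ := fourL_facts.2 v w (hne (by decide +kernel) hT) (hne (by decide +kernel) hV) hvw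
  have hcv : Commute (g * x * g⁻¹) (E.i₁ (fourL v)) := by
    rw [← hT]
    exact (show Commute x (E.i₁ eT) from (Frames.mem_CV.1 hx).1).map (MulAut.conj g).toMonoidHom
  have hcw : Commute (g * x * g⁻¹) (E.i₁ (fourL w)) := by
    rw [← hV]
    exact (show Commute x (E.i₁ eV) from (Frames.mem_CV.1 hx).2).map (MulAut.conj g).toMonoidHom
  have hcvw : Commute (g * x * g⁻¹) (E.i₁ (fourL v * fourL w)) := by
    rw [map_mul]; exact hcv.mul_right hcw
  refine Frames.mem_CV.2 ⟨?_, ?_⟩
  · rcases hT' with e | e | e <;> rw [← e]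
    exacts [hcv.eq, hcw.eq, hcvw.eq]
  · rcases hV' with e | e | e <;> rw [← e]
    exacts [hcv.eq, hcw.eq, hcvw.eq]

theorem CV_le : E.CV ≤ E.K := by
  obtain ⟨R, hRle, hR3, -, hchar, hdec⟩ := E.toFrames.exists_complement
  have hfin : ∀ g, (∀ x ∈ R, g * x * g⁻¹ ∈ R) → g ∈ normalizer (R : Set G) := by
    intro g hg
    refine mem_normalizer_iff.2 fun x => ⟨hg x, fun hx => ?_⟩
    have hinj : Function.Injective fun r : R => (⟨g * r * g⁻¹, hg r r.2⟩ : R) := fun a b e => by
      simpa using congrArg Subtype.val e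
    obtain ⟨r, hr⟩ := (Finite.injective_iff_surjective.1 hinj) ⟨g * x * g⁻¹, hx⟩
    have : (r : G) = x := by simpa using congrArg Subtype.val hr
    exact this ▸ r.2
  have hd : ∀ w : L35, (w = eZ ∨ w = eS) → ∃ v u, w * eT * w⁻¹ = fourL v ∧ w * eV * w⁻¹ = fourL u := by
    have h : ∀ w ∈ ([eZ, eS] : List L35), ∃ v u, w * eT * w⁻¹ = fourL v ∧ w * eV * w⁻¹ = fourL u := by
      decide +kernel
    exact fun w hw => h w (by simpa using hw)
  have hn : ∀ w : L35, (w = eZ ∨ w = eS) → E.i₁ w ∈ normalizer (R : Set G) := by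
    intro w hw
    obtain ⟨v, u, h1, h2⟩ := hd w hw
    refine hfin _ (hchar _ fun x hx => E.conj_mem_CV (v := v) (w := u) ?_ ?_ hx)
    · rw [← h1, map_mul, map_mul, map_inv]
    · rw [← h2, map_mul, map_mul, map_inv]
  have hDn : E.D ≤ normalizer (R : Set G) := by
    intro d hd'
    obtain ⟨x, rfl⟩ := (E.memD d).1 hd'
    simp only [nineL, map_mul, map_pow]
    exact mul_mem (pow_mem (hn _ (Or.inl rfl)) _) (pow_mem (hn _ (Or.inr rfl)) _)
  haveI : IsMulCommutative E.D := ⟨⟨fun a b => Subtype.ext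
    (mem_centralizer_singleton_iff.1 (E.toFrame.le_centralizer b.2 a.2))⟩⟩
  have hnc : ¬ IsCyclic E.D := by
    intro hc
    obtain ⟨g, hg⟩ := hc.exists_generator
    have h := Nat.card_zpowers g
    rw [(eq_top_iff' _).2 hg, card_top, E.card_D] at h
    have h3 : orderOf g ∣ 3 := orderOf_dvd_of_pow_eq_one (Subtype.ext (E.toFrame.pow_three g.2))
    have := Nat.le_of_dvd (by norm_num) h3
    omega
  have hcop : (Nat.card E.D).Coprime (Nat.card R) := by
    rw [E.card_D, show 9 = 3 ^ 2 from rfl]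
    exact (Nat.prime_three.coprime_iff_not_dvd.2 hR3).pow_left 2
  have hRK : R ≤ E.K := by
    rw [← CfsgLib.CoprimeGeneration.iSup_centralizer_eq E.D R hnc hDn hcop]
    exact iSup₂_le fun d hd' => inf_le_right.trans (E.centralizer_le hd'.1 hd'.2)
  intro x hx
  obtain ⟨r, hr, k, rfl⟩ := hdec x hx
  exact mul_mem (hRK hr) (pow_mem (E.i₁_mem _) _)

/-- The normalizer of `V` lies in the image. -/
theorem normalizer_V_le {g : G} {v w : Fin 2 × Fin 2}
    (hT : g * E.i₁ eT * g⁻¹ = E.i₁ (fourL v)) (hV : g * E.i₁ eV * g⁻¹ = E.i₁ (fourL w)) :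
    g ∈ E.K := by
  have hle : E.CV ≤ centralizer ({E.i₁ eT} : Set G) := fun x hx =>
    mem_centralizer_singleton_iff.2 (Frames.mem_CV.1 hx).1
  have hz := E.toFrames.orderOf_Z
  obtain ⟨c, hc, hcz⟩ := exists_conj_three E.CV
    (fun h => E.toFrame.not_nine_dvd E.toFrames.orderOf_T (h.trans (card_dvd_of_le hle)))
    (by rw [orderOf_conj', hz] : orderOf (g * E.i₁ eZ * g⁻¹) = 3) hz
    (E.conj_mem_CV hT hV Frames.Z_mem_CV) Frames.Z_mem_CV
  have hcg : c * g ∈ normalizer ((zpowers (E.i₁ eZ) : Subgroup G) : Set G) := by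
    apply mem_normalizer_zpowers
    have hm : c * g * E.i₁ eZ * (c * g)⁻¹ ∈ zpowers (E.i₁ eZ) := by
      rw [← hcz, show c * g * E.i₁ eZ * (c * g)⁻¹ = c * (g * E.i₁ eZ * g⁻¹) * c⁻¹ by group]
      exact mem_zpowers _
    rcases mem_zpowers_three (by rw [← map_pow, eZ_pow, map_one]) hm with e | e | e
    · exfalso
      rw [mul_inv_eq_one, mul_eq_left] at e
      rw [e, orderOf_one] at hz
      omega
    · exact Or.inl e
    · exact Or.inr e
  have := mul_mem (inv_mem (E.CV_le hc)) (E.normalizer_Z_le hcg)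
  rwa [inv_mul_cancel_left] at this

end Emb

end CfsgLib.ThreeEight
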