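import Cfsg.Agent.Lib.Recognition.ThreeEight.Signal
import Cfsg.Agent.Lib.StrongEmbedding.Swap

/-!
The image of `A₈` contains the centralizers of its involutions and meets two classes of
involutions, so it is the whole group.
-/

set_option autoImplicit false
set_option linter.style.haveILetI false
set_option linter.unusedSectionVars false

namespace CfsgLib.ThreeEight

open Subgroup Equiv Alt

variable {G : Type*} [Group G]

namespace Emb

variable [Finite G] (E : Emb G)

theorem centralizer_inv_le {j : G} (hj : j ∈ E.K) (h2 : orderOf j = 2) {g : G}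
    (hg : Commute g j) : g ∈ E.K := by
  obtain ⟨k, hk, e⟩ := E.invol_K hj h2
  have key : ∀ p, k * E.φ p * k⁻¹ = j →
      (∀ {g : G}, g * E.φ p = E.φ p * g → g ∈ E.K) → g ∈ E.K := by
    intro p e hp
    have hc : Commute (k⁻¹ * g * k) (E.φ p) := by
      have := hg.map (MulAut.conj k⁻¹).toMonoidHom
      simpa [← e, mul_assoc] using this
    have := mul_mem (mul_mem hk (hp hc.eq)) (inv_mem hk)
    rwa [show k * (k⁻¹ * g * k) * k⁻¹ = g by group] at this
  rcases e with e | e
  · exact key _ e E.centralizer_t_le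
  · exact key _ e E.centralizer_b_le

theorem orderOf_tb : orderOf (E.φ tP) = 2 ∧ orderOf (E.φ bP) = 2 := by
  obtain ⟨t2, t1, -, -, -, -, b2, b1, -⟩ := invol_facts
  have key : ∀ p, Perm.sign p = 1 → p * p = 1 → p ≠ 1 → orderOf (E.φ p) = 2 := fun p sp p2 p1 =>
    orderOf_eq_prime (by rw [pow_two, E.φ_mul sp sp, p2, φ_one])
      fun e => p1 (E.φ_inj sp (map_one _) (e.trans E.φ_one.symm))
  exact ⟨key _ basic_facts.1 t2 t1, key _ basic_facts.2.2.2.1 b2 b1⟩

/-- Two involutions of the image conjugate in the group are conjugate in the image. -/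
theorem isConj_K {i j : G} (hi : i ∈ E.K) (hi2 : orderOf i = 2) (hj : j ∈ E.K)
    (hj2 : orderOf j = 2) (h : IsConj j i) : ∃ k ∈ E.K, k * j * k⁻¹ = i := by
  obtain ⟨k, hk, e⟩ := E.invol_K hi hi2
  obtain ⟨l, hl, e'⟩ := E.invol_K hj hj2
  have key : ∀ p, k * E.φ p * k⁻¹ = i → l * E.φ p * l⁻¹ = j → ∃ k ∈ E.K, k * j * k⁻¹ = i :=
    fun p e e' => ⟨k * l⁻¹, mul_mem hk (inv_mem hl), by rw [← e, ← e']; group⟩
  have hne : ¬ IsConj (E.φ tP) (E.φ bP) := E.not_isConj_tb
  rcases e with e | e <;> rcases e' with e' | e'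
  · exact key _ e e'
  · exact absurd ((isConj_iff.2 ⟨k, e⟩).trans (h.symm.trans (isConj_iff.2 ⟨l, e'⟩).symm)) hne
  · exact absurd ((isConj_iff.2 ⟨l, e'⟩).trans (h.trans (isConj_iff.2 ⟨k, e⟩).symm)) hne
  · exact key _ e e'

theorem K_eq_top : E.K = ⊤ := by
  haveI : Fact (Nat.Prime 2) := ⟨Nat.prime_two⟩
  by_contra hne
  have hse : Cfsg.IsStronglyEmbedded E.K := by
    refine ⟨hne, ?_, fun g hg => ?_⟩
    · exact even_iff_two_dvd.2 (E.orderOf_tb.1 ▸ E.K.orderOf_dvd_natCard (E.φ_mem tP))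
    · rw [← Nat.not_even_iff_odd, even_iff_two_dvd]
      intro h2
      obtain ⟨i, hi⟩ := exists_prime_orderOf_dvd_card'
        (G := (E.K ⊓ E.K.map (MulAut.conj g).toMonoidHom : Subgroup G)) 2 h2
      obtain ⟨i, hiK, j, hj, hij⟩ := i
      rw [← orderOf_coe] at hi
      change orderOf i = 2 at hi
      change g * j * g⁻¹ = i at hij
      have hj2 : orderOf j = 2 := by rw [← hi, ← hij, orderOf_conj']
      obtain ⟨k, hk, e⟩ := E.isConj_K hiK hi hj hj2 (isConj_iff.2 ⟨g, hij⟩)
      have hc : Commute (k⁻¹ * g) j := by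
        show k⁻¹ * g * j = j * (k⁻¹ * g)
        calc k⁻¹ * g * j = k⁻¹ * (g * j * g⁻¹) * g := by group
          _ = j * (k⁻¹ * g) := by rw [hij, ← e]; group
      have := mul_mem hk (E.centralizer_inv_le hj hj2 hc)
      rw [mul_inv_cancel_left] at this
      exact hg this
  exact E.not_isConj_tb (CfsgLib.StrongEmbedding.isConj_involutions hse E.orderOf_tb.1 E.orderOf_tb.2)

include E in
theorem nonempty_mulEquiv : Nonempty (G ≃* alternatingGroup (Fin 8)) :=
  ⟨(MulEquiv.ofBijective E.f ⟨E.injf, MonoidHom.range_eq_top.1 E.K_eq_top⟩).symm⟩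

end Emb

/-- A group with the frame of `A₈` is `A₈`. -/
theorem Frame.nonempty_mulEquiv [Finite G] (F : Frame G) :
    Nonempty (G ≃* alternatingGroup (Fin 8)) :=
  let ⟨E⟩ := F.exists_emb
  E.nonempty_mulEquiv

end CfsgLib.ThreeEight
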