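import Mathlib
import Cfsg.Agent.Lib.Involutions.Basic
import Cfsg.Agent.Lib.PGroup.Frattini

/-!
A 2-group with an involution whose centralizer is a four-group: every involution is the central
one or is conjugate to the given one, or the group is dihedral.
-/

set_option autoImplicit false
set_option linter.style.haveILetI false

namespace CfsgLib.ThreeEight

open Subgroup
open scoped commutatorElement

variable {S : Type*} [Group S] [Finite S]

theorem eq_top_of_sup_commutator (hp : IsPGroup 2 S) {H : Subgroup S}
    (h : H ⊔ commutator S = ⊤) : H = ⊤ := by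
  haveI : Fact (Nat.Prime 2) := ⟨Nat.prime_two⟩
  exact frattini_nongenerating
    (top_unique (h ▸ sup_le_sup_left (CfsgLib.PGroup.commutator_le_frattini hp) H))

/-- The conjugates of `b` fill the coset `b S'`, and `t` is the only involution of `S'`. -/
theorem involution_trichotomy (hp : IsPGroup 2 S) {b t u : S} (hb : orderOf b = 2)
    (ht : orderOf t = 2) (htb : t ≠ b)
    (hC : ∀ x : S, x * b = b * x ↔ x = 1 ∨ x = t ∨ x = b ∨ x = t * b)
    (hnc : ∃ x : S, x * b ≠ b * x) (htc : ∀ x : S, x * t = t * x) (hu : orderOf u = 2) :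
    u = t ∨ IsConj b u ∨ ∃ n, Nonempty (S ≃* DihedralGroup n) ∧ Nat.card S = 2 * n := by
  classical
  haveI : Fact (Nat.Prime 2) := ⟨Nat.prime_two⟩
  haveI : Fintype S := Fintype.ofFinite S
  have hbb : b * b = 1 := by rw [← pow_two, ← hb, pow_orderOf_eq_one]
  have htt : t * t = 1 := by rw [← pow_two, ← ht, pow_orderOf_eq_one]
  have hb1 : b ≠ 1 := fun e => by rw [e, orderOf_one] at hb; omega
  have ht1 : t ≠ 1 := fun e => by rw [e, orderOf_one] at ht; omega
  -- the centralizer has order four
  have hC4 : Nat.card (Subgroup.centralizer ({b} : Set S)) = 4 := by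
    have htbb : t * b ≠ 1 := fun e => htb (by rw [← mul_one t, ← hbb, ← mul_assoc, e, one_mul])
    have e : ((Subgroup.centralizer ({b} : Set S) : Subgroup S) : Set S) =
        (({1, t, b, t * b} : Finset S) : Set S) := by
      ext x
      rw [SetLike.mem_coe, Subgroup.mem_centralizer_singleton_iff, hC]
      simp
    rw [← SetLike.coe_sort_coe, e]
    simp only [Finset.coe_sort_coe, Nat.card_eq_fintype_card, Fintype.card_coe]
    rw [Finset.card_insert_of_notMem, Finset.card_insert_of_notMem, Finset.card_pair]
    · exact fun e => ht1 (mul_eq_right.1 e.symm)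
    · simp only [Finset.mem_insert, Finset.mem_singleton, not_or]
      exact ⟨htb, fun e => hb1 (mul_eq_left.1 e.symm)⟩
    · simp only [Finset.mem_insert, Finset.mem_singleton, not_or]
      exact ⟨Ne.symm ht1, Ne.symm hb1, Ne.symm htbb⟩
  -- the derived subgroup has index four
  set D := commutator S
  have hclass : (conjugatesOf b) ⊆ (fun d => b * d) '' (D : Set S) := by
    intro x hx
    obtain ⟨c, rfl⟩ := isConj_iff.1 hx
    refine ⟨⁅b⁻¹, c⁆, ?_, ?_⟩
    · exact Subgroup.commutator_mem_commutator (mem_top _) (mem_top _)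
    · simp [commutatorElement_def, mul_assoc]
  have hccard : Nat.card (conjugatesOf b) = (Subgroup.centralizer ({b} : Set S)).index := by
    have e1 : (Subgroup.centralizer ({b} : Set S)) = MulAction.stabilizer (ConjAct S) b :=
      (ConjAct.stabilizer_eq_centralizer b).symm
    show _ = Nat.card _
    rw [e1]
    refine ((Nat.card_congr (MulAction.orbitEquivQuotientStabilizer (ConjAct S) b)).symm.trans
      (Nat.card_congr (Equiv.setCongr ?_))).symm
    ext y
    rw [ConjAct.mem_orbit_conjAct]
    exact isConj_comm
  have hidx4 : 4 ≤ D.index := by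
    by_contra hlt
    obtain ⟨k, hk⟩ := hp.index D
    have hk2 : D.index ≤ 2 := by
      rcases k with _ | _ | k
      · rw [hk]; norm_num
      · rw [hk]; norm_num
      · exfalso; rw [hk] at hlt; apply hlt
        calc 4 = 2 ^ 2 := rfl
          _ ≤ 2 ^ (k + 2) := Nat.pow_le_pow_right (by norm_num) (by omega)
    obtain ⟨g, hg⟩ : ∃ g : S, Subgroup.zpowers g ⊔ D = ⊤ := by
      haveI : IsCyclic (S ⧸ D) := by
        rw [Subgroup.index_eq_card] at hk2
        rcases (show Nat.card (S ⧸ D) = 1 ∨ Nat.card (S ⧸ D) = 2 by
          have := Nat.card_pos (α := S ⧸ D); omega) with h | h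
        · haveI := (Nat.card_eq_one_iff_unique.1 h).1; exact isCyclic_of_subsingleton
        · exact isCyclic_of_prime_card h
      obtain ⟨q, hq⟩ := IsCyclic.exists_generator (α := S ⧸ D)
      obtain ⟨g, rfl⟩ := QuotientGroup.mk_surjective q
      refine ⟨g, top_unique fun x _ => ?_⟩
      obtain ⟨i, hi⟩ := hq (x : S ⧸ D)
      have hd : (g ^ i)⁻¹ * x ∈ D := by
        rw [← QuotientGroup.eq_one_iff, QuotientGroup.mk_mul, QuotientGroup.mk_inv,
          QuotientGroup.mk_zpow]
        exact inv_mul_eq_one.2 hi
      have := (Subgroup.zpowers g ⊔ D).mul_mem (Subgroup.mem_sup_left (Subgroup.zpow_mem_zpowers g i))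
        (Subgroup.mem_sup_right hd)
      rwa [mul_inv_cancel_left] at this
    have htop := eq_top_of_sup_commutator hp hg
    obtain ⟨x, hx⟩ := hnc
    obtain ⟨i, hi⟩ := (htop ▸ mem_top x : x ∈ Subgroup.zpowers g)
    obtain ⟨j, hj⟩ := (htop ▸ mem_top b : b ∈ Subgroup.zpowers g)
    exact hx (by rw [← hi, ← hj]; exact ((Commute.refl g).zpow_zpow i j).eq)
  have hinj : Function.Injective fun d => b * d := mul_right_injective b
  have himg : Nat.card ((fun d => b * d) '' (D : Set S)) = Nat.card D :=
    Nat.card_image_of_injective hinj _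
  have hle : Nat.card (conjugatesOf b) ≤ Nat.card D := himg ▸ Nat.card_mono (Set.toFinite _) hclass
  have hD4 : D.index = 4 := by
    have h1 := D.card_mul_index
    have h2 := (Subgroup.centralizer ({b} : Set S)).card_mul_index
    rw [hC4] at h2
    rw [hccard] at hle
    have hpos : 0 < Nat.card D := Nat.card_pos
    nlinarith [Nat.mul_le_mul_right D.index hle, Nat.mul_le_mul_left (Nat.card D) hidx4]
  have hfull : conjugatesOf b = (fun d => b * d) '' (D : Set S) := by
    refine Set.eq_of_subset_of_ncard_le hclass ?_ (Set.toFinite _)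
    have h1 := D.card_mul_index
    have h2 := (Subgroup.centralizer ({b} : Set S)).card_mul_index
    rw [hC4] at h2
    rw [← Nat.card_coe_set_eq, ← Nat.card_coe_set_eq, himg, hccard]
    rw [hD4] at h1
    omega
  have hbD : b ∉ D := fun hbD => by
    have : (1 : S) ∈ conjugatesOf b := hfull ▸ ⟨b, hbD, hbb⟩
    exact hb1 (isConj_one_left.1 this)
  by_cases huD : u ∈ D
  · left
    have h1 : IsConj b (b * u) := by
      have : b * u ∈ conjugatesOf b := hfull ▸ ⟨u, huD, rfl⟩
      exact this
    obtain ⟨c, hc⟩ := isConj_iff.1 h1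
    have h2 : (b * u) * (b * u) = 1 := by
      rw [← hc]
      simp [mul_assoc]
      rw [← mul_assoc b b, hbb]; simp
    have huu : u * u = 1 := by rw [← pow_two, ← hu, pow_orderOf_eq_one]
    have hcomm : u * b = b * u := by
      have : (b * u)⁻¹ = b * u := inv_eq_of_mul_eq_one_right h2
      rwa [mul_inv_rev, inv_eq_of_mul_eq_one_right huu, inv_eq_of_mul_eq_one_right hbb] at this
    rcases (hC u).1 hcomm with e | e | e | e
    · rw [e, orderOf_one] at hu; omega
    · exact e
    · exact absurd (e ▸ huD) hbD
    · -- `t` lies in the derived subgroup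
      exfalso
      have htc' : IsConj b t := by
        have : b * u ∈ conjugatesOf b := hfull ▸ ⟨u, huD, rfl⟩
        have hbu : b * u = t := by rw [e, ← mul_assoc, htc b, mul_assoc, hbb, mul_one]
        exact hbu ▸ this
      obtain ⟨c, hc⟩ := isConj_iff.1 htc'.symm
      rw [htc c, mul_inv_cancel_right] at hc
      exact htb hc
  by_cases hub : b * u ∈ D
  · refine Or.inr (Or.inl ?_)
    have : u ∈ conjugatesOf b := hfull ▸ ⟨b * u, hub, by
      show b * (b * u) = u
      rw [← mul_assoc, hbb, one_mul]⟩
    exact this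
  refine Or.inr (Or.inr ?_)
  have htop : Subgroup.closure ({b, u} : Set S) = ⊤ := by
    refine eq_top_of_sup_commutator hp ?_
    set K := Subgroup.closure ({b, u} : Set S) ⊔ D
    have hbK : b ∈ K := mem_sup_left (subset_closure (Set.mem_insert _ _))
    have huK : u ∈ K := mem_sup_left (subset_closure (Set.mem_insert_of_mem _ rfl))
    by_contra hne
    have h2 : K.index = 2 := by
      have hdvd : K.index ∣ 4 := hD4 ▸ Subgroup.index_dvd_of_le le_sup_right
      have hne1 : K.index ≠ 1 := fun e => hne (index_eq_one.1 e)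
      obtain ⟨k, hk, hk'⟩ := (Nat.dvd_prime_pow Nat.prime_two).1 (show K.index ∣ 2 ^ 2 from hdvd)
      interval_cases k
      · exact absurd hk' hne1
      · exact hk'
      · exfalso
        have hDK : D = K := Subgroup.eq_of_le_of_card_ge le_sup_right (le_of_eq (by
          have h1 := D.card_mul_index
          have h3 := K.card_mul_index
          rw [hD4] at h1; rw [hk'] at h3; omega))
        exact hbD (hDK ▸ hbK)
    -- the cosets of `1, b, u, b u` give index four
    have hrel : D.relIndex K = 2 := by
      have := Subgroup.relIndex_mul_index (show D ≤ K from le_sup_right)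
      rw [h2, hD4] at this; omega
    have hidx : (D.subgroupOf K).index = 2 := hrel
    have := (Subgroup.mul_mem_iff_of_index_two hidx (a := ⟨b, hbK⟩) (b := ⟨u, huK⟩)).2
      (iff_of_false (by simpa [mem_subgroupOf] using hbD) (by simpa [mem_subgroupOf] using huD))
    exact hub (by simpa [mem_subgroupOf] using this)
  obtain ⟨e⟩ := CfsgLib.Involutions.closure_pair_mulEquiv_dihedral hb hu
  refine ⟨orderOf (b * u), ⟨(Subgroup.topEquiv.symm.trans (MulEquiv.subgroupCongr htop.symm)).trans e⟩, ?_⟩
  rw [Nat.card_congr ((Subgroup.topEquiv.symm.trans (MulEquiv.subgroupCongr htop.symm)).trans e).toEquiv,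
    DihedralGroup.nat_card]

end CfsgLib.ThreeEight
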