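import Cfsg.Agent.Lib.Recognition.ThreeEight.Basic
import Cfsg.Agent.Lib.Recognition.ThreeEight.MaxClass
import Cfsg.Agent.Lib.Transfer.NormalComplement
import Cfsg.Agent.Lib.Solvable.CoprimeGeneration
import Cfsg.Agent.S0514

/-!
The centralizer of the four-group `V`: an involution of it centralizes `S`.
-/

set_option autoImplicit false
set_option linter.style.haveILetI false
set_option linter.unusedSectionVars false

namespace CfsgLib.ThreeEight

open Subgroup Equiv

variable {G : Type*} [Group G]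

/-- The four-group in the model. -/
def fourL (x : Fin 2 × Fin 2) : L35 := eT ^ x.1.val * eV ^ x.2.val

theorem coe_fourL (x : Fin 2 × Fin 2) : (fourL x : P35) = four x := by simp [fourL, four]

/-- The dihedral group `⟨T, V, C⟩` in the model. -/
def dihL (x : Fin 2 × Fin 2 × Fin 2) : L35 := eT ^ x.1.val * eV ^ x.2.1.val * eC ^ x.2.2.val

theorem dihL_mul : ∀ x y, ∃ z, dihL x * dihL y = dihL z := by decide +kernel
theorem dihL_inv : ∀ x, ∃ z, (dihL x)⁻¹ = dihL z := by decide +kernel
theorem dihL_injective : Function.Injective dihL := by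
  intro x y; revert x y; decide +kernel

/-- `⟨T, V, C⟩`. -/
def dihSub : Subgroup L35 where
  carrier := Set.range dihL
  one_mem' := ⟨(0, 0, 0), by simp [dihL]⟩
  mul_mem' := by
    rintro _ _ ⟨x, rfl⟩ ⟨y, rfl⟩
    obtain ⟨z, hz⟩ := dihL_mul x y
    exact ⟨z, hz.symm⟩
  inv_mem' := by
    rintro _ ⟨x, rfl⟩
    obtain ⟨z, hz⟩ := dihL_inv x
    exact ⟨z, hz.symm⟩

theorem card_dihSub : Nat.card dihSub = 8 := by
  show Nat.card (Set.range dihL) = 8
  rw [Nat.card_range_of_injective dihL_injective]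
  simp

namespace Frames

variable [Finite G] (E : Frames G)

/-- The centralizer of `V`. -/
def CV : Subgroup G := centralizer ({E.i₁ eT, E.i₁ eV} : Set G)

variable {E}

theorem mem_CV {g : G} :
    g ∈ E.CV ↔ g * E.i₁ eT = E.i₁ eT * g ∧ g * E.i₁ eV = E.i₁ eV * g := by
  simp only [CV, mem_centralizer_iff, Set.mem_insert_iff, Set.mem_singleton_iff, forall_eq_or_imp,
    forall_eq]
  exact ⟨fun h => ⟨h.1.symm, h.2.symm⟩, fun h => ⟨h.1.symm, h.2.symm⟩⟩

theorem mem_CV_model {l : L35} :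
    E.i₁ l ∈ E.CV ↔ (l : P35) * eT = eT * l ∧ (l : P35) * eV = eV * l := by
  simp only [mem_CV, ← map_mul, E.inj.eq_iff, Subtype.ext_iff, Subgroup.coe_mul]

theorem fourL_mem_CV (x : Fin 2 × Fin 2) : E.i₁ (fourL x) ∈ E.CV := by
  have h : ∀ x, (fourL x : P35) * eT = eT * fourL x ∧ (fourL x : P35) * eV = eV * fourL x := by
    decide +kernel
  exact mem_CV_model.2 (h x)

theorem Z_mem_CV : E.i₁ eZ ∈ E.CV :=
  mem_CV_model.2 ⟨four_facts.2.2.2.2.2.2.2.1.symm, four_facts.2.2.2.2.2.2.2.2.1.symm⟩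

variable (E)

/-- The elements of order prime to three of `C(V)`. -/
theorem exists_complement : ∃ R : Subgroup G, R ≤ E.CV ∧ ¬ 3 ∣ Nat.card R ∧
    (∀ x ∈ E.CV, ¬ 3 ∣ orderOf x → x ∈ R) ∧
    (∀ g, (∀ x ∈ E.CV, g * x * g⁻¹ ∈ E.CV) → ∀ x ∈ R, g * x * g⁻¹ ∈ R) ∧
    (∀ x ∈ E.CV, ∃ r ∈ R, ∃ k : Fin 3, x = r * E.i₁ eZ ^ k.val) := by
  haveI : Fact (Nat.Prime 3) := ⟨Nat.prime_three⟩
  have hle : E.CV ≤ centralizer ({E.i₁ eT} : Set G) := fun g hg =>
    mem_centralizer_singleton_iff.2 (mem_CV.1 hg).1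
  have h9 : ¬ 9 ∣ Nat.card E.CV := fun h =>
    E.toFrame.not_nine_dvd E.orderOf_T (h.trans (card_dvd_of_le hle))
  set z : E.CV := ⟨E.i₁ eZ, Z_mem_CV⟩
  have hz : orderOf z = 3 := by rw [orderOf_mk, E.orderOf_Z]
  have hv : (Nat.card E.CV).factorization 3 = 1 := by
    have h3 : 3 ∣ Nat.card E.CV := hz ▸ orderOf_dvd_natCard z
    have h0 : Nat.card E.CV ≠ 0 := Nat.card_pos.ne'
    have h1 := (Nat.Prime.pow_dvd_iff_le_factorization Nat.prime_three h0 (k := 1)).1 (by simpa using h3)
    have h2 : ¬ 2 ≤ (Nat.card E.CV).factorization 3 := fun h =>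
      h9 ((Nat.Prime.pow_dvd_iff_le_factorization Nat.prime_three h0 (k := 2)).2 h)
    omega
  let P : Sylow 3 E.CV := Sylow.ofCard (zpowers z) (by rw [hv, Nat.card_zpowers, hz, pow_one])
  have hP : (P : Subgroup E.CV) = zpowers z := rfl
  have hcomp : Cfsg.HasNormalPComplement 3 E.CV := by
    refine CfsgLib.Transfer.hasNormalPComplement_of_normalizer_le P fun g hg => ?_
    rw [hP] at hg ⊢
    rw [mem_centralizer_iff]
    rintro _ ⟨i, rfl⟩
    have hmem : g * z * g⁻¹ ∈ zpowers z := (mem_normalizer_iff.1 hg z).1 (mem_zpowers z)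
    have hz3 : z ^ 3 = 1 := by rw [← hz, pow_orderOf_eq_one]
    have hg' : (g : G) ∈ normalizer ((zpowers (E.i₁ eZ) : Subgroup G) : Set G) := by
      apply mem_normalizer_zpowers
      rcases mem_zpowers_three hz3 hmem with e | e | e
      · exfalso
        rw [mul_inv_eq_one, mul_eq_left] at e
        rw [e, orderOf_one] at hz
        omega
      · exact Or.inl (congrArg Subtype.val e)
      · exact Or.inr (congrArg Subtype.val e)
    rw [← E.range_eq] at hg'
    obtain ⟨l, hl⟩ := hg'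
    have hc := mem_CV_model.1 (hl ▸ g.2 : E.i₁ l ∈ E.CV)
    have hz' := (cent_four l l.2 hc.1 hc.2).1
    have hcomm : Commute g z := Subtype.ext (by
      show (g : G) * E.i₁ eZ = E.i₁ eZ * g
      rw [← hl, ← map_mul, ← map_mul]
      exact congrArg E.i₁ (Subtype.ext hz'))
    exact ((hcomm.symm).zpow_left i).eq
  obtain ⟨Q, N, hN, hc⟩ := hcomp
  haveI := hN
  have hN3 : ¬ 3 ∣ Nat.card N := (CfsgLib.Transfer.eq_pResidual_of_isComplement' Q N hc).2
  have hidx : N.index = 3 := by
    rw [hc.symm.index_eq_card, Q.card_eq_multiplicity, hv, pow_one]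
  have hin : ∀ x : E.CV, ¬ 3 ∣ orderOf x → x ∈ N := by
    intro x hx
    rw [← QuotientGroup.eq_one_iff, ← orderOf_eq_one_iff]
    rcases (Nat.dvd_prime Nat.prime_three).1
      (show orderOf (x : E.CV ⧸ N) ∣ 3 from hidx ▸ orderOf_dvd_natCard _) with e | e
    · exact e
    · exact absurd (e ▸ orderOf_map_dvd (QuotientGroup.mk' N) x) hx
  refine ⟨N.map E.CV.subtype, map_subtype_le _,
    by rwa [card_map_of_injective (subtype_injective _)], fun x hx h3 => ?_, ?_, ?_⟩
  · exact ⟨⟨x, hx⟩, hin _ (by rwa [orderOf_mk]), rfl⟩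
  · rintro g hg _ ⟨⟨x, hx⟩, hxN, rfl⟩
    refine ⟨⟨g * x * g⁻¹, hg x hx⟩, hin _ ?_, rfl⟩
    rw [orderOf_mk, orderOf_conj', ← orderOf_mk x hx]
    exact fun h => hN3 (h.trans (by
      have := orderOf_dvd_natCard (⟨⟨x, hx⟩, hxN⟩ : N)
      rwa [orderOf_mk] at this))
  · intro x hx
    have hzN : z ∉ N := fun h => hN3 (by
      have h' := orderOf_dvd_natCard (⟨z, h⟩ : N)
      rwa [orderOf_mk, hz] at h')
    have hq : orderOf (z : E.CV ⧸ N) = 3 := by
      refine orderOf_eq_prime ?_ (fun e => hzN ((QuotientGroup.eq_one_iff z).1 e))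
      rw [← QuotientGroup.mk_pow, ← hz, pow_orderOf_eq_one, QuotientGroup.mk_one]
    have htop : zpowers (z : E.CV ⧸ N) = ⊤ := eq_top_of_card_eq _ (by
      rw [Nat.card_zpowers, hq, ← hidx, index_eq_card])
    obtain ⟨i, hi⟩ := mem_powers_iff_mem_zpowers.2
      (show ((⟨x, hx⟩ : E.CV) : E.CV ⧸ N) ∈ zpowers (z : E.CV ⧸ N) from htop ▸ mem_top _)
    have hi' : ((z : E.CV ⧸ N)) ^ (i % 3) = ((⟨x, hx⟩ : E.CV) : E.CV ⧸ N) := by
      rw [← hi, ← hq, pow_mod_orderOf]
    rw [← QuotientGroup.mk_pow, eq_comm, ← div_eq_one, ← QuotientGroup.mk_div,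
      QuotientGroup.eq_one_iff, div_eq_mul_inv] at hi'
    exact ⟨_, ⟨_, hi', rfl⟩, ⟨i % 3, Nat.mod_lt _ (by norm_num)⟩, by simp [z]⟩

/-- If no involution of `C(V)` centralizes `S`, then `C(V) = V × ⟨Z⟩`. -/
theorem CV_small (hno : ∀ x ∈ E.CV, x * E.i₁ eS = E.i₁ eS * x → x * x = 1 → x = 1) :
    ∀ x ∈ E.CV, ∃ v : Fin 2 × Fin 2, ∃ k : Fin 3, x = E.i₁ (fourL v) * E.i₁ eZ ^ k.val := by
  obtain ⟨R, hRle, hR3, hin, hchar, hdec⟩ := E.exists_complement
  have hSn : ∀ x ∈ E.CV, E.i₁ eS * x * (E.i₁ eS)⁻¹ ∈ E.CV := by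
    have hgen : ∀ g : L35, g = eS → ∀ x ∈ E.CV,
        ∀ w : L35, (w = eT ∨ w = eV) → (E.i₁ g * x * (E.i₁ g)⁻¹) * E.i₁ w =
          E.i₁ w * (E.i₁ g * x * (E.i₁ g)⁻¹) := by
      intro g hg x hx w hw
      have hd : ∀ w ∈ ([eT, eV] : List L35), ∃ v, eS⁻¹ * w * eS = fourL v := by decide +kernel
      obtain ⟨v, hv⟩ := hd w (by simpa using hw)
      have h1 : x * E.i₁ (fourL v) = E.i₁ (fourL v) * x := by
        have hc : ∀ u : L35, (u = eT ∨ u = eV) → Commute x (E.i₁ u) := by
          rintro u (rfl | rfl)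
          · exact (mem_CV.1 hx).1
          · exact (mem_CV.1 hx).2
        simp only [fourL, map_mul, map_pow]
        exact (((hc eT (Or.inl rfl)).pow_right _).mul_right ((hc eV (Or.inr rfl)).pow_right _)).eq
      rw [← hv, map_mul, map_mul, map_inv, ← hg] at h1
      calc E.i₁ g * x * (E.i₁ g)⁻¹ * E.i₁ w
          = E.i₁ g * (x * ((E.i₁ g)⁻¹ * E.i₁ w * E.i₁ g)) * (E.i₁ g)⁻¹ := by group
        _ = _ := by rw [h1]; group
    exact fun x hx => mem_CV.2 ⟨hgen eS rfl x hx eT (Or.inl rfl), hgen eS rfl x hx eV (Or.inr rfl)⟩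
  have hZn : ∀ x ∈ E.CV, E.i₁ eZ * x * (E.i₁ eZ)⁻¹ ∈ E.CV := fun x hx =>
    mul_mem (mul_mem Z_mem_CV hx) (inv_mem Z_mem_CV)
  -- `D` normalizes the complement
  have hDn : E.D ≤ normalizer (R : Set G) := by
    have hfin : ∀ g, (∀ x ∈ R, g * x * g⁻¹ ∈ R) → g ∈ normalizer (R : Set G) := by
      intro g hg
      haveI : Finite R := inferInstance
      refine mem_normalizer_iff.2 fun x => ⟨hg x, fun hx => ?_⟩
      have hinj : Function.Injective fun r : R => (⟨g * r * g⁻¹, hg r r.2⟩ : R) := fun a b e => by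
        simpa using congrArg Subtype.val e
      obtain ⟨r, hr⟩ := (Finite.injective_iff_surjective.1 hinj) ⟨g * x * g⁻¹, hx⟩
      have : (r : G) = x := by simpa using congrArg Subtype.val hr
      exact this ▸ r.2
    intro d hd
    obtain ⟨x, rfl⟩ := (E.memD d).1 hd
    simp only [nineL, map_mul, map_pow]
    exact mul_mem (pow_mem (hfin _ (hchar _ hZn)) _) (pow_mem (hfin _ (hchar _ hSn)) _)
  -- fixed points of `Z`
  have hfix : ∀ x ∈ R, x * E.i₁ eZ = E.i₁ eZ * x → ∃ v, x = E.i₁ (fourL v) := by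
    intro x hx hxZ
    obtain ⟨l, rfl, hl⟩ := E.toFrame.exists_of_commute hxZ
    obtain ⟨hc1, hc2⟩ := mem_CV_model.1 (hRle hx)
    obtain ⟨-, a, v, hv⟩ := cent_four l l.2 hc1 hc2
    have hl' : l = eZ ^ a.val * fourL v := Subtype.ext (by rw [hv]; simp [coe_fourL])
    by_cases ha : a = 0
    · exact ⟨v, by simp [hl', ha]⟩
    exfalso
    have h3 : (3 : ℕ) ∣ orderOf l := by
      have hd : ∀ a : Fin 3, ∀ v, a ≠ 0 → (eZ ^ a.val * fourL v) ^ 2 = eZ ∨
          (eZ ^ a.val * fourL v) ^ 2 = eZ ^ 2 := by decide +kernel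
      have e3 : orderOf (l ^ 2) = 3 := by
        rw [hl']
        rcases hd a v ha with e | e <;> rw [e]
        · exact orderOf_eq_prime eZ_pow eZ_ne_one
        · refine orderOf_eq_prime (by rw [← pow_mul, mul_comm, pow_mul, eZ_pow, one_pow]) ?_
          decide +kernel
      exact dvd_trans (dvd_of_eq e3.symm) (orderOf_pow_dvd 2)
    rw [← orderOf_injective E.i₁ E.inj] at h3
    exact hR3 (h3.trans (R.orderOf_dvd_natCard hx))
  -- the whole complement
  have hbig : ∀ r ∈ R, ∃ v, r = E.i₁ (fourL v) := by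
    let W : Subgroup G := dihSub.map E.i₁ ⊓ E.CV
    have hfour : ∀ v, E.i₁ (fourL v) ∈ W := fun v =>
      ⟨⟨fourL v, ⟨(v.1, v.2, 0), by simp [dihL, fourL]⟩, rfl⟩, fourL_mem_CV v⟩
    haveI : IsMulCommutative E.D := ⟨⟨fun a b => Subtype.ext (by
      have := mem_centralizer_singleton_iff.1 (E.toFrame.le_centralizer b.2 a.2)
      exact this)⟩⟩
    have hnc : ¬ IsCyclic E.D := by
      intro hc
      obtain ⟨g, hg⟩ := hc.exists_generator
      have h := Nat.card_zpowers g
      rw [(eq_top_iff' _).2 hg, card_top, E.card_D] at h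
      have h3 : orderOf g ∣ 3 := orderOf_dvd_of_pow_eq_one (Subtype.ext (E.toFrame.pow_three g.2))
      have := Nat.le_of_dvd (by norm_num) h3
      omega
    have hcop : (Nat.card E.D).Coprime (Nat.card R) := by
      rw [E.card_D, show 9 = 3 ^ 2 from rfl]
      exact (Nat.prime_three.coprime_iff_not_dvd.2 hR3).pow_left 2
    have hsup := CfsgLib.CoprimeGeneration.iSup_centralizer_eq E.D R hnc hDn hcop
    have hRW : R ≤ W := by
      rw [← hsup]
      refine iSup₂_le fun d hd x hx => ?_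
      obtain ⟨hdD, hd1⟩ := hd
      obtain ⟨⟨a, b⟩, rfl⟩ := (E.memD d).1 hdD
      have hxd := mem_centralizer_singleton_iff.1 hx.2
      by_cases hb : b = 0
      · -- the line of `Z`
        have ha : a ≠ 0 := fun ha => hd1 (by simp [ha, hb, nineL])
        have hxZ : x * E.i₁ eZ = E.i₁ eZ * x := by
          subst hb
          have h2 : (E.i₁ eZ ^ a.val) ^ a.val = E.i₁ eZ := by
            rw [← pow_mul, ← map_pow]
            congr 1
            fin_cases a
            · exact absurd rfl ha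
            · simp
            · show eZ ^ 4 = eZ
              rw [pow_succ, eZ_pow, one_mul]
          have hc : Commute x (E.i₁ eZ ^ a.val) :=
            show x * _ = _ * x by simpa [nineL] using hxd
          exact h2 ▸ (hc.pow_right a.val).eq
        obtain ⟨v, rfl⟩ := hfix x hx.1 hxZ
        exact hfour v
      by_cases ha : a = 0
      · -- the line of `S`
        subst ha
        have hxS : x * E.i₁ eS = E.i₁ eS * x := by
          have h2 : (E.i₁ eS ^ b.val) ^ b.val = E.i₁ eS := by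
            rw [← pow_mul, ← map_pow]
            congr 1
            fin_cases b
            · exact absurd rfl hb
            · simp
            · show eS ^ 4 = eS
              rw [pow_succ, eS_pow, one_mul]
          have hc : Commute x (E.i₁ eS ^ b.val) :=
            show x * _ = _ * x by simpa [nineL] using hxd
          exact h2 ▸ (hc.pow_right b.val).eq
        suffices x = 1 by rw [this]; exact one_mem _
        have hodd : ¬ 2 ∣ orderOf x := by
          intro h2
          have hy : orderOf (x ^ (orderOf x / 2)) = 2 := by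
            rw [orderOf_pow_of_dvd (by have := Nat.le_of_dvd (orderOf_pos x) h2; omega)
              (Nat.div_dvd_of_dvd h2), Nat.div_div_self h2 (orderOf_pos x).ne']
          have := hno _ (pow_mem (hRle hx.1) _) ((show Commute x (E.i₁ eS) from hxS).pow_left _)
            (by rw [← pow_two, ← hy, pow_orderOf_eq_one])
          rw [this, orderOf_one] at hy
          omega
        have h3 : ¬ 3 ∣ orderOf x := fun h => hR3 (h.trans (R.orderOf_dvd_natCard hx.1))
        have h180 : orderOf x ∣ 180 := by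
          rw [← E.card_centralizer_S]
          exact Subgroup.orderOf_dvd_natCard _ (mem_centralizer_singleton_iff.2 hxS)
        have h5 : orderOf x ∣ 5 := by
          have hc2 : (orderOf x).Coprime (2 ^ 2) :=
            ((Nat.prime_two.coprime_iff_not_dvd.2 hodd).symm).pow_right 2
          have hc3 : (orderOf x).Coprime (3 ^ 2) :=
            ((Nat.prime_three.coprime_iff_not_dvd.2 h3).symm).pow_right 2
          exact (hc3.dvd_of_dvd_mul_left (hc2.dvd_of_dvd_mul_left
            (show orderOf x ∣ 2 ^ 2 * (3 ^ 2 * 5) by simpa using h180)))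
        by_contra hx1
        obtain ⟨l, rfl, hl⟩ := E.exists_of_commute_S hxS
        have hl5 : (l : P35) ^ 5 = 1 := by
          have : l ^ 5 = 1 := E.inj₂ (by rw [map_pow, map_one]; exact orderOf_dvd_iff_pow_eq_one.1 h5)
          simpa using congrArg Subtype.val this
        obtain ⟨i, j, h1, h2⟩ := five_gen l l.2 hl5 (fun e => hx1 (by
          rw [show l = 1 from Subtype.ext e, map_one]))
        set m : L35 := l ^ i.val * (eS * l * eS⁻¹) ^ j.val
        have hmR : E.i₂ m ∈ R := by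
          simp only [m, map_mul, map_pow, map_inv, E.agree_S]
          exact mul_mem (pow_mem hx.1 _) (pow_mem (hchar _ hZn _ hx.1) _)
        have hm2 : m * m = 1 := Subtype.ext (by simpa [m, pow_two] using h1)
        have hmS : E.i₂ m * E.i₁ eS = E.i₁ eS * E.i₂ m := by
          rw [← E.agree_Z, ← map_mul, ← map_mul]
          congr 1
          have hc : Commute l eZ := Subtype.ext (by simpa using hl)
          have hs : Commute (eS * l * eS⁻¹) eZ :=
            (((show Commute eS eZ from eZ_eS.symm).mul_left hc)).mul_left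
              (show Commute eS eZ from eZ_eS.symm).inv_left
          exact ((hc.pow_left _).mul_left (hs.pow_left _)).eq
        have := hno _ (hRle hmR) hmS (by rw [← map_mul, hm2, map_one])
        apply h2
        have hm1 : m = 1 := E.inj₂ (by rw [this, map_one])
        simpa [m] using congrArg Subtype.val hm1
      -- the other lines
      set K := R ⊓ centralizer ({E.i₁ (nineL (a, b))} : Set G)
      have hK : Nat.card K ∣ 2 := by
        have h18 : Nat.card K ∣ 18 := E.card_centralizer_off ha hb ▸ card_dvd_of_le inf_le_right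
        have h3 : ¬ 3 ∣ Nat.card K := fun h => hR3 (h.trans (card_dvd_of_le inf_le_left))
        exact ((Nat.prime_three.coprime_iff_not_dvd.2 h3).symm.pow_right 2).dvd_of_dvd_mul_left
          (show Nat.card K ∣ 3 ^ 2 * 2 by simpa using h18)
      have hxK : x ∈ K := hx
      have hyK : E.i₁ eZ * x * (E.i₁ eZ)⁻¹ ∈ K := by
        refine ⟨hchar _ hZn x hx.1, mem_centralizer_singleton_iff.2 ?_⟩
        have hc : Commute (E.i₁ eZ) (E.i₁ (nineL (a, b))) :=
          (mem_centralizer_singleton_iff.1 (E.toFrame.le_centralizer (E.toFrame.nine_mem (a, b))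
            ((E.memD _).2 ⟨(1, 0), by simp [nineL]⟩)))
        exact ((hc.mul_left hxd).mul_left hc.inv_left).eq
      have hxZ : x * E.i₁ eZ = E.i₁ eZ * x := by
        by_cases h1 : x = 1
        · simp [h1]
        have hne : E.i₁ eZ * x * (E.i₁ eZ)⁻¹ ≠ 1 := by simpa using h1
        have h2 : Nat.card K ≤ 2 := Nat.le_of_dvd (by norm_num) hK
        have e : E.i₁ eZ * x * (E.i₁ eZ)⁻¹ = x := by
          by_contra hne2
          have : ({1, x, E.i₁ eZ * x * (E.i₁ eZ)⁻¹} : Set G) ⊆ K := by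
            simp [Set.insert_subset_iff, hxK, hyK, one_mem K]
          have := Set.ncard_le_ncard this (Set.toFinite _)
          rw [Set.ncard_insert_of_notMem (by simp [Ne.symm h1, Ne.symm hne]),
            Set.ncard_pair (Ne.symm hne2), ← Nat.card_coe_set_eq] at this
          simp only [SetLike.coe_sort_coe] at this
          omega
        exact (mul_inv_eq_iff_eq_mul.1 e).symm
      obtain ⟨v, rfl⟩ := hfix x hx.1 hxZ
      exact hfour v
    intro r hr
    obtain ⟨⟨l, ⟨⟨p, q, w⟩, rfl⟩, rfl⟩, hcv⟩ := hRW hr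
    have hd : ∀ p q w, (dihL (p, q, w) : P35) * eV = eV * dihL (p, q, w) → w = 0 := by
      decide +kernel
    obtain rfl := hd p q w (mem_CV_model.1 hcv).2
    exact ⟨(p, q), by simp [dihL, fourL]⟩
  intro x hx
  obtain ⟨r, hr, k, rfl⟩ := hdec x hx
  obtain ⟨v, rfl⟩ := hbig r hr
  exact ⟨v, k, rfl⟩

/-- Some involution of `C(V)` centralizes `S`. -/
theorem exists_involution_CV :
    ∃ x ∈ E.CV, x * E.i₁ eS = E.i₁ eS * x ∧ x * x = 1 ∧ x ≠ 1 := by
  by_contra hcon
  push Not at hcon
  have hsmall := E.CV_small hcon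
  haveI : Fact (Nat.Prime 2) := ⟨Nat.prime_two⟩
  have hD8 : IsPGroup 2 (dihSub.map E.i₁) := by
    refine IsPGroup.of_card (n := 3) ?_
    rw [card_map_of_injective E.inj, card_dihSub]; rfl
  obtain ⟨P, hP⟩ := hD8.exists_le_sylow
  have hm : ∀ x, E.i₁ (dihL x) ∈ (P : Subgroup G) := fun x => hP ⟨_, ⟨x, rfl⟩, rfl⟩
  have hTP : E.i₁ eT ∈ (P : Subgroup G) := by simpa [dihL] using hm (1, 0, 0)
  have hVP : E.i₁ eV ∈ (P : Subgroup G) := by simpa [dihL] using hm (0, 1, 0)
  have hCP : E.i₁ eC ∈ (P : Subgroup G) := by simpa [dihL] using hm (0, 0, 1)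
  -- 2-elements of `C(V)` lie in `V`
  have hin : ∀ x ∈ (P : Subgroup G), x ∈ E.CV → ∃ v, x = E.i₁ (fourL v) := by
    intro x hxP hxC
    obtain ⟨v, k, rfl⟩ := hsmall x hxC
    obtain ⟨n, hn⟩ := P.2 ⟨_, hxP⟩
    by_cases hk : k = 0
    · exact ⟨v, by simp [hk]⟩
    exfalso
    have h1 : orderOf (E.i₁ (fourL v) * E.i₁ eZ ^ k.val) ∣ 2 ^ n :=
      orderOf_dvd_of_pow_eq_one (by simpa using congrArg Subtype.val hn)
    rw [← map_pow, ← map_mul, orderOf_injective E.i₁ E.inj] at h1
    have hd : ∀ (v : Fin 2 × Fin 2) (k : Fin 3), k ≠ 0 → ((fourL v * eZ ^ k.val) ^ 2) ^ 3 = 1 ∧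
        (fourL v * eZ ^ k.val) ^ 2 ≠ 1 := by decide +kernel
    have h2 := orderOf_eq_prime (hd v k hk).1 (hd v k hk).2
    have h3 := h2 ▸ (orderOf_pow_dvd 2).trans h1
    have := Nat.prime_three.dvd_of_dvd_pow h3
    omega
  -- `T` is central
  have hcent : ∀ x ∈ (P : Subgroup G), x * E.i₁ eT = E.i₁ eT * x := by
    haveI : Nontrivial (P : Subgroup G) := ⟨⟨⟨_, hTP⟩, 1, fun e => by
      have := congrArg (fun y : (P : Subgroup G) => orderOf (y : G)) e
      simp [E.orderOf_T] at this⟩⟩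
    haveI := IsPGroup.center_nontrivial P.2
    obtain ⟨w, hw⟩ := exists_ne (1 : center (P : Subgroup G))
    have hwc : ∀ y ∈ (P : Subgroup G), y * (w : P) = (w : P) * y := fun y hy =>
      congrArg Subtype.val (mem_center_iff.1 w.2 ⟨y, hy⟩)
    obtain ⟨v, hv⟩ := hin ((w : P) : G) (w : P).2
      (mem_CV.2 ⟨(hwc _ hTP).symm, (hwc _ hVP).symm⟩)
    have hvC : (fourL v : P35) * eC = eC * fourL v := by
      have := hwc _ hCP
      rw [hv, ← map_mul, ← map_mul] at this
      simpa using congrArg Subtype.val (E.inj this).symm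
    have hd : ∀ v, (fourL v : P35) * eC = eC * fourL v → fourL v = 1 ∨ fourL v = eT := by
      decide +kernel
    rcases hd v hvC with e | e
    · exfalso
      apply hw
      apply Subtype.ext; apply Subtype.ext
      rw [hv, e, map_one]; rfl
    · intro y hy
      have := hwc y hy
      rwa [hv, e] at this
  set S := (P : Subgroup G)
  set t : S := ⟨_, hTP⟩
  set b : S := ⟨_, hVP⟩
  have ht : orderOf t = 2 := by rw [orderOf_mk, E.orderOf_T]
  have hb : orderOf b = 2 := by
    rw [orderOf_mk, orderOf_injective E.i₁ E.inj]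
    exact orderOf_eq_prime (Subtype.ext (by simpa using four_facts.2.1)) (by decide +kernel)
  have htb : t ≠ b := fun e => by
    have := E.inj (congrArg Subtype.val e)
    exact absurd this (by decide +kernel)
  have hCb : ∀ x : S, x * b = b * x ↔ x = 1 ∨ x = t ∨ x = b ∨ x = t * b := by
    intro x
    constructor
    · intro hx
      obtain ⟨v, hv⟩ := hin x x.2 (mem_CV.2 ⟨hcent x x.2, congrArg Subtype.val hx⟩)
      have hd : ∀ v, fourL v = 1 ∨ fourL v = eT ∨ fourL v = eV ∨ fourL v = eT * eV := by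
        decide +kernel
      rcases hd v with e | e | e | e <;> rw [e] at hv
      · exact Or.inl (Subtype.ext (by simpa using hv))
      · exact Or.inr (Or.inl (Subtype.ext hv))
      · exact Or.inr (Or.inr (Or.inl (Subtype.ext hv)))
      · exact Or.inr (Or.inr (Or.inr (Subtype.ext (by simpa [map_mul] using hv))))
    · have hc : t * b = b * t := Subtype.ext (by
        show E.i₁ eT * E.i₁ eV = E.i₁ eV * E.i₁ eT
        rw [← map_mul, ← map_mul]
        exact congrArg E.i₁ (Subtype.ext (by simpa using four_facts.2.2.2.1)))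
      rintro (rfl | rfl | rfl | rfl)
      · simp
      · exact hc
      · rfl
      · rw [← mul_assoc b, ← hc]
  have hnc : ∃ x : S, x * b ≠ b * x := ⟨⟨_, hCP⟩, fun e => by
    have := congrArg Subtype.val e
    simp only [b, Subgroup.coe_mul] at this
    rw [← map_mul, ← map_mul] at this
    exact four_facts.2.2.2.2.2.1 (by simpa using congrArg Subtype.val (E.inj this).symm)⟩
  -- an involution off the lines
  obtain ⟨i, hi⟩ := exists_prime_orderOf_dvd_card'
    (G := centralizer ({E.i₁ (nineL (1, 1))} : Set G)) 2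
    (by rw [E.card_centralizer_off (by decide) (by decide)]; norm_num)
  have hni : ¬ IsConj (E.i₁ eT) (i : G) :=
    E.not_isConj_T (a := 1) (b := 1) (by decide) (by decide) (mem_centralizer_singleton_iff.1 i.2)
  rw [← orderOf_coe] at hi
  obtain ⟨R, hR⟩ := (IsPGroup.of_card (p := 2) (n := 1) (G := zpowers (i : G))
    (by rw [Nat.card_zpowers, hi, pow_one])).exists_le_sylow
  obtain ⟨g, hg⟩ := MulAction.exists_smul_eq G R P
  have huS : g * (i : G) * g⁻¹ ∈ S := by
    show g * (i : G) * g⁻¹ ∈ (P : Subgroup G)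
    rw [← hg, Sylow.coe_subgroup_smul]
    exact ⟨i, hR (mem_zpowers _), rfl⟩
  set u : S := ⟨_, huS⟩
  have hu : orderOf u = 2 := by rw [orderOf_mk, orderOf_conj', hi]
  have hconjU : ¬ IsConj (E.i₁ eT) (u : G) := fun h =>
    hni (h.trans (isConj_iff.2 ⟨g, rfl⟩).symm)
  rcases involution_trichotomy P.2 hb ht htb hCb hnc (fun x => Subtype.ext (hcent x x.2)) hu with
    e | e | ⟨n, ⟨en⟩, hn⟩
  · exact hconjU (by rw [e])
  · refine hconjU ((E.isConj_T (l := eV) (Subtype.ext (by simpa [pow_two] using four_facts.2.1))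
      (by decide +kernel)).trans ?_)
    exact MonoidHom.map_isConj S.subtype e
  -- the dihedral case
  have hn2 : 2 ≤ n := by
    have h8 : Nat.card (dihSub.map E.i₁) ≤ Nat.card S := card_le_of_le hP
    rw [card_map_of_injective E.inj, card_dihSub, hn] at h8
    omega
  set H := centralizer ({E.i₁ eT} : Set G) with hH
  obtain ⟨N, hN, hNodd, k, hNk⟩ :
      ∃ N : Subgroup H, N.Normal ∧ Odd (Nat.card N) ∧ ∃ k : ℕ, N.index = 2 ^ k :=
    Cfsg.Agent.S0514.result P n hn2 ⟨en⟩ (E.i₁ eT) E.orderOf_T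
  haveI : N.Normal := hN
  have hSH : S ≤ H := fun x hx => mem_centralizer_singleton_iff.2 (hcent x hx)
  have hZH : E.i₁ eZ ∈ H := mem_centralizer_singleton_iff.2 E.T_comm_Z
  have hZN : (⟨_, hZH⟩ : H) ∈ N := by
    rw [← QuotientGroup.eq_one_iff, ← orderOf_eq_one_iff]
    refine Nat.eq_one_of_dvd_coprimes (a := 2 ^ k) (b := 3) ?_ ?_ ?_
    · exact Nat.Coprime.pow_left k (by norm_num)
    · rw [← hNk, index_eq_card]; exact orderOf_dvd_natCard _
    · exact (orderOf_map_dvd (QuotientGroup.mk' N) _).trans (by rw [orderOf_mk, E.orderOf_Z])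
  set N' := N.map H.subtype
  -- Frattini
  set M := H ⊓ normalizer ((zpowers (E.i₁ eZ) : Subgroup G) : Set G)
  have hM : Nat.card M ∣ 24 := by
    let T : Finset P35 := Finset.univ.filter fun l : P35 =>
      Perm.sign l.1 * Perm.sign l.2 = 1 ∧ l * eT = eT * l
    have hT : ∀ {l : P35}, l ∈ T → l ∈ L35 ∧ l * eT = eT * l := fun h => (Finset.mem_filter.1 h).2
    have hb : Function.Bijective fun l : T => (⟨E.i₁ ⟨l.1, (hT l.2).1⟩,
        mem_centralizer_singleton_iff.2 (by
          rw [← map_mul, ← map_mul]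
          exact congrArg E.i₁ (Subtype.ext (by simpa using (hT l.2).2))),
        E.range_eq ▸ ⟨_, rfl⟩⟩ : M) := by
      refine ⟨fun a b e => Subtype.ext ?_, fun g => ?_⟩
      · have h := E.inj (congrArg Subtype.val e)
        exact congrArg (fun x : L35 => (x : P35)) h
      · obtain ⟨g, hgH, hgN⟩ := g
        rw [← E.range_eq] at hgN
        obtain ⟨l, rfl⟩ := hgN
        have hc := mem_centralizer_singleton_iff.1 hgH
        rw [← map_mul, ← map_mul] at hc
        exact ⟨⟨l, Finset.mem_filter.2 ⟨Finset.mem_univ _, l.2,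
          by simpa using congrArg Subtype.val (E.inj hc)⟩⟩, rfl⟩
    rw [← Nat.card_eq_of_bijective _ hb, Nat.card_eq_fintype_card, Fintype.card_coe]
    exact dvd_of_eq card_centralizer_eT
  have hHsub : ∀ h ∈ H, ∃ n ∈ N', ∃ m ∈ M, h = n * m := by
    intro h hh
    have hzN' : E.i₁ eZ ∈ N' := ⟨_, hZN, rfl⟩
    have hwN' : h * E.i₁ eZ * h⁻¹ ∈ N' := ⟨_, hN.conj_mem _ hZN ⟨h, hh⟩, rfl⟩
    obtain ⟨c, hc, hcz⟩ := exists_conj_three N'
      (fun h9 => E.toFrame.not_nine_dvd E.orderOf_T (h9.trans (card_dvd_of_le (map_subtype_le N))))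
      (by rw [orderOf_conj', E.orderOf_Z]) E.orderOf_Z hwN' hzN'
    refine ⟨c⁻¹, inv_mem hc, c * h, ⟨mul_mem ((map_subtype_le N) hc) hh, ?_⟩, by group⟩
    refine mem_normalizer_zpowers ?_
    have hmem : c * h * E.i₁ eZ * (c * h)⁻¹ ∈ zpowers (E.i₁ eZ) := by
      rw [← hcz, show c * h * E.i₁ eZ * (c * h)⁻¹ = c * (h * E.i₁ eZ * h⁻¹) * c⁻¹ by group]
      exact mem_zpowers _
    rcases mem_zpowers_three (orderOf_dvd_iff_pow_eq_one.1 (dvd_of_eq E.orderOf_Z)) hmem with e | e | e
    · exfalso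
      rw [mul_inv_eq_one, mul_eq_left] at e
      have := E.orderOf_Z
      rw [e, orderOf_one] at this
      omega
    · exact Or.inl e
    · exact Or.inr e
  have hdvd : Nat.card H ∣ Nat.card N' * Nat.card M := by
    have hNH : N' ≤ H := map_subtype_le N
    set MH := M.subgroupOf H
    have htop : N ⊔ MH = ⊤ := top_unique fun ⟨h, hh⟩ _ => by
      obtain ⟨x, ⟨x', hx', rfl⟩, m, hm, rfl⟩ := hHsub h hh
      exact (N ⊔ MH).mul_mem (mem_sup_left hx') (mem_sup_right
        (show (⟨m, hm.1⟩ : H) ∈ MH from hm))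
    have h1 : N.index ∣ Nat.card MH := by
      rw [← relIndex_top_right, ← htop, sup_comm, relIndex_sup_right]
      exact relIndex_dvd_card _ _
    rw [← N.card_mul_index, Nat.card_congr (subgroupOfEquivOfLe (inf_le_left : M ≤ H)).toEquiv]
      at *
    rw [show Nat.card N' = Nat.card N from card_map_of_injective (subtype_injective _)]
    exact Nat.mul_dvd_mul_left _ h1
  have hS8 : Nat.card S ≤ 8 := by
    obtain ⟨j, hj⟩ := IsPGroup.iff_card.1 P.2
    have h1 : Nat.card S ∣ Nat.card N' * 24 :=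
      (card_dvd_of_le hSH).trans (hdvd.trans (Nat.mul_dvd_mul_left _ hM))
    have hcop : (Nat.card S).Coprime (Nat.card N') := by
      show (Nat.card (P : Subgroup G)).Coprime _
      rw [hj, show Nat.card N' = Nat.card N from card_map_of_injective (subtype_injective _)]
      exact Nat.Coprime.pow_left j (Nat.coprime_two_left.2 hNodd)
    have h24 : Nat.card S ∣ 8 * 3 := hcop.dvd_of_dvd_mul_left h1
    have hcop3 : (Nat.card S).Coprime 3 := by
      show (Nat.card (P : Subgroup G)).Coprime 3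
      rw [hj]; exact Nat.Coprime.pow_left j (by norm_num)
    exact Nat.le_of_dvd (by norm_num) (hcop3.dvd_of_dvd_mul_right h24)
  have hS : dihSub.map E.i₁ = S := eq_of_le_of_card_ge hP (by
    rw [card_map_of_injective E.inj, card_dihSub]; exact hS8)
  obtain ⟨l, -, hl⟩ : (u : G) ∈ dihSub.map E.i₁ := by rw [hS]; exact u.2
  refine hconjU (hl ▸ E.isConj_T ?_ ?_)
  · apply E.inj
    rw [map_mul, hl, map_one, ← pow_two, ← orderOf_dvd_iff_pow_eq_one, orderOf_coe, hu]
  · rintro rfl
    rw [map_one] at hl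
    rw [← orderOf_coe, ← hl, orderOf_one] at hu
    omega

end Frames

end CfsgLib.ThreeEight
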