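import Cfsg.Agent.Lib.Recognition.ThreeEight.Model

/-!
Coordinates for a group with the 3-local data of `A₈`: the model maps onto the normalizers of
the two lines `⟨Z⟩`, `⟨S⟩` of a Sylow 3-subgroup, compatibly on their intersection.
-/

set_option autoImplicit false
set_option linter.style.haveILetI false

namespace CfsgLib.ThreeEight

open Subgroup Equiv

/-- The nine elements in the model. -/
def nineL (x : Fin 3 × Fin 3) : L35 := eZ ^ x.1.val * eS ^ x.2.val

theorem coe_nineL (x : Fin 3 × Fin 3) : (nineL x : P35) = nine x := by simp [nineL, nine]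

/-- The stabilizer of both lines in the model. -/
def e36L (x : Fin 3 × Fin 3 × Fin 2 × Fin 2) : L35 :=
  eZ ^ x.1.val * eS ^ x.2.1.val * eD₁ ^ x.2.2.1.val * eD₂ ^ x.2.2.2.val

theorem coe_e36L (x : Fin 3 × Fin 3 × Fin 2 × Fin 2) : (e36L x : P35) = e36 x := by
  simp [e36L, e36]

theorem eZ_pow : eZ ^ 3 = 1 := Subtype.ext (by simpa using rels_base.1)
theorem eS_pow : eS ^ 3 = 1 := Subtype.ext (by simpa using rels_base.2.1)
theorem eD₁_sq : eD₁ * eD₁ = 1 := Subtype.ext (by simpa [pow_two] using rels_base.2.2.1)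
theorem eD₂_sq : eD₂ * eD₂ = 1 := Subtype.ext (by simpa [pow_two] using rels_base.2.2.2.1)
theorem eZ_eS : eZ * eS = eS * eZ := Subtype.ext (by simpa using rels_base.2.2.2.2.1)
theorem eD₁_eS : eD₁ * eS = eS * eD₁ := Subtype.ext (by simpa using rels_base.2.2.2.2.2.1)
theorem eD₂_eZ : eD₂ * eZ = eZ * eD₂ := Subtype.ext (by simpa using rels_base.2.2.2.2.2.2.1)
theorem eD₁_eZ : eD₁ * eZ * eD₁ = eZ ^ 2 :=
  Subtype.ext (by simpa using rels_base.2.2.2.2.2.2.2.1)
theorem eD₂_eS : eD₂ * eS * eD₂ = eS ^ 2 :=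
  Subtype.ext (by simpa using rels_base.2.2.2.2.2.2.2.2.1)

theorem eZ_ne_one : eZ ≠ 1 := fun e => by
  have : e36 (1, 0, 0, 0) = e36 (0, 0, 0, 0) := by
    simp [e36, show (eZ : P35) = 1 by rw [e]; rfl]
  simpa using e36_injective this

theorem eS_ne_one : eS ≠ 1 := fun e => by
  have : e36 (0, 1, 0, 0) = e36 (0, 0, 0, 0) := by
    simp [e36, show (eS : P35) = 1 by rw [e]; rfl]
  simpa using e36_injective this

theorem e36L_injective : Function.Injective e36L := fun x y h => e36_injective (by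
  rw [← coe_e36L, ← coe_e36L, h])

theorem nineL_eq (x : Fin 3 × Fin 3) : nineL x = e36L (x.1, x.2, 0, 0) := by simp [nineL, e36L]

theorem nineL_injective : Function.Injective nineL := fun x y h => by
  rw [nineL_eq, nineL_eq] at h
  have := e36L_injective h
  simp only [Prod.mk.injEq, and_true] at this
  exact Prod.ext this.1 this.2

variable {G : Type*} [Group G]

theorem mem_zpowers_three {z g : G} (hz : z ^ 3 = 1) (h : g ∈ zpowers z) :
    g = 1 ∨ g = z ∨ g = z⁻¹ := by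
  obtain ⟨i, rfl⟩ := h
  have h3 : z ^ (3 : ℤ) = 1 := by exact_mod_cast hz
  have h2 : z ^ (2 : ℤ) = z⁻¹ := by
    rw [eq_inv_iff_mul_eq_one, ← zpow_add_one]
    exact h3
  have e : z ^ i = z ^ (i % 3) := zpow_eq_zpow_emod i h3
  simp only [e]
  rcases (show i % 3 = 0 ∨ i % 3 = 1 ∨ i % 3 = 2 by omega) with e | e | e <;> rw [e]
  · exact Or.inl (zpow_zero z)
  · exact Or.inr (Or.inl (zpow_one z))
  · exact Or.inr (Or.inr h2)

/-- A group with the 3-local data, in coordinates. -/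
structure Frame (G : Type*) [Group G] where
  D : Subgroup G
  card_D : Nat.card D = 9
  cent_D : centralizer (D : Set G) = D
  sylow : ∃ P : Sylow 3 G, (P : Subgroup G) = D
  card_N : Nat.card (normalizer (D : Set G)) = 72
  i₁ : L35 →* G
  inj : Function.Injective i₁
  range_eq : i₁.range = normalizer ((zpowers (i₁ eZ) : Subgroup G) : Set G)
  memD : ∀ g, g ∈ D ↔ ∃ x, g = i₁ (nineL x)
  exists18 : ∃ d ∈ D, Nat.card (centralizer ({d} : Set G)) = 18

/-- The frame from the hypotheses of the recognition. -/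
theorem exists_frame [Finite G] (P : Sylow 3 G) (D : Subgroup G) (hDP : D = P) (y z : G)
    (hgen : closure {y, z} = D) (hcard : Nat.card D = 9)
    (hcomm : IsMulCommutative D) (hexp : ∀ a ∈ D, a ^ 3 = 1)
    (hC : centralizer (D : Set G) = D)
    (eN : normalizer (D : Set G) ⧸ D.subgroupOf (normalizer (D : Set G)) ≃* DihedralGroup 4)
    (hycard : Nat.card (centralizer ({y} : Set G)) = 18)
    (eL : normalizer (zpowers z : Set G) ≃* L35) : Nonempty (Frame G) := by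
  classical
  have hyD : y ∈ D := hgen ▸ subset_closure (Set.mem_insert _ _)
  have hzD : z ∈ D := hgen ▸ subset_closure (Set.mem_insert_of_mem _ rfl)
  have hDle : ∀ {w : G}, w ∈ D → D ≤ normalizer ((zpowers w : Subgroup G) : Set G) := fun {w} hw g hg => by
    refine centralizer_le_normalizer _ (mem_centralizer_iff.2 ?_)
    rintro v ⟨i, rfl⟩
    have hc := congrArg Subtype.val (hcomm.is_comm.comm (⟨w, hw⟩ : D) ⟨g, hg⟩)
    exact ((show Commute w g from hc).zpow_left i).eq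
  have hz1 : z ≠ 1 := by
    rintro rfl
    have hle : D ≤ zpowers y := by
      rw [← hgen, closure_le]
      rintro v (rfl | rfl)
      · exact mem_zpowers _
      · exact one_mem _
    have h := (Subgroup.card_le_of_le hle).trans (le_of_eq (Nat.card_zpowers y))
    have h3 := Nat.le_of_dvd (by norm_num) (orderOf_dvd_of_pow_eq_one (hexp y hyD))
    omega
  set N := normalizer ((zpowers z : Subgroup G) : Set G) with hN
  let i₀ : L35 →* G := N.subtype.comp eL.symm.toMonoidHom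
  have hi₀ : Function.Injective i₀ := N.subtype_injective.comp eL.symm.injective
  have hr₀ : ∀ g, g ∈ N → ∃ l, i₀ l = g := fun g hg => ⟨eL ⟨g, hg⟩, by simp [i₀]⟩
  have hr₀' : ∀ l, i₀ l ∈ N := fun l => (eL.symm l).2
  -- the line of `Z`
  obtain ⟨l, hl⟩ := hr₀ z (hDle hzD hzD)
  have hlz : l = eZ ∨ l = eZ⁻¹ := by
    have h3 : l ^ 3 = 1 := hi₀ (by rw [map_pow, hl, map_one, hexp z hzD])
    have h1 : l ≠ 1 := fun e => hz1 (by rw [← hl, e, map_one])
    have h := normal_three (l := (l : P35)) (by rw [← coe_pow, h3]; rfl)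
      (fun e => h1 (Subtype.ext e)) fun m hm => by
        have hmem : i₀ (⟨m, hm⟩ * l * (⟨m, hm⟩ : L35)⁻¹) ∈ zpowers z := by
          rw [map_mul, map_mul, map_inv, hl]
          exact (mem_normalizer_iff.1 (hr₀' ⟨m, hm⟩) z).1 (mem_zpowers z)
        rcases mem_zpowers_three (hexp z hzD) hmem with e | e | e
        · exfalso
          rw [map_mul, map_mul, map_inv, hl, mul_inv_eq_one, mul_eq_left] at e
          exact hz1 e
        · left; exact congrArg Subtype.val (hi₀ (e.trans hl.symm))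
        · right
          have e' : i₀ (⟨m, hm⟩ * l * (⟨m, hm⟩ : L35)⁻¹) = i₀ l⁻¹ := by rw [map_inv, hl, e]
          exact congrArg Subtype.val (hi₀ e')
    rcases h with h | h
    · exact Or.inl (Subtype.ext h)
    · exact Or.inr (Subtype.ext h)
  have hzp : zpowers (i₀ eZ) = zpowers z := by
    rcases hlz with rfl | rfl
    · rw [hl]
    · rw [← hl, map_inv, zpowers_inv]
  have hZD : i₀ eZ ∈ D := by
    have : i₀ eZ ∈ zpowers z := hzp ▸ mem_zpowers _
    exact (zpowers_le.2 hzD) this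
  -- another element of `D`
  obtain ⟨x, hxD, hxz⟩ : ∃ x ∈ D, x ∉ zpowers z := by
    by_contra h
    push Not at h
    have h' := (Subgroup.card_le_of_le (show D ≤ zpowers z from h)).trans
      (le_of_eq (Nat.card_zpowers z))
    have h3 := Nat.le_of_dvd (by norm_num) (orderOf_dvd_of_pow_eq_one (hexp z hzD))
    omega
  obtain ⟨v, hv⟩ := hr₀ x (hDle hzD hxD)
  have hv3 : v ^ 3 = 1 := hi₀ (by rw [map_pow, hv, map_one, hexp x hxD])
  have hvZ : v * eZ = eZ * v := hi₀ (by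
    rw [map_mul, map_mul, hv]
    exact congrArg Subtype.val (hcomm.is_comm.comm (⟨x, hxD⟩ : D) ⟨_, hZD⟩))
  have hv3' : (v : P35).2 ^ 3 = 1 :=
    congrArg (fun w : L35 => (w : P35).2) hv3
  obtain ⟨b', hb's, k, hk⟩ := three_conj _ hv3'
  obtain ⟨a, ha⟩ := three_fst (v : P35).1 (congrArg (fun w : L35 => (w : P35).1) hvZ)
  set m : L35 := mkL (1, b') (by simp [hb's]) with hm
  have hmv : m * v * m⁻¹ = nineL (a, k) := by
    apply Subtype.ext
    rw [coe_nineL]
    apply Prod.ext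
    · simp [hm, mkL, nine, ha, eS]
    · simpa [hm, mkL, nine, eZ] using hk
  have hmZ : m⁻¹ * eZ * m = eZ := by
    apply Subtype.ext
    apply Prod.ext <;> simp [hm, mkL, eZ]
  let i₁ : L35 →* G := i₀.comp (MulAut.conj m⁻¹).toMonoidHom
  have hi₁ : ∀ w, i₁ w = i₀ (m⁻¹ * w * m) := fun w => by simp [i₁]
  have hi₁inj : Function.Injective i₁ := hi₀.comp (MulAut.conj m⁻¹).injective
  have hZ₁ : i₁ eZ = i₀ eZ := by rw [hi₁, hmZ]
  have hx₁ : i₁ (nineL (a, k)) = x := by rw [hi₁, ← hmv, ← hv]; congr 1; group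
  have hk0 : k ≠ 0 := by
    rintro rfl
    apply hxz
    rw [← hx₁, ← hzp, ← hZ₁]
    simp [nineL, map_pow]
  have hSD : i₁ eS ∈ D := by
    have h1 : i₁ (eS ^ k.val) ∈ D := by
      have e : i₁ (eS ^ k.val) = (i₁ eZ ^ a.val)⁻¹ * i₁ (nineL (a, k)) := by
        simp [nineL, map_pow]
      rw [e, hx₁, hZ₁]
      exact mul_mem (inv_mem (pow_mem hZD _)) hxD
    have h2 := pow_mem h1 k.val
    rw [← map_pow, ← pow_mul] at h2
    have e : eS ^ (k.val * k.val) = eS := by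
      fin_cases k
      · exact absurd rfl hk0
      · simp
      · show eS ^ 4 = eS
        rw [pow_succ, eS_pow, one_mul]
    rwa [e] at h2
  have hnine : ∀ x, i₁ (nineL x) ∈ D := fun x => by
    simp only [nineL, map_mul, map_pow]
    exact mul_mem (pow_mem (hZ₁ ▸ hZD) _) (pow_mem hSD _)
  refine ⟨{
    D := D
    card_D := hcard
    cent_D := hC
    sylow := ⟨P, hDP.symm⟩
    card_N := ?_
    i₁ := i₁
    inj := hi₁inj
    range_eq := ?_
    memD := fun g => ?_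
    exists18 := ⟨y, hyD, hycard⟩ }⟩
  · haveI : (D.subgroupOf (normalizer (D : Set G))).Normal := Subgroup.normal_in_normalizer
    have h1 := (D.subgroupOf (normalizer (D : Set G))).card_mul_index
    rw [Subgroup.index_eq_card, Nat.card_congr eN.toEquiv, DihedralGroup.nat_card,
      Nat.card_congr (Subgroup.subgroupOfEquivOfLe le_normalizer).toEquiv, hcard] at h1
    omega
  · rw [hZ₁, hzp]
    ext g
    refine ⟨?_, fun hg => ?_⟩
    · rintro ⟨w, rfl⟩; rw [hi₁]; exact hr₀' _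
    · obtain ⟨w, hw⟩ := hr₀ g hg
      exact ⟨m * w * m⁻¹, by rw [hi₁, ← hw]; congr 1; group⟩
  · refine ⟨fun hg => ?_, fun ⟨x, hx⟩ => hx ▸ hnine x⟩
    have hf : Function.Injective fun x => (⟨i₁ (nineL x), hnine x⟩ : D) := fun p q h => by
      have h' := congrArg Subtype.val h
      exact nineL_injective (hi₁inj h')
    have hb : Function.Bijective fun x => (⟨i₁ (nineL x), hnine x⟩ : D) :=
      (Nat.bijective_iff_injective_and_card _).2 ⟨hf, by simp [hcard]⟩
    obtain ⟨p, hp⟩ := hb.2 ⟨g, hg⟩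
    exact ⟨p, (congrArg Subtype.val hp).symm⟩

/-- The preimage in the model of the stabilizer of both lines. -/
theorem Frame.mem_both (F : Frame G) {g : G} (hD : g ∈ normalizer (F.D : Set G))
    (hZ : g ∈ normalizer ((zpowers (F.i₁ eZ) : Subgroup G) : Set G)) :
    ∃ x, g = F.i₁ (e36L x) := by
  rw [← F.range_eq] at hZ
  obtain ⟨l, rfl⟩ := hZ
  have hmem : F.i₁ (l * eS * l⁻¹) ∈ F.D := by
    rw [map_mul, map_mul, map_inv]
    exact (mem_normalizer_iff.1 hD _).1 ((F.memD _).2 ⟨(0, 1), by simp [nineL]⟩)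
  obtain ⟨p, hp⟩ := (F.memD _).1 hmem
  have := congrArg Subtype.val (F.inj hp)
  rw [coe_nineL] at this
  obtain ⟨e, he⟩ := stab_nine (l : P35) l.2 ⟨p, by simpa using this⟩
  exact ⟨e, by rw [show l = e36L e from Subtype.ext (he.trans (coe_e36L e).symm)]⟩

theorem Frame.e36_mem (F : Frame G) (x : Fin 3 × Fin 3 × Fin 2 × Fin 2) :
    F.i₁ (e36L x) ∈ normalizer (F.D : Set G) ⊓ normalizer ((zpowers (F.i₁ eZ) : Subgroup G) : Set G) := by
  refine ⟨?_, F.range_eq ▸ ⟨_, rfl⟩⟩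
  have hS : F.i₁ eS ∈ normalizer (F.D : Set G) :=
    le_normalizer ((F.memD _).2 ⟨(0, 1), by simp [nineL]⟩)
  have hZ : F.i₁ eZ ∈ normalizer (F.D : Set G) :=
    le_normalizer ((F.memD _).2 ⟨(1, 0), by simp [nineL]⟩)
  have key : ∀ d : L35, d * d = 1 → (∀ p, ∃ q, d * nineL p * d = nineL q) →
      F.i₁ d ∈ normalizer (F.D : Set G) := by
    intro d hdd hd
    have hinv : d⁻¹ = d := inv_eq_of_mul_eq_one_right hdd
    refine mem_normalizer_iff.2 fun g => ?_
    have step : ∀ g ∈ F.D, F.i₁ d * g * (F.i₁ d)⁻¹ ∈ F.D := by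
      intro g hg
      obtain ⟨p, rfl⟩ := (F.memD g).1 hg
      obtain ⟨q, hq⟩ := hd p
      exact (F.memD _).2 ⟨q, by rw [← map_inv, hinv, ← map_mul, ← map_mul, hq]⟩
    refine ⟨step g, fun h => ?_⟩
    have h2 := step _ h
    rw [← map_inv, hinv] at h2
    have e : F.i₁ d * (F.i₁ d * g * F.i₁ d) * F.i₁ d = g := by
      rw [show F.i₁ d * (F.i₁ d * g * F.i₁ d) * F.i₁ d =
        (F.i₁ d * F.i₁ d) * g * (F.i₁ d * F.i₁ d) by group, ← map_mul, hdd, map_one, one_mul,
        mul_one]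
    rwa [e] at h2
  have hd : ∀ d ∈ ([eD₁, eD₂] : List L35), ∀ p, ∃ q, d * nineL p * d = nineL q := by decide +kernel
  simp only [e36L, map_mul, map_pow]
  exact mul_mem (mul_mem (mul_mem (pow_mem hZ _) (pow_mem hS _))
    (pow_mem (key eD₁ eD₁_sq (hd _ List.mem_cons_self)) _))
    (pow_mem (key eD₂ eD₂_sq (hd _ (List.mem_cons_of_mem _ List.mem_cons_self))) _)

theorem Frame.card_both [Finite G] (F : Frame G) :
    Nat.card ↥(normalizer (F.D : Set G) ⊓
      normalizer ((zpowers (F.i₁ eZ) : Subgroup G) : Set G) : Subgroup G) = 36 := by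
  have hb : Function.Bijective fun x => (⟨F.i₁ (e36L x), F.e36_mem x⟩ :
      ↥(normalizer (F.D : Set G) ⊓
        normalizer ((zpowers (F.i₁ eZ) : Subgroup G) : Set G) : Subgroup G)) := by
    refine ⟨fun p q h => e36L_injective (F.inj (congrArg Subtype.val h)), fun g => ?_⟩
    obtain ⟨x, hx⟩ := F.mem_both g.2.1 g.2.2
    exact ⟨x, Subtype.ext hx.symm⟩
  rw [← Nat.card_eq_of_bijective _ hb]
  simp

/-- The lines normalized by the stabilizer are those of `Z` and `S`. -/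
theorem normal_linesL {l : L35} {x : Fin 3 × Fin 3} (hl : l = nineL x) (h1 : l ≠ 1)
    (h : eD₁ * l * eD₁⁻¹ = l ∨ eD₁ * l * eD₁⁻¹ = l⁻¹) :
    l = eZ ∨ l = eZ⁻¹ ∨ l = eS ∨ l = eS⁻¹ := by
  subst hl
  rw [inv_eq_of_mul_eq_one_right eD₁_sq] at h
  have hn := normal_lines x (fun e => h1 (Subtype.ext ((coe_nineL x).trans e))) ?_
  · rcases hn with e | e | e | e
    · exact Or.inl (Subtype.ext ((coe_nineL x).trans e))
    · exact Or.inr (Or.inl (Subtype.ext ((coe_nineL x).trans e)))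
    · exact Or.inr (Or.inr (Or.inl (Subtype.ext ((coe_nineL x).trans e))))
    · exact Or.inr (Or.inr (Or.inr (Subtype.ext ((coe_nineL x).trans e))))
  · rcases h with h | h <;> [left; right] <;> simpa [← coe_nineL] using congrArg Subtype.val h

/-- The second frame map. -/
structure Frames (G : Type*) [Group G] extends Frame G where
  i₂ : L35 →* G
  inj₂ : Function.Injective i₂
  range₂ : i₂.range = normalizer ((zpowers (i₁ eS) : Subgroup G) : Set G)
  agree_Z : i₂ eZ = i₁ eS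
  agree_S : i₂ eS = i₁ eZ
  agree_D₁ : i₂ eD₁ = i₁ eD₂
  agree_D₂ : i₂ eD₂ = i₁ eD₁
  conj₂ : ∃ h : G, ∀ l, i₂ (twist l) = h * i₁ l * h⁻¹ ∨ i₂ l = h * i₁ l * h⁻¹

theorem normalizer_zpowers_map (g w : G) :
    normalizer ((zpowers (g * w * g⁻¹) : Subgroup G) : Set G) =
      (normalizer ((zpowers w : Subgroup G) : Set G)).map (MulAut.conj g).toMonoidHom := by
  rw [Subgroup.map_normalizer_eq_of_bijective _ (MulAut.conj g).bijective, MonoidHom.map_zpowers]
  rfl

/-- An element carrying the generator of a cyclic group to itself or its inverse normalizes it. -/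
theorem mem_normalizer_zpowers {g w : G} (h : g * w * g⁻¹ = w ∨ g * w * g⁻¹ = w⁻¹) :
    g ∈ normalizer ((zpowers w : Subgroup G) : Set G) := by
  have e : zpowers (g * w * g⁻¹) = zpowers w := by
    rcases h with h | h
    · rw [h]
    · rw [h, zpowers_inv]
  refine mem_normalizer_iff.2 fun x => ?_
  constructor
  · rintro ⟨i, rfl⟩
    rw [← e, ← conj_zpow]
    exact zpow_mem_zpowers _ i
  · intro hx
    rw [← e] at hx
    obtain ⟨i, hi⟩ := hx
    simp only [] at hi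
    rw [conj_zpow, mul_left_inj, mul_right_inj] at hi
    exact ⟨i, hi⟩

/-- An element exchanging the two lines, exactly on the stabilizer. -/
theorem Frame.exists_swap [Finite G] (F : Frame G) :
    ∃ h : G, h * F.i₁ eZ * h⁻¹ = F.i₁ eS ∧ h * F.i₁ eS * h⁻¹ = F.i₁ eZ ∧
      h * F.i₁ eD₁ * h⁻¹ = F.i₁ eD₂ ∧ h * F.i₁ eD₂ * h⁻¹ = F.i₁ eD₁ := by
  set ND := normalizer (F.D : Set G)
  set NZ := normalizer ((zpowers (F.i₁ eZ) : Subgroup G) : Set G)
  obtain ⟨g, hgD, hgZ⟩ : ∃ g ∈ ND, g ∉ NZ := by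
    by_contra h
    push Not at h
    have e : ND ⊓ NZ = ND := inf_eq_left.2 h
    have h36 := F.card_both
    rw [e, F.card_N] at h36
    omega
  have hrel : ((ND ⊓ NZ).subgroupOf ND).index = 2 := by
    have h1 := ((ND ⊓ NZ).subgroupOf ND).card_mul_index
    rw [Nat.card_congr (Subgroup.subgroupOfEquivOfLe inf_le_left).toEquiv, F.card_both,
      F.card_N] at h1
    omega
  haveI : ((ND ⊓ NZ).subgroupOf ND).Normal := Subgroup.normal_of_index_eq_two hrel
  have hconj' : ∀ x, ∃ y, g⁻¹ * F.i₁ (e36L x) * g = F.i₁ (e36L y) := by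
    intro x
    have := (inferInstance : ((ND ⊓ NZ).subgroupOf ND).Normal).conj_mem
      ⟨F.i₁ (e36L x), (F.e36_mem x).1⟩ (mem_subgroupOf.2 (F.e36_mem x))
      ⟨g⁻¹, inv_mem hgD⟩
    have hmem : g⁻¹ * F.i₁ (e36L x) * g⁻¹⁻¹ ∈ ND ⊓ NZ := mem_subgroupOf.1 this
    rw [inv_inv] at hmem
    exact F.mem_both hmem.1 hmem.2
  -- images of the two lines
  have himg : ∀ w : L35, (w = eZ ∨ w = eS) → ∃ v : L35,
      g * F.i₁ w * g⁻¹ = F.i₁ v ∧ (v = eZ ∨ v = eZ⁻¹ ∨ v = eS ∨ v = eS⁻¹) := by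
    intro w hw
    have hwD : F.i₁ w ∈ F.D := by
      rcases hw with rfl | rfl
      · exact (F.memD _).2 ⟨(1, 0), by simp [nineL]⟩
      · exact (F.memD _).2 ⟨(0, 1), by simp [nineL]⟩
    obtain ⟨p, hp⟩ := (F.memD _).1 ((mem_normalizer_iff.1 hgD _).1 hwD)
    refine ⟨nineL p, hp, normal_linesL rfl (fun e => ?_) ?_⟩
    · rw [e, map_one, mul_inv_eq_one, mul_eq_left] at hp
      rcases hw with rfl | rfl
      · exact eZ_ne_one (F.inj (by rw [hp, map_one]))
      · exact eS_ne_one (F.inj (by rw [hp, map_one]))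
    · obtain ⟨y, hy⟩ := hconj' (0, 0, 1, 0)
      rw [show e36L (0, 0, 1, 0) = eD₁ by simp [e36L]] at hy
      have hnorm : e36L y * w * (e36L y)⁻¹ = w ∨ e36L y * w * (e36L y)⁻¹ = w⁻¹ := by
        have hd : ∀ y, ∀ w ∈ ([eZ, eS] : List L35),
            e36L y * w * (e36L y)⁻¹ = w ∨ e36L y * w * (e36L y)⁻¹ = w⁻¹ := by decide +kernel
        exact hd y w (by rcases hw with rfl | rfl <;> simp)
      have e1 : F.i₁ (eD₁ * nineL p * eD₁⁻¹) = g * F.i₁ (e36L y * w * (e36L y)⁻¹) * g⁻¹ := by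
        simp only [map_mul, map_inv, ← hy, ← hp]; group
      rcases hnorm with e | e
      · left; exact F.inj (by rw [e1, e, hp])
      · right; exact F.inj (by rw [e1, e, map_inv, map_inv, ← hp]; group)
  obtain ⟨vZ, hvZ, hvZ'⟩ := himg eZ (Or.inl rfl)
  obtain ⟨vS, hvS, hvS'⟩ := himg eS (Or.inr rfl)
  have hvZS : vZ = eS ∨ vZ = eS⁻¹ := by
    rcases hvZ' with e | e | e | e
    · exact absurd (mem_normalizer_zpowers (Or.inl (by rw [hvZ, e]))) hgZ
    · exact absurd (mem_normalizer_zpowers (Or.inr (by rw [hvZ, e, map_inv]))) hgZ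
    · exact Or.inl e
    · exact Or.inr e
  have hne : ∀ u ∈ ([eS, eS⁻¹] : List L35), u ≠ eZ ∧ u ≠ eZ⁻¹ := by decide +kernel
  have hvSZ : vS = eZ ∨ vS = eZ⁻¹ := by
    rcases hvS' with e | e | e | e
    · exact Or.inl e
    · exact Or.inr e
    all_goals
      exfalso
      have h1 : vS = vZ ∨ vS = vZ⁻¹ := by
        rcases hvZS with f | f <;> rw [e, f] <;> simp
      have h2 : eS = eZ ∨ eS = eZ⁻¹ := by
        rcases h1 with f | f
        · left
          apply F.inj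
          rw [← mul_right_inj g, ← mul_left_inj g⁻¹, hvS, f, hvZ]
        · right
          apply F.inj
          rw [← mul_right_inj g, ← mul_left_inj g⁻¹, hvS, f, map_inv, map_inv, ← hvZ]
          group
      rcases h2 with f | f
      · exact (hne eS (by simp)).1 f
      · exact (hne eS (by simp)).2 f
  have hD₁e : eD₁ = e36L (0, 0, 1, 0) := by simp [e36L]
  have hD₂e : eD₂ = e36L (0, 0, 0, 1) := by simp [e36L]
  have hND : ∀ x, F.i₁ (e36L x) ∈ ND := fun x => (F.e36_mem x).1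
  -- fix the signs
  obtain ⟨h, hhD, hhZ, hhS⟩ : ∃ h ∈ ND, h * F.i₁ eZ * h⁻¹ = F.i₁ eS ∧
      h * F.i₁ eS * h⁻¹ = F.i₁ eZ := by
    have hd : ∀ a : L35, (a = eS ∨ a = eS⁻¹) → ∀ b : L35, (b = eZ ∨ b = eZ⁻¹) →
        ∃ x, e36L x * a * (e36L x)⁻¹ = eS ∧ e36L x * b * (e36L x)⁻¹ = eZ := by
      have h4 : ∀ a ∈ ([eS, eS⁻¹] : List L35), ∀ b ∈ ([eZ, eZ⁻¹] : List L35),
          ∃ x, e36L x * a * (e36L x)⁻¹ = eS ∧ e36L x * b * (e36L x)⁻¹ = eZ := by decide +kernel
      intro a ha b hb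
      exact h4 a (by simpa using ha) b (by simpa using hb)
    obtain ⟨x, hx1, hx2⟩ := hd vZ hvZS vS hvSZ
    refine ⟨F.i₁ (e36L x) * g, mul_mem (hND x) hgD, ?_, ?_⟩
    · rw [← hx1, map_mul, map_mul, map_inv, ← hvZ]; group
    · rw [← hx2, map_mul, map_mul, map_inv, ← hvS]; group
  have hconj : ∀ x, ∃ y, h * F.i₁ (e36L x) * h⁻¹ = F.i₁ (e36L y) := by
    intro x
    have := (inferInstance : ((ND ⊓ NZ).subgroupOf ND).Normal).conj_mem
      ⟨F.i₁ (e36L x), (F.e36_mem x).1⟩ (mem_subgroupOf.2 (F.e36_mem x)) ⟨h, hhD⟩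
    have hmem : h * F.i₁ (e36L x) * h⁻¹ ∈ ND ⊓ NZ := mem_subgroupOf.1 this
    exact F.mem_both hmem.1 hmem.2
  obtain ⟨y₁, hy₁⟩ := hconj (0, 0, 1, 0)
  obtain ⟨y₂, hy₂⟩ := hconj (0, 0, 0, 1)
  rw [← hD₁e] at hy₁
  rw [← hD₂e] at hy₂
  have hmap : ∀ {a b c a' b' c' : L35}, a * b * a = c → h * F.i₁ a * h⁻¹ = F.i₁ a' →
      h * F.i₁ b * h⁻¹ = F.i₁ b' → h * F.i₁ c * h⁻¹ = F.i₁ c' → a' * b' * a' = c' := by
    intro a b c a' b' c' e ha hb hc
    apply F.inj
    rw [map_mul, map_mul, ← ha, ← hb, ← hc, ← e, map_mul, map_mul]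
    group
  have hpow : ∀ {b b' : L35}, h * F.i₁ b * h⁻¹ = F.i₁ b' →
      h * F.i₁ (b ^ 2) * h⁻¹ = F.i₁ (b' ^ 2) := by
    intro b b' hb
    rw [map_pow, map_pow, ← hb, conj_pow]
  have hone : h * F.i₁ 1 * h⁻¹ = F.i₁ 1 := by simp
  have hconjS : eD₁ * eS * eD₁ = eS := by rw [eD₁_eS, mul_assoc, eD₁_sq, mul_one]
  have hconjZ : eD₂ * eZ * eD₂ = eZ := by rw [eD₂_eZ, mul_assoc, eD₂_sq, mul_one]
  have hsq₁ : e36L y₁ * e36L y₁ = 1 := by
    simpa using hmap (show eD₁ * 1 * eD₁ = 1 by rw [mul_one, eD₁_sq]) hy₁ hone hone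
  have hsq₂ : e36L y₂ * e36L y₂ = 1 := by
    simpa using hmap (show eD₂ * 1 * eD₂ = 1 by rw [mul_one, eD₂_sq]) hy₂ hone hone
  have h₁Z : e36L y₁ * eZ * e36L y₁ = eZ := hmap hconjS hy₁ hhS hhS
  have h₁S : e36L y₁ * eS * e36L y₁ = eS ^ 2 := hmap eD₁_eZ hy₁ hhZ (hpow hhZ)
  have h₂S : e36L y₂ * eS * e36L y₂ = eS := hmap hconjZ hy₂ hhZ hhZ
  have h₂Z : e36L y₂ * eZ * e36L y₂ = eZ ^ 2 := hmap eD₂_eS hy₂ hhS (hpow hhS)
  have hcm : ∀ {e w : L35}, e * e = 1 → e * w * e = w → (e : P35) * w = w * e := by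
    intro e w he hw
    have : e * w = w * e := by
      calc e * w = e * w * (e * e) := by rw [he, mul_one]
        _ = (e * w * e) * e := by group
        _ = w * e := by rw [hw]
    simpa using congrArg Subtype.val this
  obtain ⟨k, hk⟩ := (invol_e36 y₁ (by simpa [← coe_e36L] using congrArg Subtype.val hsq₁)).1
    (by rw [← coe_e36L]; exact hcm hsq₁ h₁Z)
    (by simpa [← coe_e36L] using congrArg Subtype.val h₁S)
  obtain ⟨j, hj⟩ := (invol_e36 y₂ (by simpa [← coe_e36L] using congrArg Subtype.val hsq₂)).2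
    (by rw [← coe_e36L]; exact hcm hsq₂ h₂S)
    (by simpa [← coe_e36L] using congrArg Subtype.val h₂Z)
  have hk' : eS ^ k.val * e36L y₁ * (eS ^ k.val)⁻¹ = eD₂ := Subtype.ext (by simpa [coe_e36L] using hk)
  have hj' : eZ ^ j.val * e36L y₂ * (eZ ^ j.val)⁻¹ = eD₁ := Subtype.ext (by simpa [coe_e36L] using hj)
  have c1 : Commute (eZ ^ j.val) (e36L y₁) := by
    refine Commute.pow_left (Subtype.ext ?_) _
    simpa using (hcm hsq₁ h₁Z).symm
  have c2 : Commute (eS ^ k.val) eD₁ := (Commute.pow_left (eD₁_eS).symm _)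
  have c3 : Commute (eS ^ k.val * eZ ^ j.val) eS :=
    Commute.mul_left ((Commute.refl _).pow_left _) ((show Commute eZ eS from eZ_eS).pow_left _)
  have c4 : Commute (eS ^ k.val * eZ ^ j.val) eZ :=
    Commute.mul_left ((show Commute eS eZ from eZ_eS.symm).pow_left _) ((Commute.refl _).pow_left _)
  have hfin : ∀ {a a' b : L35}, h * F.i₁ a * h⁻¹ = F.i₁ a' →
      eS ^ k.val * eZ ^ j.val * a' * (eS ^ k.val * eZ ^ j.val)⁻¹ = b →
      F.i₁ (eS ^ k.val * eZ ^ j.val) * h * F.i₁ a * (F.i₁ (eS ^ k.val * eZ ^ j.val) * h)⁻¹ =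
        F.i₁ b := by
    intro a a' b ha hb
    rw [← hb, map_mul _ (_ * a'), map_mul _ _ a', map_inv, ← ha]
    group
  refine ⟨F.i₁ (eS ^ k.val * eZ ^ j.val) * h, hfin hhZ ?_, hfin hhS ?_, hfin hy₁ ?_, hfin hy₂ ?_⟩
  · rw [c3.eq, mul_inv_cancel_right]
  · rw [c4.eq, mul_inv_cancel_right]
  · rw [mul_assoc (eS ^ k.val), c1.eq, mul_inv_rev]
    simpa [mul_assoc] using hk'
  · rw [mul_inv_rev, show eS ^ k.val * eZ ^ j.val * e36L y₂ * ((eZ ^ j.val)⁻¹ * (eS ^ k.val)⁻¹) =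
      eS ^ k.val * (eZ ^ j.val * e36L y₂ * (eZ ^ j.val)⁻¹) * (eS ^ k.val)⁻¹ by group, hj', c2.eq,
      mul_inv_cancel_right]

/-- Both choices of the second frame map. -/
theorem Frame.exists_frames [Finite G] (F : Frame G) :
    ∃ E E' : Frames G, E.toFrame = F ∧ E'.toFrame = F ∧ ∀ l, E'.i₂ l = E.i₂ (twist l) := by
  obtain ⟨h, h1, h2, h3, h4⟩ := F.exists_swap
  let i₂ : L35 →* G := (MulAut.conj h).toMonoidHom.comp F.i₁
  have hi : ∀ l, i₂ l = h * F.i₁ l * h⁻¹ := fun l => rfl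
  have hinj : Function.Injective i₂ := (MulAut.conj h).injective.comp F.inj
  have hrange : i₂.range = normalizer ((zpowers (F.i₁ eS) : Subgroup G) : Set G) := by
    rw [← h1, normalizer_zpowers_map, ← F.range_eq]
    exact MonoidHom.range_comp _ _
  obtain ⟨t1, t2, t3, t4⟩ := twist_fix
  refine ⟨⟨F, i₂, hinj, hrange, h1, h2, h3, h4, h, fun l => Or.inr (hi l)⟩,
    ⟨F, i₂.comp twist, hinj.comp fun a b e => by rw [← twist_twist a, e, twist_twist], ?_,
      ?_, ?_, ?_, ?_, h, fun l => Or.inl ?_⟩, rfl, rfl, fun l => rfl⟩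
  · rw [← hrange]
    refine le_antisymm (by rintro _ ⟨l, rfl⟩; exact ⟨twist l, rfl⟩) ?_
    rintro _ ⟨l, rfl⟩
    exact ⟨twist l, by simp [twist_twist]⟩
  · simpa [t1, hi] using h1
  · simpa [t2, hi] using h2
  · simpa [t3, hi] using h3
  · simpa [t4, hi] using h4
  · simp [twist_twist, hi]

end CfsgLib.ThreeEight
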