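import Cfsg.Agent.Lib.Recognition.ThreeEight.Four
import Cfsg.Agent.S3335

/-!
The alternating group of degree eight inside the group: the two frame maps glue along
Carmichael's generators.
-/

set_option autoImplicit false
set_option linter.style.haveILetI false
set_option maxRecDepth 10000
set_option synthInstance.maxSize 2000
set_option synthInstance.maxHeartbeats 400000

namespace CfsgLib.ThreeEight

open Subgroup Equiv

/-- `(0 1)(2 3)` seen from the second line: `(5 6)(3 7)`. -/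
def eX₁ : L35 := mkL (1, swap 2 3 * swap 4 0) (by decide)
/-- `(0 1)(5 6)`. -/
def e₄ : L35 := mkL (swap 0 1, swap 2 3) (by decide)
/-- `(0 1)(6 7)`. -/
def e₅ : L35 := mkL (swap 0 1, swap 3 4) (by decide)
/-- `(1 2)(5 6)`. -/
def e₅' : L35 := mkL (swap 1 2, swap 2 3) (by decide)

theorem twist_eX₁ : (twist eX₁ : P35) = (1, swap 2 3 * swap 4 1) := by decide +kernel

variable {G : Type*} [Group G]

/-- The pair of frame maps can be chosen with `eX₁` going into the centralizer of `V`. -/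
theorem Frame.exists_frames_choice [Finite G] (F : Frame G) :
    ∃ E : Frames G, E.toFrame = F ∧ E.i₂ eX₁ ∈ E.CV := by
  obtain ⟨E, E', rfl, hE', htw⟩ := F.exists_frames
  haveI : Fact (Nat.Prime 3) := ⟨Nat.prime_three⟩
  obtain ⟨x, hx, hxS, hx2, hx1⟩ := E.exists_involution_CV
  obtain ⟨R, hRle, hR3, hin, hchar, -⟩ := E.exists_complement
  obtain ⟨l, rfl, hl⟩ := E.exists_of_commute_S hxS
  have hl2 : l * l = 1 := E.inj₂ (by rw [map_mul, hx2, map_one])
  have hl1 : (l : P35) ≠ 1 := fun e => hx1 (by rw [show l = 1 from Subtype.ext e, map_one])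
  set z := E.i₁ eZ
  have hzC : ∀ g ∈ zpowers z, ∀ y ∈ E.CV, g * y * g⁻¹ ∈ E.CV := fun g hg y hy => by
    have := zpowers_le.2 (Frames.Z_mem_CV (E := E)) hg
    exact mul_mem (mul_mem this hy) (inv_mem this)
  have hlR : E.i₂ l ∈ R := by
    refine hin _ hx fun h => ?_
    have := h.trans (orderOf_dvd_of_pow_eq_one (show E.i₂ l ^ 2 = 1 by rw [pow_two, hx2]))
    norm_num at this
  have ha : E.i₂ (eS * l * eS⁻¹) ∈ R := by
    rw [map_mul, map_mul, map_inv, E.agree_S]
    exact hchar _ (hzC _ (mem_zpowers _)) _ hlR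
  have hb : E.i₂ (eS⁻¹ * l * eS) ∈ R := by
    rw [map_mul, map_mul, map_inv, E.agree_S]
    simpa using hchar _ (hzC z⁻¹ (inv_mem (mem_zpowers _))) _ hlR
  have hR : ∀ m : L35, E.i₂ m ∈ R → (m : P35) ^ 3 = 1 → (m : P35) = 1 := by
    intro m hm h3
    by_contra h1
    apply hR3
    have ho : orderOf (E.i₂ m) = 3 := by
      rw [orderOf_injective E.i₂ E.inj₂]
      exact orderOf_eq_prime (Subtype.ext (by simpa using h3)) fun e => h1 (by rw [e]; rfl)
    exact ho ▸ R.orderOf_dvd_natCard hm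
  have hmul : ∀ {p q : L35}, E.i₂ p ∈ R → E.i₂ q ∈ R → E.i₂ (p * q) ∈ R := fun hp hq => by
    rw [map_mul]; exact mul_mem hp hq
  obtain ⟨k, hk⟩ := vee_choice l l.2 (by simpa using congrArg Subtype.val hl2) hl1 hl (by
    intro m hm
    simp only [List.mem_cons, List.not_mem_nil, or_false] at hm
    rcases hm with rfl | rfl | rfl | rfl | rfl | rfl
    · exact hR (l * (eS * l * eS⁻¹)) (hmul hlR ha)
    · exact hR (l * (eS * l * eS⁻¹) * l) (hmul (hmul hlR ha) hlR)
    · exact hR ((eS * l * eS⁻¹) * l) (hmul ha hlR)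
    · exact hR (l * (eS * l * eS⁻¹) * (eS⁻¹ * l * eS)) (hmul (hmul hlR ha) hb)
    · exact hR (l * (eS⁻¹ * l * eS) * (eS * l * eS⁻¹)) (hmul (hmul hlR hb) ha)
    · exact hR ((l * (eS * l * eS⁻¹)) * (l * (eS⁻¹ * l * eS)))
        (hmul (hmul hlR ha) (hmul hlR hb)))
  have hc : E.i₂ (eS ^ k.val * l * (eS ^ k.val)⁻¹) ∈ E.CV := by
    rw [map_mul, map_mul, map_inv, map_pow, E.agree_S]
    exact hzC _ (pow_mem (mem_zpowers _) _) _ hx
  rcases hk with e | e
  · refine ⟨E, rfl, ?_⟩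
    rwa [show eS ^ k.val * l * (eS ^ k.val)⁻¹ = eX₁ from Subtype.ext e] at hc
  · refine ⟨E', hE', ?_⟩
    rw [show eS ^ k.val * l * (eS ^ k.val)⁻¹ = twist eX₁ from
      Subtype.ext (e.trans twist_eX₁.symm)] at hc
    rw [htw]
    unfold Frames.CV at hc ⊢
    rwa [hE']

/-- The symmetric group on eight points, and the embedding of the model. -/
def j₀ : P35 →* Perm (Fin 8) where
  toFun x := finSumFinEquiv.permCongr (Equiv.sumCongr x.1 x.2)
  map_one' := by
    refine Equiv.ext fun i => ?_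
    simp
  map_mul' x y := by
    refine Equiv.ext fun i => ?_
    simp [Equiv.permCongr_apply]

theorem sign_j₀ (x : P35) : Perm.sign (j₀ x) = Perm.sign x.1 * Perm.sign x.2 := by
  show Perm.sign (finSumFinEquiv.permCongr (Equiv.sumCongr x.1 x.2)) = _
  rw [Perm.sign_permCongr, Perm.sign_sumCongr]

/-- The stabilizer of `{0, 1, 2}`. -/
def j₁ : L35 →* alternatingGroup (Fin 8) :=
  (j₀.comp L35.subtype).codRestrict _ fun l =>
    Perm.mem_alternatingGroup.2 ((sign_j₀ _).trans (mem_L35.1 l.2))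

/-- `(0 5)(1 6)(2 7)`. -/
def σ8 : Perm (Fin 8) := swap 0 5 * swap 1 6 * swap 2 7

/-- The stabilizer of `{5, 6, 7}`. -/
def j₂ : L35 →* alternatingGroup (Fin 8) :=
  ((MulAut.conj σ8).toMonoidHom.comp (j₀.comp L35.subtype)).codRestrict _ fun l =>
    Perm.mem_alternatingGroup.2 (by
      show Perm.sign (σ8 * j₀ _ * σ8⁻¹) = 1
      rw [map_mul, map_mul, map_inv, mul_inv_cancel_comm]
      exact (sign_j₀ _).trans (mem_L35.1 l.2))

theorem coe_j₁ (l : L35) : (j₁ l : Perm (Fin 8)) = j₀ l := rfl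
theorem coe_j₂ (l : L35) : (j₂ l : Perm (Fin 8)) = σ8 * j₀ l * σ8⁻¹ := rfl

/-- The preimages of Carmichael's generators in the first stabilizer. -/
def pre₁ : ℕ → L35
  | 0 => eZ
  | 2 => eD₁
  | 3 => eC
  | 4 => e₄
  | 5 => e₅
  | _ => 1

/-- The preimages of Carmichael's generators in the second stabilizer. -/
def pre₂ : ℕ → L35
  | 0 => eS
  | 1 => eX₁
  | 2 => eD₂
  | 4 => e₄
  | 5 => e₅'
  | _ => 1

theorem gen_pre :
    (∀ i ∈ [0, 2, 3, 4, 5], (j₁ (pre₁ i) : Perm (Fin 8)) = Cfsg.Agent.S3335.gen 6 i) ∧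
    (∀ i ∈ [0, 1, 2, 4, 5], (j₂ (pre₂ i) : Perm (Fin 8)) = Cfsg.Agent.S3335.gen 6 i) := by
  decide +kernel

theorem rels_pre :
    (∀ k ∈ [2, 3, 4, 5], (pre₁ k : P35) ^ 2 = 1) ∧ (eX₁ : P35) ^ 2 = 1 ∧
    (∀ k ∈ [2, 3, 4], ((pre₁ k : P35) * pre₁ (k + 1)) ^ 3 = 1) ∧
    ((eS : P35) * eX₁) ^ 3 = 1 ∧ ((eX₁ : P35) * eD₂) ^ 3 = 1 ∧
    (∀ k ∈ [2, 3, 4, 5], ((eZ : P35) * pre₁ k) ^ 2 = 1) ∧
    ((eX₁ : P35) * e₄) ^ 2 = 1 ∧ ((eX₁ : P35) * e₅') ^ 2 = 1 ∧
    ((eD₁ : P35) * e₄) ^ 2 = 1 ∧ ((eD₁ : P35) * e₅) ^ 2 = 1 ∧ ((eC : P35) * e₅) ^ 2 = 1 ∧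
    (eC : P35) = eT * e₅ := by
  decide +kernel

/-- A subgroup of the model over the four adjacent transpositions containing `Z` is everything. -/
theorem eq_top_of_lifts (H : Subgroup L35) (hZ : eZ ∈ H)
    (h : ∀ k : Fin 4, ∃ m ∈ H, (m : P35).2 = swap k.castSucc k.succ) : H = ⊤ := by
  let π : L35 →* Perm (Fin 5) := (MonoidHom.snd _ _).comp L35.subtype
  have hπ : H.map π = ⊤ := by
    rw [eq_top_iff]
    intro b _
    have hb : b ∈ Submonoid.closure (Set.range fun i : Fin 4 ↦ swap i.castSucc i.succ) := by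
      rw [Perm.mclosure_swap_castSucc_succ 4]; trivial
    refine (Submonoid.closure_le (S := (H.map π).toSubmonoid)).2 ?_ hb
    rintro _ ⟨k, rfl⟩
    obtain ⟨m, hm, e⟩ := h k
    exact ⟨m, hm, e⟩
  rw [eq_top_iff]
  intro l _
  obtain ⟨m, hm, e⟩ : π l ∈ H.map π := by rw [hπ]; trivial
  have hs : Perm.sign ((l * m⁻¹ : L35) : P35).1 = 1 := by
    have hl := mem_L35.1 (l * m⁻¹).2
    have h2 : ((l * m⁻¹ : L35) : P35).2 = 1 := by
      show (l : P35).2 * (m : P35).2⁻¹ = 1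
      exact mul_inv_eq_one.2 e.symm
    rwa [h2, map_one, mul_one] at hl
  have h3 : ∀ a : Perm (Fin 3), Perm.sign a = 1 → ∃ k : Fin 3, a = (eZ : P35).1 ^ k.val := by
    decide +kernel
  obtain ⟨k, hk⟩ := h3 _ hs
  have : l * m⁻¹ = eZ ^ k.val := by
    refine Subtype.ext (Prod.ext (by simpa using hk) ?_)
    have h2 : ((l * m⁻¹ : L35) : P35).2 = 1 := by
      show (l : P35).2 * (m : P35).2⁻¹ = 1
      exact mul_inv_eq_one.2 e.symm
    simpa [eZ, mkL] using h2
  rw [show l = eZ ^ k.val * m by rw [← this, inv_mul_cancel_right]]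
  exact mul_mem (pow_mem hZ _) hm

theorem gens₁_top : closure {eZ, eD₁, eC, e₄, e₅} = (⊤ : Subgroup L35) := by
  refine eq_top_of_lifts _ (subset_closure (by simp)) ?_
  intro k
  fin_cases k
  · exact ⟨eD₁, subset_closure (by simp), by decide +kernel⟩
  · exact ⟨eC, subset_closure (by simp), by decide +kernel⟩
  · exact ⟨e₄, subset_closure (by simp), by decide +kernel⟩
  · exact ⟨e₅, subset_closure (by simp), by decide +kernel⟩

theorem gens₂_top : closure {eS, eX₁, eD₂, e₄, e₅'} = (⊤ : Subgroup L35) := by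
  set H := closure {eS, eX₁, eD₂, e₄, e₅'}
  have hS : eS ∈ H := subset_closure (by simp)
  have h4 : e₄ ∈ H := subset_closure (by simp)
  have h5 : e₅' ∈ H := subset_closure (by simp)
  have h34 : eS * e₄ * eS⁻¹ ∈ H := mul_mem (mul_mem hS h4) (inv_mem hS)
  have h40 : eX₁ * e₄ ∈ H := mul_mem (subset_closure (by simp)) h4
  have h01 : eD₂ * e₄ ∈ H := mul_mem (subset_closure (by simp)) h4
  have h24 : e₄ * (eS * e₄ * eS⁻¹) * e₄ ∈ H := mul_mem (mul_mem h4 h34) h4
  have h02 : (eX₁ * e₄) * (e₄ * (eS * e₄ * eS⁻¹) * e₄) * (eX₁ * e₄) ∈ H :=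
    mul_mem (mul_mem h40 h24) h40
  refine eq_top_of_lifts _ ?_ ?_
  · rw [show eZ = e₄ * e₅' by decide +kernel]
    exact mul_mem h4 h5
  intro k
  fin_cases k
  · exact ⟨_, h01, by decide +kernel⟩
  · exact ⟨_, mul_mem (mul_mem h01 h02) h01, by decide +kernel⟩
  · exact ⟨_, h4, by decide +kernel⟩
  · exact ⟨_, h34, by decide +kernel⟩

namespace Frames

variable (E : Frames G)

theorem i₂_nine_pow (a b : ℕ) (p q : ℕ) :
    E.i₂ (eZ ^ a * eS ^ b * eD₁ ^ p * eD₂ ^ q) = E.i₁ (eZ ^ b * eS ^ a * eD₁ ^ q * eD₂ ^ p) := by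
  have h1 : Commute (eZ ^ b) (eS ^ a) := (show Commute eZ eS from eZ_eS).pow_pow _ _
  have h2 : Commute eD₁ eD₂ := Subtype.ext (by simpa using rels_base.2.2.2.2.2.2.2.2.2)
  rw [h1.eq, mul_assoc _ (eD₁ ^ q), (h2.pow_pow q p).eq]
  simp only [map_mul, map_pow, E.agree_Z, E.agree_S, E.agree_D₁, E.agree_D₂, mul_assoc]

/-- The frame maps glue to an embedding of the alternating group of degree eight. -/
theorem exists_hom [Finite G] (hE : E.i₂ eX₁ ∈ E.CV) :
    ∃ f : alternatingGroup (Fin 8) →* G, Function.Injective f ∧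
      (∀ l, f (j₁ l) = E.i₁ l) ∧ ∀ l, f (j₂ l) = E.i₂ l := by
  classical
  obtain ⟨r1, r2, r3, r4, r5, r6, r7, r8, r9, r10, r11, r12⟩ := rels_pre
  -- the images of the generators
  let y : ℕ → G := fun i => if i = 1 then E.i₂ eX₁ else E.i₁ (pre₁ i)
  have hy₂ : ∀ i ∈ [0, 1, 2, 4, 5], y i = E.i₂ (pre₂ i) := by
    have h4 : ∃ p q : Fin 2, e₄ = e36L (0, 0, p, q) ∧ e₄ = e36L (0, 0, q, p) := by decide +kernel
    have h5 : ∃ a b p q, e₅ = e36L (a, b, p, q) ∧ e₅' = e36L (b, a, q, p) := by decide +kernel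
    obtain ⟨p, q, e1, e2⟩ := h4
    obtain ⟨a, b, p', q', e3, e4⟩ := h5
    intro i hi
    simp only [List.mem_cons, List.not_mem_nil, or_false] at hi
    rcases hi with rfl | rfl | rfl | rfl | rfl
    · exact E.agree_S.symm
    · rfl
    · exact E.agree_D₂.symm
    · show E.i₁ e₄ = E.i₂ e₄
      conv_lhs => rw [e1]
      rw [e2]
      exact (E.i₂_nine_pow 0 0 q.val p.val).symm
    · show E.i₁ e₅ = E.i₂ e₅'
      rw [e3, e4]
      exact (E.i₂_nine_pow b.val a.val q'.val p'.val).symm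
  have hy₁ : ∀ i, i ≠ 1 → y i = E.i₁ (pre₁ i) := fun i hi => if_neg hi
  have hp₁ : ∀ {w : L35} {n : ℕ}, (w : P35) ^ n = 1 → E.i₁ w ^ n = 1 := fun {w n} h => by
    rw [← map_pow, show w ^ n = 1 from Subtype.ext (by simpa using h), map_one]
  have hp₂ : ∀ {w : L35} {n : ℕ}, (w : P35) ^ n = 1 → E.i₂ w ^ n = 1 := fun {w n} h => by
    rw [← map_pow, show w ^ n = 1 from Subtype.ext (by simpa using h), map_one]
  have hm₁ : ∀ {i j n : ℕ}, i ≠ 1 → j ≠ 1 → ((pre₁ i : P35) * pre₁ j) ^ n = 1 →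
      (y i * y j) ^ n = 1 := fun {i j n} hi hj h => by
    rw [hy₁ _ hi, hy₁ _ hj, ← map_mul]; exact hp₁ h
  have hm₂ : ∀ {i j n : ℕ}, i ∈ [0, 1, 2, 4, 5] → j ∈ [0, 1, 2, 4, 5] →
      ((pre₂ i : P35) * pre₂ j) ^ n = 1 → (y i * y j) ^ n = 1 := fun {i j n} hi hj h => by
    rw [hy₂ _ hi, hy₂ _ hj, ← map_mul]; exact hp₂ h
  have hX : y 1 ^ 2 = 1 := hp₂ r2
  -- the only pair outside both stabilizers
  have h13 : (y 1 * y 3) ^ 2 = 1 := by
    have h5 : y 5 ^ 2 = 1 := by rw [hy₁ 5 (by norm_num)]; exact hp₁ (r1 5 (by simp))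
    have h15 : (y 1 * y 5) ^ 2 = 1 := hm₂ (by simp) (by simp) r8
    have c5 : Commute (y 1) (y 5) := by
      rw [pow_two] at hX h5 h15
      calc y 1 * y 5 = (y 1 * y 5)⁻¹ := eq_inv_of_mul_eq_one_left h15
        _ = y 5 * y 1 := by
          rw [mul_inv_rev, inv_eq_of_mul_eq_one_right h5, inv_eq_of_mul_eq_one_right hX]
    have cT : Commute (y 1) (E.i₁ eT) := (mem_CV.1 hE).1
    have e3 : y 3 = E.i₁ eT * y 5 := by
      rw [hy₁ 3 (by norm_num), hy₁ 5 (by norm_num), ← map_mul]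
      exact congrArg E.i₁ (Subtype.ext r12)
    have h3 : y 3 ^ 2 = 1 := by rw [hy₁ 3 (by norm_num)]; exact hp₁ (r1 3 (by simp))
    have c3 : Commute (y 1) (y 3) := e3 ▸ cT.mul_right c5
    rw [c3.mul_pow, hX, h3, one_mul]
  have hR : CfsgLib.Carmichael.Rels y 6 := by
    refine ⟨fun _ => ?_, fun i h1 h6 => ?_, fun i h6 => ?_, fun i j hij h6 => ?_⟩
    · rw [hy₁ 0 (by norm_num)]; exact hp₁ rels_base.1
    · interval_cases i
      · exact hX
      all_goals (rw [hy₁ _ (by norm_num)]; exact hp₁ (r1 _ (by simp)))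
    · have : i ≤ 4 := by omega
      interval_cases i
      · exact hm₂ (by simp) (by simp) r4
      · exact hm₂ (by simp) (by simp) r5
      all_goals exact hm₁ (by norm_num) (by norm_num) (r3 _ (by simp))
    · have : i ≤ 3 := by omega
      interval_cases i <;> interval_cases j
      · exact hm₁ (by norm_num) (by norm_num) (r6 _ (by simp))
      · exact hm₁ (by norm_num) (by norm_num) (r6 _ (by simp))
      · exact hm₁ (by norm_num) (by norm_num) (r6 _ (by simp))
      · exact hm₁ (by norm_num) (by norm_num) (r6 _ (by simp))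
      · exact h13
      · exact hm₂ (by simp) (by simp) r7
      · exact hm₂ (by simp) (by simp) r8
      · exact hm₁ (by norm_num) (by norm_num) r9
      · exact hm₁ (by norm_num) (by norm_num) r10
      · exact hm₁ (by norm_num) (by norm_num) r11
  -- the graph of the map
  let a : ℕ → alternatingGroup (Fin 8) := fun i =>
    if h : i < 6 then ⟨Cfsg.Agent.S3335.gen 6 i,
      Perm.mem_alternatingGroup.2 (Cfsg.Agent.S3335.sign_gen h)⟩ else 1
  have ha : ∀ i, i < 6 → (a i : Perm (Fin 8)) = Cfsg.Agent.S3335.gen 6 i := fun i h => by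
    simp [a, h]
  have hg := Cfsg.Agent.S3335.rels_gen 6
  let x : ℕ → alternatingGroup (Fin 8) × G := fun i => (a i, y i)
  let Γ : Subgroup (alternatingGroup (Fin 8) × G) := closure (x '' {i | i < 6})
  let xΓ : ℕ → Γ := fun i => if h : i < 6 then ⟨x i, subset_closure ⟨i, h, rfl⟩⟩ else 1
  have hxΓ : ∀ i, i < 6 → (xΓ i : alternatingGroup (Fin 8) × G) = (a i, y i) := fun i h => by
    simp [xΓ, h, x]
  have hRΓ : CfsgLib.Carmichael.Rels xΓ 6 := by
    refine ⟨fun h => ?_, fun i h1 h6 => ?_, fun i h6 => ?_, fun i j hij h6 => ?_⟩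
    · refine Subtype.ext (Prod.ext (Subtype.ext ?_) ?_)
      · simpa [hxΓ 0 h, ha 0 h] using hg.cube h
      · simpa [hxΓ 0 h] using hR.cube h
    · refine Subtype.ext (Prod.ext (Subtype.ext ?_) ?_)
      · simpa [hxΓ i h6, ha i h6] using hg.sq i h1 h6
      · simpa [hxΓ i h6] using hR.sq i h1 h6
    · refine Subtype.ext (Prod.ext (Subtype.ext ?_) ?_)
      · simpa [hxΓ i (by omega), hxΓ (i + 1) h6, ha i (by omega), ha (i + 1) h6] using hg.adj i h6
      · simpa [hxΓ i (by omega), hxΓ (i + 1) h6] using hR.adj i h6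
    · refine Subtype.ext (Prod.ext (Subtype.ext ?_) ?_)
      · simpa [hxΓ i (by omega), hxΓ j h6, ha i (by omega), ha j h6] using hg.far i j hij h6
      · simpa [hxΓ i (by omega), hxΓ j h6] using hR.far i j hij h6
  have hgenΓ : closure (xΓ '' {i | i < 6}) = ⊤ := by
    apply map_injective Γ.subtype_injective
    rw [MonoidHom.map_closure, ← MonoidHom.range_eq_map, range_subtype, ← Set.image_comp]
    show _ = Subgroup.closure _
    refine congrArg Subgroup.closure (Set.image_congr fun i hi => ?_)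
    exact hxΓ i hi
  obtain ⟨hfin, hcard⟩ := CfsgLib.Carmichael.finite_card_le 6 Γ xΓ hRΓ hgenΓ
  let π : Γ →* alternatingGroup (Fin 8) := (MonoidHom.fst _ _).comp Γ.subtype
  have hπ : Function.Surjective π := by
    intro p
    have hle : closure (Cfsg.Agent.S3335.gen 6 '' {i | i < 6}) ≤
        π.range.map (alternatingGroup (Fin 8)).subtype := by
      rw [closure_le]
      rintro _ ⟨i, hi, rfl⟩
      exact ⟨a i, ⟨xΓ i, congrArg Prod.fst (hxΓ i hi)⟩, ha i hi⟩
    obtain ⟨z, ⟨w, rfl⟩, hz⟩ := hle (Cfsg.Agent.S3335.gen_generates 6 p.2)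
    exact ⟨w, Subtype.ext hz⟩
  have hbij : Function.Bijective π := by
    refine (Nat.bijective_iff_surjective_and_card _).2 ⟨hπ,
      le_antisymm ?_ (Nat.card_le_card_of_surjective π hπ)⟩
    have h2 := two_mul_nat_card_alternatingGroup (α := Fin 8)
    rw [Nat.card_perm, Nat.card_fin] at h2
    have h8 : (6 + 2).factorial = Nat.factorial 8 := rfl
    rw [h8] at hcard
    omega
  let e := MulEquiv.ofBijective π hbij
  let f : alternatingGroup (Fin 8) →* G :=
    ((MonoidHom.snd _ _).comp Γ.subtype).comp e.symm.toMonoidHom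
  have hf : ∀ i, i < 6 → f (a i) = y i := by
    intro i hi
    have : e.symm (a i) = xΓ i := by
      rw [MulEquiv.symm_apply_eq]
      exact (congrArg Prod.fst (hxΓ i hi)).symm
    show ((e.symm (a i) : Γ) : alternatingGroup (Fin 8) × G).2 = y i
    rw [this, hxΓ i hi]
  have h₁ : f.comp j₁ = E.i₁ := by
    refine MonoidHom.eq_of_eqOn_dense gens₁_top ?_
    have key : ∀ i, i ∈ [0, 2, 3, 4, 5] → f (j₁ (pre₁ i)) = E.i₁ (pre₁ i) := by
      intro i hi
      have h6 : i < 6 ∧ i ≠ 1 := by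
        simp only [List.mem_cons, List.not_mem_nil, or_false] at hi; omega
      rw [show j₁ (pre₁ i) = a i from Subtype.ext ((gen_pre.1 i hi).trans (ha i h6.1).symm),
        hf i h6.1, hy₁ i h6.2]
    rintro w (rfl | rfl | rfl | rfl | rfl)
    exacts [key 0 (by simp), key 2 (by simp), key 3 (by simp), key 4 (by simp), key 5 (by simp)]
  have h₂ : f.comp j₂ = E.i₂ := by
    refine MonoidHom.eq_of_eqOn_dense gens₂_top ?_
    have key : ∀ i, i ∈ [0, 1, 2, 4, 5] → f (j₂ (pre₂ i)) = E.i₂ (pre₂ i) := by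
      intro i hi
      have h6 : i < 6 := by simp only [List.mem_cons, List.not_mem_nil, or_false] at hi; omega
      rw [show j₂ (pre₂ i) = a i from Subtype.ext ((gen_pre.2 i hi).trans (ha i h6).symm),
        hf i h6, hy₂ i hi]
    rintro w (rfl | rfl | rfl | rfl | rfl)
    exacts [key 0 (by simp), key 1 (by simp), key 2 (by simp), key 4 (by simp), key 5 (by simp)]
  refine ⟨f, ?_, DFunLike.congr_fun h₁, DFunLike.congr_fun h₂⟩
  haveI : IsSimpleGroup (alternatingGroup (Fin 8)) := alternatingGroup.isSimpleGroup (by simp)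
  rcases IsSimpleGroup.eq_bot_or_eq_top_of_normal f.ker inferInstance with h | h
  · exact (MonoidHom.ker_eq_bot_iff f).1 h
  · exfalso
    have : f (j₁ eZ) = 1 := by rw [← MonoidHom.mem_ker, h]; trivial
    rw [show f (j₁ eZ) = E.i₁ eZ from DFunLike.congr_fun h₁ eZ] at this
    exact eZ_ne_one (E.inj (this.trans (map_one _).symm))

end Frames

end CfsgLib.ThreeEight
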