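import Mathlib

/-!
The 3-local model: the subgroup of index two of `S₃ × S₅` with agreeing signs, its embedding in
`A₈` as the stabilizer of `{0, 1, 2}`, and the finite facts used in the recognition of `A₈` from
its 3-local data.
-/

set_option autoImplicit false
set_option maxRecDepth 10000
set_option synthInstance.maxSize 2000
set_option synthInstance.maxHeartbeats 400000

namespace CfsgLib.ThreeEight

open Equiv

/-- `S₃ × S₅`. -/
abbrev P35 : Type := Perm (Fin 3) × Perm (Fin 5)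

/-- The product of the two signs. -/
abbrev sgn35 : P35 →* ℤˣ :=
  (Perm.sign.comp (MonoidHom.fst (Perm (Fin 3)) (Perm (Fin 5)))) *
    (Perm.sign.comp (MonoidHom.snd (Perm (Fin 3)) (Perm (Fin 5))))

/-- The pairs with agreeing signs. -/
abbrev L35 : Subgroup P35 := sgn35.ker

theorem mem_L35 {x : P35} : x ∈ L35 ↔ Perm.sign x.1 * Perm.sign x.2 = 1 := Iff.rfl

/-- An element of `L35` from a pair. -/
def mkL (x : P35) (h : Perm.sign x.1 * Perm.sign x.2 = 1) : L35 := ⟨x, h⟩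

/-- `(0 1 2)`. -/
def eZ : L35 := mkL (swap 0 1 * swap 1 2, 1) (by decide)
/-- `(5 6 7)`. -/
def eS : L35 := mkL (1, swap 2 3 * swap 3 4) (by decide)
/-- `(0 1)(3 4)`. -/
def eD₁ : L35 := mkL (swap 0 1, swap 0 1) (by decide)
/-- `(3 4)(5 6)`. -/
def eD₂ : L35 := mkL (1, swap 0 1 * swap 2 3) (by decide)
/-- `(4 5)(6 7)`. -/
def eT : L35 := mkL (1, swap 1 2 * swap 3 4) (by decide)
/-- `(4 6)(5 7)`. -/
def eV : L35 := mkL (1, swap 1 3 * swap 2 4) (by decide)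
/-- `(0 1)(4 5)`. -/
def eC : L35 := mkL (swap 0 1, swap 1 2) (by decide)

/-- The automorphism induced by `(3 4)`. -/
def twist : L35 →* L35 where
  toFun l := mkL (l.1.1, swap 0 1 * l.1.2 * swap 0 1) (by
    have h := mem_L35.1 l.2
    simpa [map_mul, Perm.sign_swap, mul_comm, mul_left_comm, mul_assoc] using h)
  map_one' := by
    apply Subtype.ext
    simp [mkL]
  map_mul' a b := by
    apply Subtype.ext
    simp [mkL, mul_assoc]

theorem twist_twist (l : L35) : twist (twist l) = l := by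
  apply Subtype.ext
  simp [twist, mkL, mul_assoc]

theorem twist_fix : twist eZ = eZ ∧ twist eS = eS ∧ twist eD₁ = eD₁ ∧ twist eD₂ = eD₂ := by
  refine ⟨?_, ?_, ?_, ?_⟩ <;> (apply Subtype.ext; decide +kernel)

/-- The candidate elements `Z^a S^b D₁^p D₂^q` of the stabilizer of the two lines. -/
def e36 (x : Fin 3 × Fin 3 × Fin 2 × Fin 2) : P35 :=
  (eZ : P35) ^ x.1.val * (eS : P35) ^ x.2.1.val * (eD₁ : P35) ^ x.2.2.1.val *
    (eD₂ : P35) ^ x.2.2.2.val

/-- The nine elements `Z^a S^b`. -/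
def nine (x : Fin 3 × Fin 3) : P35 := (eZ : P35) ^ x.1.val * (eS : P35) ^ x.2.val

theorem rels_base :
    (eZ : P35) ^ 3 = 1 ∧ (eS : P35) ^ 3 = 1 ∧ (eD₁ : P35) ^ 2 = 1 ∧ (eD₂ : P35) ^ 2 = 1 ∧
    (eZ : P35) * eS = eS * eZ ∧ (eD₁ : P35) * eS = eS * eD₁ ∧ (eD₂ : P35) * eZ = eZ * eD₂ ∧
    (eD₁ : P35) * eZ * eD₁ = eZ ^ 2 ∧ (eD₂ : P35) * eS * eD₂ = eS ^ 2 ∧
    (eD₁ : P35) * eD₂ = eD₂ * eD₁ := by decide +kernel

theorem e36_injective : Function.Injective e36 := by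
  intro x y
  revert x y
  decide +kernel

/-- The only normal subgroup of order three. -/
theorem normal_three_aux : ∀ l : P35, l ^ 3 = 1 → l ≠ 1 →
    (∀ m ∈ ([(eS : P35), (eD₁ : P35), (eV : P35)] : List P35),
      m * l * m⁻¹ = l ∨ m * l * m⁻¹ = l⁻¹) →
      l = eZ ∨ l = (eZ : P35)⁻¹ := by
  decide +kernel

theorem normal_three {l : P35} (h3 : l ^ 3 = 1) (h1 : l ≠ 1)
    (h : ∀ m : P35, m ∈ L35 → m * l * m⁻¹ = l ∨ m * l * m⁻¹ = l⁻¹) :
    l = eZ ∨ l = (eZ : P35)⁻¹ :=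
  normal_three_aux l h3 h1 fun m hm => h m (by
    simp only [List.mem_cons, List.not_mem_nil, or_false] at hm
    rcases hm with rfl | rfl | rfl
    exacts [eS.2, eD₁.2, eV.2])

/-- Sylow 3-subgroups through `Z` are conjugate in the centralizer of `Z`. -/
theorem three_conj : ∀ b : Perm (Fin 5), b ^ 3 = 1 →
    ∃ b' : Perm (Fin 5), Perm.sign b' = 1 ∧ ∃ k : Fin 3,
      b' * b * b'⁻¹ = (eS : P35).2 ^ k.val := by
  decide +kernel

/-- Elements of order three commuting with `Z` have first coordinate in `⟨Z⟩`. -/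
theorem three_fst : ∀ a : Perm (Fin 3), a * (eZ : P35).1 = (eZ : P35).1 * a →
    ∃ k : Fin 3, a = (eZ : P35).1 ^ k.val := by
  decide +kernel

/-- The centralizer of `Z` has 180 elements. -/
theorem card_centralizer_eZ :
    (Finset.univ.filter fun l : P35 =>
      Perm.sign l.1 * Perm.sign l.2 = 1 ∧ l * eZ = eZ * l).card = 180 := by
  decide +kernel

/-- The stabilizer of the nine elements. -/
theorem stab_nine : ∀ l : P35, l ∈ L35 → (∃ x, l * eS * l⁻¹ = nine x) → ∃ e, l = e36 e := by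
  simp only [mem_L35]
  decide +kernel

/-- The lines of the nine elements normalized by the stabilizer. -/
theorem normal_lines : ∀ x : Fin 3 × Fin 3, nine x ≠ 1 →
    (eD₁ : P35) * nine x * eD₁ = nine x ∨ (eD₁ : P35) * nine x * eD₁ = (nine x)⁻¹ →
      nine x = eZ ∨ nine x = (eZ : P35)⁻¹ ∨ nine x = eS ∨ nine x = (eS : P35)⁻¹ := by
  decide +kernel

/-- Involutions of the stabilizer centralizing one line and inverting the other. -/
theorem invol_e36 : ∀ e, e36 e * e36 e = 1 →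
    (e36 e * eZ = eZ * e36 e → e36 e * eS * e36 e = (eS : P35) ^ 2 →
      ∃ k : Fin 3, (eS : P35) ^ k.val * e36 e * ((eS : P35) ^ k.val)⁻¹ = eD₂) ∧
    (e36 e * eS = eS * e36 e → e36 e * eZ * e36 e = (eZ : P35) ^ 2 →
      ∃ k : Fin 3, (eZ : P35) ^ k.val * e36 e * ((eZ : P35) ^ k.val)⁻¹ = eD₁) := by
  decide +kernel

/-- The four elements of `V`. -/
def four (x : Fin 2 × Fin 2) : P35 := (eT : P35) ^ x.1.val * (eV : P35) ^ x.2.val

theorem invol_fst : ∀ a : Perm (Fin 3), a * a = 1 → a ≠ 1 →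
    Perm.sign a = -1 ∧ ∀ e : ℤˣ, ∃ a' : Perm (Fin 3), Perm.sign a' = e ∧
      a' * a * a'⁻¹ = swap 0 1 := by
  decide +kernel

theorem invol_snd : ∀ b : Perm (Fin 5), b * b = 1 → b ≠ 1 →
    (Perm.sign b = 1 → ∃ b' : Perm (Fin 5), Perm.sign b' = 1 ∧
        b' * b * b'⁻¹ = swap 1 2 * swap 3 4) ∧
    (Perm.sign b = -1 → ∃ b' : Perm (Fin 5), Perm.sign b' = 1 ∧
        b' * b * b'⁻¹ = swap 0 1) := by
  decide +kernel

/-- All involutions are conjugate to `T` or to `D₁`. -/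
theorem invol_conj {l : P35} (hl : l ∈ L35) (h2 : l * l = 1) (h1 : l ≠ 1) :
    ∃ m : P35, m ∈ L35 ∧ (m * l * m⁻¹ = eT ∨ m * l * m⁻¹ = eD₁) := by
  rw [mem_L35] at hl
  have ha : l.1 * l.1 = 1 := congrArg Prod.fst h2
  have hb : l.2 * l.2 = 1 := congrArg Prod.snd h2
  by_cases a1 : l.1 = 1
  · rw [a1, map_one, one_mul] at hl
    have b1 : l.2 ≠ 1 := fun b1 => h1 (Prod.ext a1 b1)
    obtain ⟨b', hs, hb'⟩ := (invol_snd l.2 hb b1).1 hl
    exact ⟨(1, b'), by simp [hs], Or.inl (Prod.ext (by simp [a1, eT, mkL]) hb')⟩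
  · obtain ⟨hsa, hconj⟩ := invol_fst l.1 ha a1
    rw [hsa, neg_one_mul, neg_eq_iff_eq_neg] at hl
    have b1 : l.2 ≠ 1 := fun b1 => by rw [b1, map_one] at hl; exact absurd hl (by decide)
    obtain ⟨b', hs, hb'⟩ := (invol_snd l.2 hb b1).2 hl
    obtain ⟨a', hsa', ha'⟩ := hconj 1
    exact ⟨(a', b'), by simp [hs, hsa'], Or.inr (Prod.ext ha' hb')⟩

theorem eD₂_conj : ∃ m : P35, m ∈ L35 ∧ m * eD₂ * m⁻¹ = eT := by
  simp only [mem_L35]
  decide +kernel

theorem four_facts :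
    (eT : P35) ^ 2 = 1 ∧ (eV : P35) ^ 2 = 1 ∧ (eC : P35) ^ 2 = 1 ∧ (eT : P35) * eV = eV * eT ∧
    (eT : P35) * eC = eC * eT ∧ (eV : P35) * eC ≠ eC * eV ∧ (eT : P35) * eV * eC ≠ eC * (eT * eV) ∧
    (eT : P35) * eZ = eZ * eT ∧ (eV : P35) * eZ = eZ * eV ∧
    (eS : P35) * eT * (eS : P35)⁻¹ ≠ eT ∧
    (∃ x, (eS : P35) * eT * (eS : P35)⁻¹ = four x) ∧
    (∃ x, (eS : P35) * eV * (eS : P35)⁻¹ = four x) ∧
    (∃ x, (eC : P35) * eV * eC = four x) := by
  decide +kernel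

/-- Elements centralizing `V` and normalizing `⟨Z⟩` centralize `Z`. -/
theorem cent_four : ∀ l : P35, l ∈ L35 → l * eT = eT * l → l * eV = eV * l →
    l * eZ = eZ * l ∧ ∃ a x, l = (eZ : P35) ^ (a : Fin 3).val * four x := by
  simp only [mem_L35]
  decide +kernel

theorem four_not_comm_y : ∀ x, four x * (eZ * eS) = (eZ * eS : P35) * four x → four x = 1 := by
  decide +kernel

end CfsgLib.ThreeEight
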