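import Cfsg.Agent.Lib.Recognition.ThreeEight.Hom
import Cfsg.Agent.Lib.Recognition.ThreeEight.Alt

/-!
The image of the alternating group of degree eight: centralizers of 3-elements and the two
classes of involutions.
-/

set_option autoImplicit false
set_option linter.style.haveILetI false
set_option maxRecDepth 10000

namespace CfsgLib.ThreeEight

open Subgroup Equiv Alt

/-- A frame pair together with the glued embedding. -/
structure Emb (G : Type*) [Group G] extends Frames G where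
  f : alternatingGroup (Fin 8) →* G
  injf : Function.Injective f
  f₁ : ∀ l, f (j₁ l) = i₁ l
  f₂ : ∀ l, f (j₂ l) = i₂ l

variable {G : Type*} [Group G]

theorem Frame.exists_emb [Finite G] (F : Frame G) : Nonempty (Emb G) := by
  obtain ⟨E, -, hE⟩ := F.exists_frames_choice
  obtain ⟨f, hf, h1, h2⟩ := E.exists_hom hE
  exact ⟨⟨E, f, hf, h1, h2⟩⟩

/-- `(1 5 7 3 6 4 2)`, carrying `(0 2 4)(1 3 5)` to `(0 1 2)(5 6 7)`. -/
def cdP : Perm (Fin 8) := swap 1 5 * swap 5 7 * swap 7 3 * swap 3 6 * swap 6 4 * swap 4 2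

/-- `(0 6)(1 5)(2 7)(3 4)`. -/
def yP' : Perm (Fin 8) := swap 0 6 * swap 1 5 * swap 2 7 * swap 3 4

theorem j₀_facts :
    j₀ eT = tP ∧ j₀ eV = vP ∧ cdP * dP * cdP⁻¹ = j₀ (nineL (1, 1)) ∧ Perm.sign cdP = 1 ∧
    Perm.sign yP' = 1 ∧ yP' * yP' = 1 ∧ yP * yP = 1 ∧ yP' ≠ 1 ∧
    (∀ a b : Fin 3, a ≠ 0 → b ≠ 0 →
      yP * j₀ (nineL (a, b)) = j₀ (nineL (a, b)) * yP ∨
      yP' * j₀ (nineL (a, b)) = j₀ (nineL (a, b)) * yP') := by
  refine ⟨?_, ?_, ?_, ?_, ?_, ?_, ?_, ?_, ?_⟩ <;> decide +kernel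

theorem invol_facts :
    tP * tP = 1 ∧ tP ≠ 1 ∧ vP * vP = 1 ∧ vP ≠ 1 ∧ cP * cP = 1 ∧ cP ≠ 1 ∧ bP * bP = 1 ∧ bP ≠ 1 ∧
    yP ≠ 1 := by
  refine ⟨?_, ?_, ?_, ?_, ?_, ?_, ?_, ?_, ?_⟩ <;> decide +kernel

namespace Emb

variable (E : Emb G)

/-- The image of `A₈`. -/
def K : Subgroup G := E.f.range

/-- The image of an even permutation. -/
def φ (x : Perm (Fin 8)) : G :=
  if h : Perm.sign x = 1 then E.f ⟨x, Perm.mem_alternatingGroup.2 h⟩ else 1

theorem φ_coe (a : alternatingGroup (Fin 8)) : E.φ a = E.f a := by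
  rw [φ, dif_pos (Perm.mem_alternatingGroup.1 a.2)]

theorem φ_mem (x : Perm (Fin 8)) : E.φ x ∈ E.K := by
  unfold φ
  split
  · exact ⟨_, rfl⟩
  · exact one_mem _

theorem exists_of_mem {g : G} (hg : g ∈ E.K) : ∃ x, Perm.sign x = 1 ∧ g = E.φ x := by
  obtain ⟨a, rfl⟩ := hg
  exact ⟨a, Perm.mem_alternatingGroup.1 a.2, (E.φ_coe a).symm⟩

theorem φ_mul {x y : Perm (Fin 8)} (hx : Perm.sign x = 1) (hy : Perm.sign y = 1) :
    E.φ x * E.φ y = E.φ (x * y) := by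
  rw [φ, dif_pos hx, φ, dif_pos hy, φ, dif_pos (by rw [map_mul, hx, hy, one_mul]), ← map_mul]
  rfl

theorem φ_one : E.φ 1 = 1 := by
  rw [show (1 : Perm (Fin 8)) = ((1 : alternatingGroup (Fin 8)) : Perm (Fin 8)) from rfl, φ_coe,
    map_one]

theorem φ_inv {x : Perm (Fin 8)} (hx : Perm.sign x = 1) : (E.φ x)⁻¹ = E.φ x⁻¹ :=
  inv_eq_of_mul_eq_one_right (by
    rw [E.φ_mul hx (by rw [map_inv, hx, inv_one]), mul_inv_cancel, φ_one])

theorem φ_conj {k x : Perm (Fin 8)} (hk : Perm.sign k = 1) (hx : Perm.sign x = 1) :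
    E.φ k * E.φ x * (E.φ k)⁻¹ = E.φ (k * x * k⁻¹) := by
  rw [E.φ_inv hk, E.φ_mul hk hx, E.φ_mul (by rw [map_mul, hk, hx, one_mul])
    (by rw [map_inv, hk, inv_one])]

theorem φ_inj {x y : Perm (Fin 8)} (hx : Perm.sign x = 1) (hy : Perm.sign y = 1)
    (h : E.φ x = E.φ y) : x = y := by
  rw [φ, dif_pos hx, φ, dif_pos hy] at h
  exact congrArg Subtype.val (E.injf h)

theorem φ_comm {x y : Perm (Fin 8)} (hx : Perm.sign x = 1) (hy : Perm.sign y = 1) :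
    E.φ x * E.φ y = E.φ y * E.φ x ↔ x * y = y * x := by
  rw [E.φ_mul hx hy, E.φ_mul hy hx]
  exact ⟨E.φ_inj (by rw [map_mul, hx, hy, one_mul]) (by rw [map_mul, hx, hy, one_mul]),
    congrArg _⟩

theorem φ_pow {x : Perm (Fin 8)} (hx : Perm.sign x = 1) : ∀ n : ℕ, E.φ x ^ n = E.φ (x ^ n)
  | 0 => by rw [pow_zero, pow_zero, φ_one]
  | n + 1 => by
    rw [pow_succ, φ_pow hx n, E.φ_mul (by rw [map_pow, hx, one_pow]) hx, pow_succ]

theorem sign_j₀_coe (l : L35) : Perm.sign (j₀ l) = 1 := (sign_j₀ _).trans (mem_L35.1 l.2)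

theorem i₁_eq (l : L35) : E.i₁ l = E.φ (j₀ l) := by
  rw [← E.f₁, ← coe_j₁, φ_coe]

theorem T_eq : E.i₁ eT = E.φ tP := by rw [i₁_eq, j₀_facts.1]
theorem V_eq : E.i₁ eV = E.φ vP := by rw [i₁_eq, j₀_facts.2.1]

theorem i₁_mem (l : L35) : E.i₁ l ∈ E.K := ⟨j₁ l, E.f₁ l⟩
theorem i₂_mem (l : L35) : E.i₂ l ∈ E.K := ⟨j₂ l, E.f₂ l⟩

theorem D_le : E.D ≤ E.K := fun d hd => by
  obtain ⟨x, rfl⟩ := (E.memD d).1 hd
  exact E.i₁_mem _

theorem normalizer_Z_le :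
    normalizer ((zpowers (E.i₁ eZ) : Subgroup G) : Set G) ≤ E.K := by
  rw [← E.range_eq]
  rintro _ ⟨l, rfl⟩
  exact E.i₁_mem l

theorem centralizer_dP_aux [Finite G] {a b : Fin 3} (ha : a ≠ 0) (hb : b ≠ 0) :
    centralizer ({E.i₁ (nineL (a, b))} : Set G) ≤ E.K := by
  haveI : Fact (Nat.Prime 2) := ⟨Nat.prime_two⟩
  set d := E.i₁ (nineL (a, b))
  set C := centralizer ({d} : Set G)
  obtain ⟨i, hiK, hiC, hi⟩ : ∃ i ∈ E.K, i ∈ C ∧ orderOf i = 2 := by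
    obtain ⟨f1, f2, -, -, s', y2', y2, y1', hy⟩ := j₀_facts
    have key : ∀ y : Perm (Fin 8), Perm.sign y = 1 → y * y = 1 → y ≠ 1 →
        y * j₀ (nineL (a, b)) = j₀ (nineL (a, b)) * y → ∃ i ∈ E.K, i ∈ C ∧ orderOf i = 2 := by
      intro y hs h2 h1 hc
      refine ⟨_, E.φ_mem y, mem_centralizer_singleton_iff.2 ?_, orderOf_eq_prime ?_ fun e => h1 ?_⟩
      · show E.φ y * d = d * E.φ y
        simp only [d, i₁_eq]
        exact (E.φ_comm hs (sign_j₀_coe _)).2 hc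
      · rw [pow_two, E.φ_mul hs hs, h2, φ_one]
      · exact E.φ_inj hs (map_one _) (e.trans E.φ_one.symm)
    rcases hy a b ha hb with h | h
    · exact key yP basic_facts.2.2.2.2.2.2.2.2.1 y2 invol_facts.2.2.2.2.2.2.2.2 h
    · exact key yP' s' y2' y1' h
  have hD : E.D ≤ E.K ⊓ C :=
    le_inf E.D_le (E.toFrame.le_centralizer (E.toFrame.nine_mem _))
  have h9 : 9 ∣ Nat.card (E.K ⊓ C : Subgroup G) := E.card_D ▸ card_dvd_of_le hD
  have h2 : 2 ∣ Nat.card (E.K ⊓ C : Subgroup G) :=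
    hi ▸ Subgroup.orderOf_dvd_natCard _ ⟨hiK, hiC⟩
  have h18 : 18 ∣ Nat.card (E.K ⊓ C : Subgroup G) :=
    Nat.Coprime.mul_dvd_of_dvd_of_dvd (show Nat.Coprime 9 2 by norm_num) h9 h2
  have hC : Nat.card C = 18 := E.card_centralizer_off ha hb
  have heq : E.K ⊓ C = C :=
    eq_of_le_of_card_ge inf_le_right (hC ▸ Nat.le_of_dvd Nat.card_pos h18)
  exact heq ▸ inf_le_left

/-- Centralizers of the elements of `D` lie in the image. -/
theorem centralizer_le [Finite G] {d : G} (hd : d ∈ E.D) (h1 : d ≠ 1) :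
    centralizer ({d} : Set G) ≤ E.K := by
  obtain ⟨⟨a, b⟩, rfl⟩ := (E.memD d).1 hd
  have hline : ∀ (w : G) (a : Fin 3), a ≠ 0 → w ^ 3 = 1 →
      centralizer ({w ^ a.val} : Set G) = centralizer ({w} : Set G) := by
    intro w a ha hw
    fin_cases a
    · exact absurd rfl ha
    · simp
    · show centralizer ({w ^ 2} : Set G) = _
      rw [show w ^ 2 = w⁻¹ from eq_inv_of_mul_eq_one_left (by rw [← pow_succ, hw]), centralizer_inv]
  by_cases hb : b = 0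
  · subst hb
    have ha : a ≠ 0 := fun ha => h1 (by simp [ha, nineL])
    rw [show E.i₁ (nineL (a, 0)) = E.i₁ eZ ^ a.val by simp [nineL],
      hline _ a ha (by rw [← map_pow, eZ_pow, map_one])]
    intro g hg
    obtain ⟨l, rfl, -⟩ := E.toFrame.exists_of_commute (mem_centralizer_singleton_iff.1 hg)
    exact E.i₁_mem l
  by_cases ha : a = 0
  · subst ha
    rw [show E.i₁ (nineL (0, b)) = E.i₁ eS ^ b.val by simp [nineL],
      hline _ b hb (by rw [← map_pow, eS_pow, map_one])]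
    intro g hg
    obtain ⟨l, rfl, -⟩ := E.toFrames.exists_of_commute_S (mem_centralizer_singleton_iff.1 hg)
    exact E.i₂_mem l
  exact E.centralizer_dP_aux ha hb

theorem centralizer_dP [Finite G] {g : G} (hg : g * E.φ dP = E.φ dP * g) : g ∈ E.K := by
  obtain ⟨-, -, hcd, hs, -⟩ := j₀_facts
  have hsd : Perm.sign dP = 1 := basic_facts.2.2.2.2.2.2.1
  have h : E.φ cdP * g * (E.φ cdP)⁻¹ ∈ E.K := by
    apply E.centralizer_dP_aux (a := 1) (b := 1) (by decide) (by decide)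
    rw [mem_centralizer_singleton_iff, i₁_eq, ← hcd, ← E.φ_conj hs hsd]
    calc E.φ cdP * g * (E.φ cdP)⁻¹ * (E.φ cdP * E.φ dP * (E.φ cdP)⁻¹)
        = E.φ cdP * (g * E.φ dP) * (E.φ cdP)⁻¹ := by group
      _ = _ := by rw [hg]; group
  have h' := mul_mem (mul_mem (inv_mem (E.φ_mem cdP)) h) (E.φ_mem cdP)
  rwa [show (E.φ cdP)⁻¹ * (E.φ cdP * g * (E.φ cdP)⁻¹) * E.φ cdP = g by group] at h'

theorem isConj_of_moves {x y : Perm (Fin 8)} (hx : Perm.sign x = 1) (hy : Perm.sign y = 1)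
    (hx2 : x * x = 1) (hx1 : x ≠ 1) (hy2 : y * y = 1) (hy1 : y ≠ 1) (h : moves x = moves y) :
    ∃ k ∈ E.K, k * E.φ x * k⁻¹ = E.φ y := by
  obtain ⟨c, hc, e⟩ := Alt.isConj_of_moves hx2 hx1 hy2 hy1 h
  exact ⟨_, E.φ_mem c, by rw [E.φ_conj hc hx, e]⟩

theorem not_isConj_tb [Finite G] : ¬ IsConj (E.φ tP) (E.φ bP) := by
  intro h
  obtain ⟨st, sv, sc, sb, -, -, -, -, sy, -, -, -, mb, my, -⟩ := basic_facts
  obtain ⟨-, -, -, -, -, -, y2, -, hy⟩ := j₀_facts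
  obtain ⟨-, -, -, -, -, -, b2, b1, y1⟩ := invol_facts
  obtain ⟨k, -, hk⟩ := E.isConj_of_moves sb sy b2 b1 y2 y1 (mb.trans my.symm)
  have h' : IsConj (E.i₁ eT) (E.φ yP) := by
    rw [T_eq]; exact h.trans (isConj_iff.2 ⟨k, hk⟩)
  rcases hy 1 1 (by decide) (by decide) with e | e
  · refine E.toFrames.not_isConj_T (a := 1) (b := 1) (by decide) (by decide) ?_ h'
    rw [i₁_eq]
    exact (E.φ_comm sy (sign_j₀_coe _)).2 e
  · exact absurd e (by decide +kernel)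

/-- An involution of the image conjugate to `t` moves four points. -/
theorem moves_of_isConj [Finite G] {x : Perm (Fin 8)} (hx : Perm.sign x = 1)
    (h : IsConj (E.φ tP) (E.φ x)) : moves x = 4 ∧ x * x = 1 ∧ x ≠ 1 := by
  obtain ⟨st, -, -, sb, -, -, -, -, -, mt, -, -, mb, -, -⟩ := basic_facts
  obtain ⟨t2, t1, -, -, -, -, b2, b1, -⟩ := invol_facts
  obtain ⟨c, hc⟩ := isConj_iff.1 h
  have h2 : x * x = 1 := by
    refine E.φ_inj (by rw [map_mul, hx, one_mul]) (map_one _) ?_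
    rw [← E.φ_mul hx hx, ← hc, show c * E.φ tP * c⁻¹ * (c * E.φ tP * c⁻¹) =
      c * (E.φ tP * E.φ tP) * c⁻¹ by group, E.φ_mul st st, t2, φ_one]
    group
  have h1 : x ≠ 1 := by
    rintro rfl
    rw [φ_one, mul_inv_eq_one, mul_eq_left] at hc
    exact t1 (E.φ_inj st (map_one _) (hc.trans E.φ_one.symm))
  refine ⟨?_, h2, h1⟩
  rcases moves_cases hx h2 h1 with e | e
  · exact e
  · exfalso
    obtain ⟨k, -, hk⟩ := E.isConj_of_moves hx sb h2 h1 b2 b1 (e.trans mb.symm)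
    exact E.not_isConj_tb (h.trans (isConj_iff.2 ⟨k, hk⟩))

/-- An involution of the image is conjugate to `t` or to `b` within it. -/
theorem invol_K {g : G} (hg : g ∈ E.K) (h2 : orderOf g = 2) :
    ∃ k ∈ E.K, k * E.φ tP * k⁻¹ = g ∨ k * E.φ bP * k⁻¹ = g := by
  obtain ⟨x, hx, rfl⟩ := E.exists_of_mem hg
  obtain ⟨st, -, -, sb, -, -, -, -, -, mt, -, -, mb, -, -⟩ := basic_facts
  obtain ⟨t2, t1, -, -, -, -, b2, b1, -⟩ := invol_facts
  have hx1 : x ≠ 1 := by rintro rfl; simp [φ_one] at h2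
  have hx2 : x * x = 1 := by
    refine E.φ_inj (by rw [map_mul, hx, one_mul]) (map_one _) ?_
    rw [← E.φ_mul hx hx, φ_one, ← pow_two, ← h2, pow_orderOf_eq_one]
  rcases moves_cases hx hx2 hx1 with e | e
  · obtain ⟨k, hk, e'⟩ := E.isConj_of_moves st hx t2 t1 hx2 hx1 (mt.trans e.symm)
    exact ⟨k, hk, Or.inl e'⟩
  · obtain ⟨k, hk, e'⟩ := E.isConj_of_moves sb hx b2 b1 hx2 hx1 (mb.trans e.symm)
    exact ⟨k, hk, Or.inr e'⟩

end Emb

end CfsgLib.ThreeEight
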