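import Cfsg.Agent.Lib.Recognition.ThreeEight.CentB
import Cfsg.Agent.S0217

/-!
The signalizer functor on the elementary abelian group of order sixteen: the elements of order
prime to six of the involution centralizers are trivial, so those centralizers lie in the image.
-/

set_option autoImplicit false
set_option linter.style.haveILetI false
set_option linter.unusedSectionVars false
set_option maxRecDepth 10000
set_option synthInstance.maxSize 2000
set_option synthInstance.maxHeartbeats 400000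

namespace CfsgLib.ThreeEight

open Subgroup Equiv Alt

variable {G : Type*} [Group G]

/-- The elements of order prime to six centralizing `a` form a solvable subgroup. -/
def Good (a : G) : Prop :=
  (∀ x ∈ core6 a, Commute x a ∧ (orderOf x).Coprime 6) ∧ Group.IsSolvable (core6 a)

theorem core6_conj (g a : G) :
    core6 (g * a * g⁻¹) = (core6 a).map (MulAut.conj g).toMonoidHom := by
  rw [core6, core6, MonoidHom.map_closure]
  refine congrArg Subgroup.closure ?_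
  ext x
  simp only [Set.mem_image, MulEquiv.coe_toMonoidHom, MulAut.conj_apply]
  constructor
  · rintro ⟨hc, ho⟩
    refine ⟨g⁻¹ * x * g, ⟨?_, ?_⟩, by group⟩
    · show g⁻¹ * x * g * a = a * (g⁻¹ * x * g)
      calc g⁻¹ * x * g * a = g⁻¹ * (x * (g * a * g⁻¹)) * g := by group
        _ = a * (g⁻¹ * x * g) := by rw [hc.eq]; group
    · have e := orderOf_conj' g⁻¹ x
      rw [inv_inv] at e
      rwa [e]
  · rintro ⟨y, ⟨hc, ho⟩, rfl⟩
    exact ⟨hc.map (MulAut.conj g).toMonoidHom, by rwa [orderOf_conj']⟩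

theorem Good.conj {a : G} (h : Good a) (g : G) : Good (g * a * g⁻¹) := by
  refine ⟨fun x hx => ?_, ?_⟩
  · rw [core6_conj] at hx
    obtain ⟨y, hy, rfl⟩ := hx
    obtain ⟨hc, ho⟩ := h.1 y hy
    refine ⟨hc.map (MulAut.conj g).toMonoidHom, ?_⟩
    show (orderOf (g * y * g⁻¹)).Coprime 6
    rwa [orderOf_conj']
  · haveI := h.2
    rw [core6_conj]
    exact Group.isSolvable_of_surjective (f := ((core6 a).equivMapOfInjective
      (MulAut.conj g).toMonoidHom (MulAut.conj g).injective).toMonoidHom)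
      (MulEquiv.surjective _)

namespace Emb

variable [Finite G] (E : Emb G)

theorem good_t : Good (E.φ tP) := by
  rw [Good, E.core6_t]
  exact ⟨fun x hx => ⟨mem_centralizer_singleton_iff.1 (E.OT_le hx), E.OT_coprime hx⟩,
    isSolvable_of_comm fun a b => Subtype.ext (E.OT_comm a.2 b.2)⟩

theorem good_b : Good (E.φ bP) := by
  haveI : Fact (Nat.Prime 2) := ⟨Nat.prime_two⟩
  haveI : Fact (Nat.Prime 3) := ⟨Nat.prime_three⟩
  obtain ⟨Nb, hle, -, h3, hnil, -, -, h6, -⟩ := E.exists_nilpotent_b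
  haveI := hnil
  obtain ⟨Q, M, hM, hc⟩ :=
    CfsgLib.NilpotentSubgroups.hasNormalPComplement_of_nilpotent (p := 2) (N := Nb)
  haveI := hM
  have hM2 : ¬ 2 ∣ Nat.card M := (CfsgLib.Transfer.eq_pResidual_of_isComplement' Q M hc).2
  obtain ⟨n, hn⟩ : ∃ n, M.index = 2 ^ n := ⟨_, by
    rw [hc.symm.index_eq_card, Q.card_eq_multiplicity]⟩
  have hcore : core6 (E.φ bP) ≤ M.map Nb.subtype := by
    rw [core6, closure_le]
    rintro x ⟨hxb, hx⟩
    obtain ⟨m, hm⟩ := exists_pow_eq_self_of_coprime hx.symm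
    have hxN : x ∈ Nb := hm ▸ pow_mem (h6 x (E.mem_Cb.2 hxb.eq)) m
    refine ⟨⟨x, hxN⟩, ?_, rfl⟩
    rw [SetLike.mem_coe, ← QuotientGroup.eq_one_iff, ← orderOf_eq_one_iff]
    refine Nat.eq_one_of_dvd_coprimes (a := 2 ^ n) (b := orderOf x) ?_ ?_ ?_
    · exact (Nat.Coprime.coprime_dvd_right (by norm_num : 2 ∣ 6) hx).symm.pow_left n
    · rw [← hn, index_eq_card]; exact orderOf_dvd_natCard _
    · exact (orderOf_map_dvd (QuotientGroup.mk' M) _).trans (by rw [orderOf_mk])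
  have hcN : core6 (E.φ bP) ≤ Nb := hcore.trans (map_subtype_le _)
  refine ⟨fun x hx => ⟨E.mem_Cb.1 (hle (hcN hx)), ?_⟩, ?_⟩
  · refine coprime_six (fun h => hM2 ?_) fun h => h3 (h.trans (Nb.orderOf_dvd_natCard (hcN hx)))
    obtain ⟨y, hy, rfl⟩ := hcore hx
    have e : orderOf (Nb.subtype y) = orderOf y := orderOf_injective _ Nb.subtype_injective y
    rw [e] at h
    exact h.trans (M.orderOf_dvd_natCard hy)
  · haveI : Group.IsNilpotent ((core6 (E.φ bP)).subgroupOf Nb) := inferInstance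
    haveI : Group.IsNilpotent (core6 (E.φ bP)) :=
      Group.nilpotent_of_mulEquiv (subgroupOfEquivOfLe hcN)
    infer_instance

theorem good_K {a : G} (ha : a ∈ E.K) (h2 : orderOf a = 2) : Good a := by
  obtain ⟨k, -, rfl | rfl⟩ := E.invol_K ha h2
  · exact E.good_t.conj k
  · exact E.good_b.conj k

theorem pow_48 {a x : G} (ha : a ∈ E.K) (h2 : orderOf a = 2) (hx : x ∈ E.K) (hc : Commute x a) :
    x ^ 48 = 1 := by
  have key : ∀ p : Perm (Fin 8), Perm.sign p = 1 → (∀ y, y * p = p * y → y ^ 48 = 1) →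
      ∀ k ∈ E.K, k * E.φ p * k⁻¹ = a → x ^ 48 = 1 := by
    intro p sp hp k hk e
    obtain ⟨y, sy, hy⟩ := E.exists_of_mem (mul_mem (mul_mem (inv_mem hk) hx) hk)
    have hc' : Commute (k⁻¹ * x * k) (E.φ p) := by
      have := hc.map (MulAut.conj k⁻¹).toMonoidHom
      simpa [← e, mul_assoc] using this
    have hy48 : (k⁻¹ * x * k) ^ 48 = 1 := by
      rw [hy, E.φ_pow sy, hp y ((E.φ_comm sy sp).1 (hy ▸ hc'.eq)), φ_one]
    have hcp := conj_pow (i := 48) (a := k⁻¹) (b := x)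
    rw [inv_inv, hy48] at hcp
    calc x ^ 48 = k * (k⁻¹ * x ^ 48 * k) * k⁻¹ := by group
      _ = 1 := by rw [← hcp]; group
  obtain ⟨k, hk, e | e⟩ := E.invol_K ha h2
  · exact key tP basic_facts.1
      (fun y hy => by rw [show 48 = 24 * 2 from rfl, pow_mul, cent_t_pow hy, one_pow]) k hk e
  · exact key bP basic_facts.2.2.2.1 (fun y hy => cent_b_pow hy) k hk e

/-- The elements of order prime to six of the centralizers of `t` and `b` are trivial. -/
theorem core6_trivial : core6 (E.φ tP) = ⊥ ∧ core6 (E.φ bP) = ⊥ := by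
  haveI : Fact (Nat.Prime 2) := ⟨Nat.prime_two⟩
  haveI : Fact (Nat.Prime 3) := ⟨Nat.prime_three⟩
  have se : ∀ x, Perm.sign (e16 x) = 1 := fun x => (e16_facts x.1.1 x.1.2 x.2.1 x.2.2).1
  have h2z : ∀ x : (Fin 2 × Fin 2) × (Fin 2 × Fin 2), x + x = ((0, 0), (0, 0)) := by decide
  let A : Subgroup G :=
    { carrier := Set.range fun x => E.φ (e16 x)
      one_mem' := ⟨((0, 0), (0, 0)), by show E.φ _ = 1; rw [e16_zero, φ_one]⟩
      mul_mem' := by
        rintro _ _ ⟨x, rfl⟩ ⟨y, rfl⟩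
        exact ⟨x + y, by show E.φ _ = _; rw [E.φ_mul (se x) (se y), e16_add]⟩
      inv_mem' := by
        rintro _ ⟨x, rfl⟩
        refine ⟨x, eq_inv_of_mul_eq_one_left ?_⟩
        show E.φ _ * E.φ _ = 1
        rw [E.φ_mul (se x) (se x), e16_add, h2z, e16_zero, φ_one] }
  have hA : ∀ {g : G}, g ∈ A ↔ ∃ x, E.φ (e16 x) = g := Iff.rfl
  have hAK : A ≤ E.K := by
    rintro _ ⟨x, rfl⟩
    exact E.φ_mem _
  have hAc : ∀ a ∈ A, ∀ b ∈ A, a * b = b * a := by
    rintro _ ⟨x, rfl⟩ _ ⟨y, rfl⟩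
    show E.φ (e16 x) * E.φ (e16 y) = E.φ (e16 y) * E.φ (e16 x)
    rw [E.φ_mul (se x) (se y), E.φ_mul (se y) (se x), e16_add, e16_add, add_comm]
  have hAe : ∀ a ∈ A, a ^ 2 = 1 := by
    rintro _ ⟨x, rfl⟩
    show E.φ (e16 x) ^ 2 = 1
    rw [pow_two, E.φ_mul (se x) (se x), e16_add, h2z, e16_zero, φ_one]
  have hA16 : Nat.card A = 16 := by
    show Nat.card (Set.range fun x => E.φ (e16 x)) = 16
    rw [Nat.card_range_of_injective fun x y h => e16_injective (E.φ_inj (se x) (se y) h)]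
    simp
  have hA2 : ∀ a ∈ A, a ≠ 1 → orderOf a = 2 := fun a ha h1 => orderOf_eq_prime (hAe a ha) h1
  have hgood : ∀ a ∈ A, a ≠ 1 → Good a := fun a ha h1 => E.good_K (hAK ha) (hA2 a ha h1)
  obtain ⟨hodd, hcent⟩ := Cfsg.Agent.S0217.result (p := 2) A hAc hAe (by rw [hA16]; norm_num)
    core6
    (fun a ha h1 x hx => mem_centralizer_singleton_iff.2 ((hgood a ha h1).1 x hx).1.eq)
    (fun a ha h1 h => by
      obtain ⟨x, hx⟩ := exists_prime_orderOf_dvd_card' (G := core6 a) 2 h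
      have h' := ((hgood a ha h1).1 x x.2).2
      rw [orderOf_coe, hx] at h'
      norm_num at h')
    (fun a ha h1 b hb x hx => by
      obtain ⟨hc, ho⟩ := (hgood a ha h1).1 x hx
      refine subset_closure ⟨?_, by rwa [orderOf_conj']⟩
      have hba : Commute b a := hAc b hb a ha
      exact ((hba.mul_left hc).mul_left hba.inv_left))
    (fun a ha h1 => (hgood a ha h1).2)
    (fun a ha h1 b hb h1' x hx =>
      subset_closure ⟨mem_centralizer_singleton_iff.1 hx.2, ((hgood a ha h1).1 x hx.1).2⟩)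
  set W := ⨆ a : {a : G // a ∈ A ∧ a ≠ 1}, core6 (a : G) with hW
  haveI : IsMulCommutative A := ⟨⟨fun a b => Subtype.ext (hAc a a.2 b b.2)⟩⟩
  have hWn : ∀ g : G, (∀ a ∈ A, g * a * g⁻¹ ∈ A) → ∀ x ∈ W, g * x * g⁻¹ ∈ W := by
    intro g hg x hx
    have hle : W ≤ W.comap (MulAut.conj g).toMonoidHom := by
      rw [hW, iSup_le_iff]
      rintro ⟨a, ha, h1⟩ y hy
      have h' : (MulAut.conj g).toMonoidHom y ∈ core6 (g * a * g⁻¹) := by
        rw [core6_conj]; exact mem_map_of_mem _ hy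
      exact le_iSup (fun a : {a : G // a ∈ A ∧ a ≠ 1} => core6 (a : G))
        ⟨g * a * g⁻¹, hg a ha, fun e => h1 (by rwa [mul_inv_eq_one, mul_eq_left] at e)⟩ h'
    exact hle hx
  have hfin : ∀ (R : Subgroup G) (g : G), (∀ x ∈ R, g * x * g⁻¹ ∈ R) → g ∈ normalizer (R : Set G) := by
    intro R g hg
    refine mem_normalizer_iff.2 fun x => ⟨hg x, fun hx => ?_⟩
    have hinj : Function.Injective fun r : R => (⟨g * r * g⁻¹, hg r r.2⟩ : R) := fun a b e => by
      simpa using congrArg Subtype.val e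
    obtain ⟨r, hr⟩ := (Finite.injective_iff_surjective.1 hinj) ⟨g * x * g⁻¹, hx⟩
    have : (r : G) = x := by simpa using congrArg Subtype.val hr
    exact this ▸ r.2
  -- `W` meets the image trivially
  have hWK : W ⊓ E.K = ⊥ := by
    have hAn : A ≤ normalizer ((W ⊓ E.K : Subgroup G) : Set G) := by
      intro a ha
      exact hfin (W ⊓ E.K) a fun x hx => ⟨hWn a (fun b hb => mul_mem (mul_mem ha hb) (inv_mem ha)) x hx.1,
        E.K.mul_mem (E.K.mul_mem (hAK ha) hx.2) (E.K.inv_mem (hAK ha))⟩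
    have hcop : (Nat.card A).Coprime (Nat.card (W ⊓ E.K : Subgroup G)) := by
      rw [hA16, show 16 = 2 ^ 4 from rfl]
      exact (Nat.prime_two.coprime_iff_not_dvd.2
        fun h => hodd (h.trans (card_dvd_of_le inf_le_left))).pow_left 4
    have hnc : ¬ IsCyclic A := by
      intro hc
      obtain ⟨g, hg⟩ := hc.exists_generator
      have h := Nat.card_zpowers g
      rw [(eq_top_iff' _).2 hg, card_top, hA16] at h
      have h2 : orderOf g ∣ 2 := orderOf_dvd_of_pow_eq_one (Subtype.ext (hAe g g.2))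
      have := Nat.le_of_dvd (by norm_num) h2
      omega
    rw [eq_bot_iff, ← CfsgLib.CoprimeGeneration.iSup_centralizer_eq A _ hnc hAn hcop]
    refine iSup₂_le fun a ha x hx => ?_
    obtain ⟨haA, ha1⟩ := ha
    have hxa : x ∈ core6 a := by
      rw [← hcent a haA ha1]; exact ⟨hx.1.1, hx.2⟩
    obtain ⟨hc, ho⟩ := (hgood a haA ha1).1 x hxa
    exact mem_bot.2 (eq_one_of_coprime_six ho (E.pow_48 (hAK haA) (hA2 a haA ha1) hx.1.2 hc)
      eq_one_of_dvd_48)
  -- `D` normalizes `W`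
  have hDA : ∀ d ∈ E.D, ∀ a ∈ A, d * a * d⁻¹ ∈ A := by
    let N : Submonoid G :=
      { carrier := {g | ∀ a ∈ A, g * a * g⁻¹ ∈ A}
        one_mem' := fun a ha => by simpa using ha
        mul_mem' := fun {g h} hg hh a ha => by
          have := hg _ (hh a ha)
          simpa [mul_assoc] using this }
    have step : ∀ (w : L35), (∀ x, ∃ y, j₀ w * e16 x * (j₀ w)⁻¹ = e16 y) → E.i₁ w ∈ N := by
      rintro w hw _ ⟨x, rfl⟩
      obtain ⟨y, hy⟩ := hw x
      exact ⟨y, by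
        show E.φ (e16 y) = E.i₁ w * E.φ (e16 x) * (E.i₁ w)⁻¹
        rw [i₁_eq, E.φ_conj (sign_j₀_coe w) (se x), hy]⟩
    have hzj : j₀ eZ = swap 0 1 * swap 1 2 ∧ j₀ eS = swap 5 6 * swap 6 7 := by decide +kernel
    have hZ : E.i₁ eZ ∈ N := step eZ fun ⟨⟨a, b⟩, ⟨c, e⟩⟩ => by
      obtain ⟨a', b', h⟩ := zP_norm a b c e
      exact ⟨_, by rw [hzj.1, h]⟩
    have hS : E.i₁ eS ∈ N := step eS fun ⟨⟨a, b⟩, ⟨c, e⟩⟩ => by
      obtain ⟨c', e', h⟩ := sP'_norm a b c e
      exact ⟨_, by rw [hzj.2, h]⟩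
    intro d hd a ha
    obtain ⟨x, rfl⟩ := (E.memD d).1 hd
    have : E.i₁ (nineL x) ∈ N := by
      simp only [nineL, map_mul, map_pow]
      exact mul_mem (pow_mem hZ _) (pow_mem hS _)
    exact this a ha
  have hDW : E.D ≤ normalizer (W : Set G) := fun d hd => hfin W d (hWn d (hDA d hd))
  have hW3 : ¬ 3 ∣ Nat.card W := by
    intro h
    obtain ⟨P, hP⟩ := E.sylow
    obtain ⟨w, hw⟩ := exists_prime_orderOf_dvd_card' (G := W) 3 h
    set M := normalizer (W : Set G)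
    have hwM : (w : G) ∈ M := le_normalizer w.2
    obtain ⟨R, hR⟩ := (IsPGroup.of_card (p := 3) (n := 1) (G := zpowers (⟨w, hwM⟩ : M))
      (by rw [Nat.card_zpowers, orderOf_mk, orderOf_coe, hw, pow_one])).exists_le_sylow
    obtain ⟨g, hg⟩ := MulAction.exists_smul_eq M R (P.subtype (show (P : Subgroup G) ≤ M from hP ▸ hDW))
    have hmem : g * (⟨w, hwM⟩ : M) * g⁻¹ ∈ (P : Subgroup G).subgroupOf M := by
      have h1 : g * (⟨w, hwM⟩ : M) * g⁻¹ ∈ ((g • R : Sylow 3 M) : Subgroup M) := by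
        rw [Sylow.coe_subgroup_smul]
        exact ⟨_, hR (mem_zpowers _), rfl⟩
      rw [hg] at h1
      exact h1
    have hx : ((g : G) * w * (g : G)⁻¹) ∈ W ⊓ E.K :=
      ⟨(mem_normalizer_iff.1 g.2 _).1 w.2, E.D_le (hP ▸ mem_subgroupOf.1 hmem)⟩
    rw [hWK, mem_bot, mul_inv_eq_one, mul_eq_left] at hx
    rw [← orderOf_coe, hx, orderOf_one] at hw
    omega
  have hWbot : W = ⊥ := by
    haveI : IsMulCommutative E.D := ⟨⟨fun a b => Subtype.ext
      (mem_centralizer_singleton_iff.1 (E.toFrame.le_centralizer b.2 a.2))⟩⟩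
    have hnc : ¬ IsCyclic E.D := by
      intro hc
      obtain ⟨g, hg⟩ := hc.exists_generator
      have h := Nat.card_zpowers g
      rw [(eq_top_iff' _).2 hg, card_top, E.card_D] at h
      have h3 : orderOf g ∣ 3 := orderOf_dvd_of_pow_eq_one (Subtype.ext (E.toFrame.pow_three g.2))
      have := Nat.le_of_dvd (by norm_num) h3
      omega
    have hcop : (Nat.card E.D).Coprime (Nat.card W) := by
      rw [E.card_D, show 9 = 3 ^ 2 from rfl]
      exact (Nat.prime_three.coprime_iff_not_dvd.2 hW3).pow_left 2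
    rw [eq_bot_iff, ← CfsgLib.CoprimeGeneration.iSup_centralizer_eq E.D W hnc hDW hcop, ← hWK]
    exact iSup₂_le fun d hd => inf_le_inf_left _ (E.centralizer_le hd.1 hd.2)
  have hin : ∀ p, Perm.sign p = 1 → p ≠ 1 → (∃ x, e16 x = p) → core6 (E.φ p) = ⊥ := by
    intro p sp hp hx
    obtain ⟨x, rfl⟩ := hx
    rw [eq_bot_iff, ← hWbot]
    exact le_iSup (fun a : {a : G // a ∈ A ∧ a ≠ 1} => core6 (a : G))
      ⟨E.φ (e16 x), ⟨x, rfl⟩, fun e => hp (E.φ_inj sp (map_one _) (e.trans E.φ_one.symm))⟩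
  obtain ⟨-, -, -, -, hb, ht, -⟩ := tb_eq
  exact ⟨hin tP basic_facts.1 invol_facts.2.1 ⟨_, ht.symm⟩,
    hin bP basic_facts.2.2.2.1 invol_facts.2.2.2.2.2.2.2.1 ⟨_, hb.symm⟩⟩

theorem centralizer_t_le {g : G} (h : g * E.φ tP = E.φ tP * g) : g ∈ E.K := by
  obtain ⟨o, ho, k, hk, -, rfl⟩ := E.H_decomp h
  rw [← E.core6_t, E.core6_trivial.1, mem_bot] at ho
  rw [ho, one_mul]
  exact hk

theorem centralizer_b_le {g : G} (h : g * E.φ bP = E.φ bP * g) : g ∈ E.K := by
  haveI : Fact (Nat.Prime 2) := ⟨Nat.prime_two⟩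
  obtain ⟨Nb, hle, hn, h3, hnil, ha', ht, h6, hq⟩ := E.exists_nilpotent_b
  obtain ⟨st, -, -, sb, -⟩ := basic_facts
  haveI := hnil
  have hNK : Nb ≤ E.K := by
    by_contra hne
    set M := (E.K).subgroupOf Nb
    have hlt : M < ⊤ := lt_of_le_of_ne le_top fun e => hne (subgroupOf_eq_top.1 e)
    obtain ⟨⟨x, hxN⟩, hxn, hxM⟩ :=
      SetLike.exists_of_lt ((Group.normalizerCondition_of_isNilpotent (G := Nb)) M hlt)
    apply hxM
    show x ∈ E.K
    have htx : x * E.φ tP * x⁻¹ ∈ E.K :=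
      (mem_normalizer_iff.1 hxn ⟨E.φ tP, ht⟩).1 (E.φ_mem tP)
    have hmem := hn x (hle hxN) _ ht
    obtain ⟨f, hf, e⟩ := E.flip_of_mem Nb hn h3 ha' hmem htx (E.mem_Cb.1 (hle hmem))
      (isConj_iff.2 ⟨x, rfl⟩)
    obtain ⟨k, hkb, hks, hk⟩ := flips_conj f hf
    have hx' : ((E.φ k)⁻¹ * x) * E.φ tP = E.φ tP * ((E.φ k)⁻¹ * x) := by
      rw [← mul_inv_eq_iff_eq_mul, mul_inv_rev, inv_inv,
        show (E.φ k)⁻¹ * x * E.φ tP * (x⁻¹ * E.φ k) = (E.φ k)⁻¹ * (x * E.φ tP * x⁻¹) * E.φ k by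
          group, e, ← hk, ← E.φ_conj hks st]
      group
    have := mul_mem (E.φ_mem k) (E.centralizer_t_le hx')
    rwa [mul_inv_cancel_left] at this
  obtain ⟨k, hk, -, hgk⟩ := hq g (E.mem_Cb.2 h)
  exact (mul_mem_cancel_right hk).1 (hNK hgk)

end Emb

end CfsgLib.ThreeEight
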